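import Groth.Agent.Dix.K349.PicTow
import Groth.Agent.Ega2.LimPic

/-!
# Picard classes on `X × Spec (K ⊗ … ⊗ B)` and finitely generated subalgebras of `B`
-/

set_option autoImplicit false
set_option backward.isDefEq.respectTransparency false
set_option backward.isDefEq.respectTransparency.types false

universe u

open CategoryTheory CategoryTheory.Limits AlgebraicGeometry Opposite TensorProduct

namespace K349.LimP

open K349.Amit K349.GGFun K349.Tow K349.Tow2 K998.UnitCx Groth.Agent.Grpsch.PicGrp K349.PicTow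
  Groth.Agent.Etcore.FGLim

variable {k : Type u} [CommRing k] {X : Scheme.{u}} (f : X ⟶ Spec (CommRingCat.of k)) (K : Type u) [CommRing K]
  [Algebra k K] (B : Type u) [CommRing B] [Algebra k B]

/-- the diagram of schemes -/
noncomputable def dg (n : ℕ) : (FGSub k B)ᵒᵖ ⥤ Scheme.{u} where
  obj C := (Zn f K C.unop.1 n).left
  map a := (ze f K (Subalgebra.inclusion a.unop.le) n).left
  map_id C := by
    have h : Subalgebra.inclusion (𝟙 C : C ⟶ C).unop.le = AlgHom.id k C.unop.1 := rfl
    rw [h, ze_id]
    rfl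
  map_comp a b := by
    rw [← Over.comp_left, ze_ze]
    rfl

/-- the cone -/
noncomputable def cn (n : ℕ) : Cone (dg f K B n) where
  pt := (Zn f K B n).left
  π :=
    { app := fun C => (ze f K C.unop.1.val n).left
      naturality := fun C C' a => by
        change 𝟙 _ ≫ _ = (ze f K _ n).left ≫ (ze f K _ n).left
        rw [← Over.comp_left, ze_ze, Category.id_comp]
        rfl }

/-- the projection to the spectra -/
noncomputable def pj (n : ℕ) : dg f K B n ⟶ (fgSys k B).op ⋙ Scheme.Spec where
  app C := pC f K C.unop.1 n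
  naturality _ _ a := (isPullback_ze f K (Subalgebra.inclusion a.unop.le) n).w

/-- it is a limit -/
noncomputable def isLimitCn (n : ℕ) : IsLimit (cn f K B n) :=
  have : IsConnected (FGSub k B)ᵒᵖ := IsCofiltered.isConnected _
  isLimitOfIsPullbackOfIsConnected (pj f K B n) (cn f K B n) (Scheme.Spec.mapCone (fgCocone k B).op)
    { hom := pC f K B n
      w := fun C => (isPullback_ze f K C.unop.1.val n).w.symm }
    (fun C => isPullback_ze f K C.unop.1.val n) (isLimitOfPreserves Scheme.Spec (isColimitFG k B).op)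

theorem isAffineHom_map {C C' : Type u} [CommRing C] [Algebra k C] [CommRing C'] [Algebra k C'] (φ : C →ₐ[k] C')
    (n : ℕ) : IsAffineHom (ze f K φ n).left :=
  MorphismProperty.of_isPullback (isPullback_ze f K φ n).flip (inferInstanceAs (IsAffineHom (Spec.map _)))

variable [CompactSpace X] [QuasiSeparatedSpace X]

omit [CompactSpace X] [QuasiSeparatedSpace X] in
theorem isAffineHom_Zn (C : Type u) [CommRing C] [Algebra k C] (n : ℕ) : IsAffineHom (Zn f K C n).hom :=
  MorphismProperty.of_isPullback (IsPullback.of_hasPullback f (sO k (E k K C n)).hom).flip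
    (inferInstanceAs (IsAffineHom (Spec.map _)))

instance compactSpace_Zn (C : Type u) [CommRing C] [Algebra k C] (n : ℕ) : CompactSpace (Zn f K C n).left :=
  have := isAffineHom_Zn f K C n
  QuasiCompact.compactSpace_of_compactSpace (Zn f K C n).hom

instance quasiSeparatedSpace_Zn (C : Type u) [CommRing C] [Algebra k C] (n : ℕ) :
    QuasiSeparatedSpace (Zn f K C n).left :=
  have := isAffineHom_Zn f K C n
  quasiSeparatedSpace_of_quasiSeparated (Zn f K C n).hom

variable {B}

/-- Picard classes come from a finitely generated subalgebra. -/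
theorem exists_FG (n : ℕ) (x : Additive (Pic (Zn f K B n).left)) :
    ∃ C : FGSub k B, ∃ y : Additive (Pic (Zn f K C.1 n).left), pe f K C.1.val n y = x := by
  have h1 : ∀ {i j} (a : i ⟶ j), IsAffineHom ((dg f K B n).map a) := fun a => isAffineHom_map f K _ n
  have h2 : ∀ i, CompactSpace ((dg f K B n).obj i) := fun i => compactSpace_Zn f K i.unop.1 n
  have h3 : ∀ i, QuasiSeparatedSpace ((dg f K B n).obj i) := fun i => quasiSeparatedSpace_Zn f K i.unop.1 n
  obtain ⟨L, hL, hx⟩ := exists_mk x.toMul
  obtain ⟨i, M, hM, ⟨e⟩⟩ := Groth.Agent.Ega3B.LimInv.exists_invertible (dg f K B n) (cn f K B n)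
    (isLimitCn f K B n) (L := L) hL
  refine ⟨i.unop, Additive.ofMul (mk M hM), ?_⟩
  apply Additive.toMul.injective
  rw [hx]
  exact (mk_eq_iff _ _).2 ⟨e⟩

/-- Equality of Picard classes holds over a finitely generated subalgebra. -/
theorem exists_eq_FG (n : ℕ) (C : FGSub k B) (x y : Additive (Pic (Zn f K C.1 n).left))
    (h : pe f K C.1.val n x = pe f K C.1.val n y) :
    ∃ (C' : FGSub k B) (hle : C.1 ≤ C'.1), pe f K (Subalgebra.inclusion hle) n x = pe f K (Subalgebra.inclusion hle) n y := by
  have h1 : ∀ {i j} (a : i ⟶ j), IsAffineHom ((dg f K B n).map a) := fun a => isAffineHom_map f K _ n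
  have h2 : ∀ i, CompactSpace ((dg f K B n).obj i) := fun i => compactSpace_Zn f K i.unop.1 n
  have h3 : ∀ i, QuasiSeparatedSpace ((dg f K B n).obj i) := fun i => quasiSeparatedSpace_Zn f K i.unop.1 n
  obtain ⟨L, hL, hx⟩ := exists_mk x.toMul
  obtain ⟨M, hM, hy⟩ := exists_mk y.toMul
  obtain rfl : x = Additive.ofMul (mk L hL) := hx
  obtain rfl : y = Additive.ofMul (mk M hM) := hy
  obtain ⟨j, a, ⟨e⟩⟩ := Groth.Agent.Ega3B.LimInv.exists_iso (dg f K B n) (cn f K B n)
    (isLimitCn f K B n) (i := op C) (M := L) (N := M) hL hM ((mk_eq_iff _ _).1 (congrArg Additive.toMul h))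
  refine ⟨j.unop, a.unop.le, ?_⟩
  apply Additive.toMul.injective
  exact (mk_eq_iff _ _).2 ⟨e⟩

end K349.LimP
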