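import Groth.Agent.S0595
import Groth.Agent.S0600
import Groth.Agent.S0543
import Groth.Agent.S19379
import Groth.Agent.Gaga.H987.StalkGRing
import Groth.Agent.CalgB.RegHom6
import Groth.Agent.Sga2lef.H90.HensSec

/-!
# Points of finite type algebras over a separably closed field from points in a completion

`exists_point`: `k` separably closed, `R` a smooth `k`-algebra of finite type, `𝔪 ≠ R` an ideal. A finite type
`k`-algebra with a compatible system of maps to the `R / 𝔪 ^ n` has a `k`-point.
-/

set_option autoImplicit false
universe u

namespace K349.Pop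

/-- A compatible system of points in the infinitesimal neighbourhoods of an ideal of a smooth algebra over a
separably closed field forces the existence of a rational point. -/
theorem exists_point (k : Type u) [Field k] [IsSepClosed k] (R : Type u) [CommRing R] [Algebra k R]
    [Algebra.FormallySmooth k R] [Algebra.FiniteType k R] (m : Ideal R) (hm : m ≠ ⊤) (D : Type u) [CommRing D]
    [Algebra k D] [Algebra.FiniteType k D] (φ : ∀ n : ℕ, D →ₐ[k] R ⧸ m ^ n)
    (hφ : ∀ {a b : ℕ} (hle : a ≤ b), (Ideal.Quotient.factorₐ k (Ideal.pow_le_pow_right hle)).comp (φ b) = φ a) :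
    Nonempty (D →ₐ[k] k) := by
  have hR : IsNoetherianRing R := Algebra.FiniteType.isNoetherianRing k R
  have hC : IsNoetherianRing (AdicCompletion m R) := Groth.Agent.S0543.result R m
  have h1 : CAlg.IsRegularHom k R := Groth.Agent.S19379.result k R
  have h2 : CAlg.IsRegularHom R (AdicCompletion m R) :=
    Groth.Agent.S0600.result R (Groth.Agent.Gaga.H987.StalkGRing.isGRing_of_finiteType_field k R) m
  have h3 : CAlg.IsRegularHom k (AdicCompletion m R) :=
    Groth.Agent.CalgB.RegHom6.isRegularHom_comp h1 h2
  have hD : Algebra.FinitePresentation k D := Algebra.FinitePresentation.of_finiteType.mp inferInstance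
  obtain ⟨B, _, _, hB, g, h, -⟩ := Groth.Agent.S0595.result k (AdicCompletion m R) h3 D
    (AdicCompletion.liftAlgHom m φ hφ)
  have hnt : Nontrivial (AdicCompletion m R) := by
    have : Nontrivial (R ⧸ m ^ 1) := by
      rw [pow_one]
      exact Ideal.Quotient.nontrivial_iff.mpr hm
    exact (AdicCompletion.evalₐ m 1).toRingHom.domain_nontrivial
  have hBn : Nontrivial B := h.toRingHom.domain_nontrivial
  obtain ⟨σ⟩ := Groth.Agent.Sga2lef.H90.HensSec.exists_algHom_field (k := k) (Q := B)
  exact ⟨σ.comp g⟩

end K349.Pop
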