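import Groth.Agent.Dix.K349.Compat
import Groth.Agent.Dix.K349.LimP
import Groth.Agent.Dix.K349.Pop
import Groth.Agent.CAlg.K81.ComplTensor

/-!
# Brauer classes which die over infinitesimal neighbourhoods of a point of a smooth algebra

`exists_dat`: the completion of a noetherian algebra as a `Dat`.
`eq_zero`: `α ∈ H²(X, 𝔾ₘ)` vanishes if it dies on `X_K` and on the `X × Spec (R / 𝔪 ^ (n+1))`, `R` smooth.
-/

set_option autoImplicit false
set_option backward.isDefEq.respectTransparency false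
set_option backward.isDefEq.respectTransparency.types false

universe u

open CategoryTheory CategoryTheory.Limits AlgebraicGeometry Opposite TensorProduct

namespace K349.Algz

open K349.Amit K349.GGFun K349.Tow K349.Tow2 K349.UH K998.UnitCx Groth.Agent.Grpsch.PicGrp K349.HomAlg K349.PicTow
  K349.FormSys K349.Compat K349.LimP

section Dat

variable (k : Type u) [CommRing k] (R : Type u) [CommRing R] [IsNoetherianRing R] [Algebra k R] (m : Ideal R)

/-- evaluation -/
noncomputable def evk (n : ℕ) : AdicCompletion m R →ₐ[k] R ⧸ m ^ n := (AdicCompletion.evalₐ m n).restrictScalars k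

omit [IsNoetherianRing R] in
theorem factor_evk {a b : ℕ} (hle : a ≤ b) :
    (Ideal.Quotient.factorₐ k (Ideal.pow_le_pow_right hle)).comp (evk k R m b) = evk k R m a := by
  apply AlgHom.ext
  intro x
  obtain ⟨c, rfl⟩ := AdicCompletion.mk_surjective m R x
  change Ideal.Quotient.factor (Ideal.pow_le_pow_right hle) (AdicCompletion.evalₐ m b (AdicCompletion.mk m R c)) =
    AdicCompletion.evalₐ m a (AdicCompletion.mk m R c)
  rw [AdicCompletion.evalₐ_mk, AdicCompletion.evalₐ_mk, Ideal.Quotient.factor_mk, eq_comm,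
    Ideal.Quotient.eq]
  have h := c.2 hle
  rw [SModEq.sub_mem, smul_eq_mul, Ideal.mul_top] at h
  exact h

/-- The completion of `R` at `m` with its quotients. -/
noncomputable def dat : Dat k (AdicCompletion m R) (m.map (algebraMap R (AdicCompletion m R))) where
  B n := R ⧸ m ^ (n + 1)
  ε n := evk k R m (n + 1)
  ε_surj n := AdicCompletion.surjective_evalₐ m (n + 1)
  ker_ε n := K81.ComplTensor.ker_evalₐ m (IsNoetherian.noetherian m) (n + 1)
  τ n := Ideal.Quotient.factorₐ k (Ideal.pow_le_pow_right (Nat.le_succ (n + 1)))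
  τ_ε n := factor_evk k R m (Nat.le_succ (n + 1))

end Dat

section Main

variable {k : Type u} [Field k] [IsSepClosed k] {X : Scheme.{u}} (f : X ⟶ Spec (CommRingCat.of k)) [IsProper f]
  (hX : Function.Bijective (Groth.Agent.Sga3.H805.SecExt.str f ⊤)) (hdim : topologicalKrullDim X ≤ 1)
  (K : Type u) [CommRing K] [Algebra k K] [Nontrivial K] [Module.Finite k K]
  (hK : IsUH (Spec.map (CommRingCat.ofHom (algebraMap k K))))
  (R : Type u) [CommRing R] [Algebra k R] [Algebra.FormallySmooth k R] [Algebra.FiniteType k R]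
  (m : Ideal R) (hm : m ≠ ⊤) (hfin : ∀ n : ℕ, Module.Finite k (R ⧸ m ^ (n + 1)))
  (hloc : ∀ n : ℕ, IsLocalRing (R ⧸ m ^ (n + 1)))
  (hUH : ∀ n : ℕ, IsUH (Spec.map (CommRingCat.ofHom (algebraMap k (R ⧸ m ^ (n + 1))))))

include hX hdim hK hm hfin hloc hUH in
theorem eq_zero (α : EtCoh.H X (GG (Zn f K k 0)) 2) (h0 : Sheaf.H.map (DG f K k 0) 2 α = 0)
    (hα : ∀ n : ℕ, Sheaf.H.map (gmap (ze f K (Algebra.ofId k (R ⧸ m ^ (n + 1))) 0)) 2 α = 0) : α = 0 := by
  have hR : IsNoetherianRing R := Algebra.FiniteType.isNoetherianRing k R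
  have : CompactSpace X := QuasiCompact.compactSpace_of_compactSpace f
  have : QuasiSeparatedSpace X := quasiSeparatedSpace_of_quasiSeparated f
  let A := AdicCompletion m R
  let I : Ideal A := m.map (algebraMap R A)
  have hA : IsNoetherianRing A := Groth.Agent.S0543.result R m
  have hI : IsAdicComplete I A := (IsAdicComplete.map_algebraMap_iff _ _).2
    (AdicCompletion.isAdicComplete (IsNoetherian.noetherian m))
  let 𝔇 : Dat k A I := dat k R m
  have i1 : ∀ n, Module.Finite k (𝔇.B n) := hfin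
  have i2 : ∀ n, IsLocalRing (𝔇.B n) := hloc
  obtain ⟨ℓ, M, hM1, hM2, hfinal⟩ := exists_compat f hX hdim K hK 𝔇 hUH α h0 hα
  -- algebraisation
  obtain ⟨N, hN⟩ := exists_pic f K 𝔇 1 (fun m => (M m).toMul) (fun m => congrArg Additive.toMul (hM1 m))
  have hN' : ∀ n, pe f K (𝔇.ε n) 1 (Additive.ofMul N) = M n := fun n => congrArg Additive.ofMul (hN n)
  have hPD : PD f K A 1 (Additive.ofMul N) = pe f K (Algebra.ofId k A) 2 ℓ := by
    apply Additive.toMul.injective
    refine pic_eq f K 𝔇 2 _ _ fun n => ?_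
    have h1 : pe f K (𝔇.ε n) 2 (PD f K A 1 (Additive.ofMul N)) =
        pe f K (𝔇.ε n) 2 (pe f K (Algebra.ofId k A) 2 ℓ) := by
      rw [pe_PD, hN', hM2, pe_pe]
      congr 1
    exact congrArg Additive.toMul h1
  -- descent to a finitely generated subalgebra
  obtain ⟨C, P, hP⟩ := exists_FG f K 1 (Additive.ofMul N)
  obtain ⟨C', hle, hC'⟩ := exists_eq_FG f K 2 C (PD f K C.1 1 P) (pe f K (Algebra.ofId k C.1) 2 ℓ) (by
    rw [pe_PD, hP, hPD, pe_pe]
    congr 1)
  have hft : Algebra.FiniteType k C'.1 := C'.1.fg_iff_finiteType.1 C'.2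
  obtain ⟨σ⟩ := Pop.exists_point k R m hm C'.1 (fun n => (evk k R m n).comp C'.1.val) (fun {a b} hle => by
    rw [← AlgHom.comp_assoc, factor_evk k R m hle])
  refine hfinal (pe f K σ 1 (pe f K (Subalgebra.inclusion hle) 1 P)) ?_
  rw [← pe_PD, ← pe_PD, hC', pe_pe, pe_pe]
  have h2 : (σ.comp (Subalgebra.inclusion hle)).comp (Algebra.ofId k C.1) = AlgHom.id k k := Subsingleton.elim _ _
  rw [h2, pe_id]

end Main

end K349.Algz
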