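import Groth.Agent.StCoh.K998.UnitRep
import Mathlib.Algebra.Category.CommAlgCat.Basic
import Mathlib.RingTheory.Spectrum.Prime.RingHom
import Mathlib.LinearAlgebra.FreeModule.Finite.Basic
import Mathlib.RingTheory.Flat.FaithfullyFlat.Algebra

/-!
# The Amitsur complex of units with coefficients

`E k K C n = K ⊗ (K ⊗ … ⊗ C)` (`n` factors `K`), with faces `d n i : E n → E (n + 1)`.  For a `k`-algebra `A` and a
unit `z` of `A ⊗ E (m + 1)` with `D z = 0` the functor of solutions `y ∈ (B ⊗ E m)ˣ` of `D y = z` on `A`-algebras is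
represented by a smooth algebra with surjective structure map of spectra (`exists_solution`).
-/

set_option autoImplicit false
set_option linter.unusedSectionVars false
set_option backward.isDefEq.respectTransparency false
set_option backward.isDefEq.respectTransparency.types false

universe u v w

open TensorProduct

namespace K349.Amit

open K998.UnitCx

section Defs

variable (k K C : Type u) [CommRing k] [CommRing K] [CommRing C] [Algebra k K] [Algebra k C]

/-- `K ⊗ (K ⊗ … ⊗ C)` -/
noncomputable def E : ℕ → CommAlgCat.{u} k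
  | 0 => CommAlgCat.of k C
  | n + 1 => CommAlgCat.of k (K ⊗[k] (E n))

/-- faces -/
noncomputable def d : (n : ℕ) → Fin (n + 1) → (E k K C n →ₐ[k] E k K C (n + 1))
  | 0, _ => (Algebra.TensorProduct.includeRight : E k K C 0 →ₐ[k] K ⊗[k] E k K C 0)
  | n + 1, i => Fin.cases (motive := fun _ => E k K C (n + 1) →ₐ[k] E k K C (n + 1 + 1))
      (Algebra.TensorProduct.includeRight : E k K C (n + 1) →ₐ[k] K ⊗[k] E k K C (n + 1))
      (fun i => (Algebra.TensorProduct.map (AlgHom.id k K) (d n i) : K ⊗[k] E k K C n →ₐ[k] K ⊗[k] E k K C (n + 1))) i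

theorem d_zero (n : ℕ) : d k K C n 0 = (Algebra.TensorProduct.includeRight : E k K C n →ₐ[k] K ⊗[k] E k K C n) := by
  cases n <;> rfl

theorem d_succ (n : ℕ) (i : Fin (n + 1)) : d k K C (n + 1) i.succ =
    (Algebra.TensorProduct.map (AlgHom.id k K) (d k K C n i) : K ⊗[k] E k K C n →ₐ[k] K ⊗[k] E k K C (n + 1)) := rfl

theorem d_zero_apply (n : ℕ) (x : E k K C n) : d k K C n 0 x = (1 : K) ⊗ₜ[k] x := by
  rw [d_zero]; rfl

theorem d_succ_tmul (n : ℕ) (i : Fin (n + 1)) (b : K) (x : E k K C n) :
    d k K C (n + 1) i.succ (b ⊗ₜ[k] x) = b ⊗ₜ[k] (d k K C n i x) := rfl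

theorem simpl_apply : ∀ (n : ℕ) (j : Fin (n + 2)) (i : Fin (n + 1)) (x : E k K C n),
    d k K C (n + 1) j (d k K C n i x) = d k K C (n + 1) (j.succAbove i) (d k K C n (i.predAbove j) x)
  | n, j, i, x => by
    induction j using Fin.cases with
    | zero =>
      rw [Fin.succAbove_zero, Fin.predAbove_right_zero, d_zero_apply, d_zero_apply]
      rfl
    | succ j' =>
      induction i using Fin.cases with
      | zero =>
        rw [Fin.succ_succAbove_zero, Fin.predAbove_zero_succ, d_zero_apply, d_zero_apply]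
        rfl
      | succ i' =>
        match n, j', i', x with
        | n' + 1, j', i', x =>
          rw [Fin.succ_succAbove_succ, Fin.succ_predAbove_succ]
          induction x using TensorProduct.induction_on with
          | zero => simp
          | tmul b e =>
            change b ⊗ₜ[k] (d k K C (n' + 1) j' (d k K C n' i' e)) =
              b ⊗ₜ[k] (d k K C (n' + 1) (j'.succAbove i') (d k K C n' (i'.predAbove j') e))
            rw [simpl_apply n' j' i' e]
          | add x y hx hy => rw [map_add, map_add, map_add, map_add, hx, hy]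

/-- cosimplicial identities -/
theorem simpl (n : ℕ) : Simpl (d k K C n) (d k K C (n + 1)) := fun j i =>
  AlgHom.ext fun x => simpl_apply k K C n j i x

end Defs

section Functor

variable (k K : Type u) {C C' C'' : Type u} [CommRing k] [CommRing K] [CommRing C] [Algebra k K] [Algebra k C]
  [CommRing C'] [Algebra k C'] [CommRing C''] [Algebra k C'']

/-- functoriality in the last factor -/
noncomputable def em (φ : C →ₐ[k] C') : (n : ℕ) → (E k K C n →ₐ[k] E k K C' n)
  | 0 => φ
  | n + 1 => (Algebra.TensorProduct.map (AlgHom.id k K) (em φ n) : K ⊗[k] E k K C n →ₐ[k] K ⊗[k] E k K C' n)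

theorem em_zero (φ : C →ₐ[k] C') : em k K φ 0 = φ := rfl

theorem em_succ_tmul (φ : C →ₐ[k] C') (n : ℕ) (b : K) (x : E k K C n) :
    em k K φ (n + 1) (b ⊗ₜ[k] x) = b ⊗ₜ[k] (em k K φ n x) := rfl

theorem em_id (n : ℕ) : em k K (AlgHom.id k C) n = AlgHom.id k (E k K C n) := by
  induction n with
  | zero => rfl
  | succ n ih =>
    change (Algebra.TensorProduct.map (AlgHom.id k K) (em k K (AlgHom.id k C) n) : K ⊗[k] E k K C n →ₐ[k] _) = _
    rw [ih]
    exact Algebra.TensorProduct.map_id

theorem em_comp (φ : C →ₐ[k] C') (ψ : C' →ₐ[k] C'') (n : ℕ) :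
    (em k K ψ n).comp (em k K φ n) = em k K (ψ.comp φ) n := by
  induction n with
  | zero => rfl
  | succ n ih =>
    change ((Algebra.TensorProduct.map (AlgHom.id k K) (em k K ψ n) : K ⊗[k] E k K C' n →ₐ[k] _)).comp
      (Algebra.TensorProduct.map (AlgHom.id k K) (em k K φ n) : K ⊗[k] E k K C n →ₐ[k] _) =
      (Algebra.TensorProduct.map (AlgHom.id k K) (em k K (ψ.comp φ) n) : K ⊗[k] E k K C n →ₐ[k] _)
    rw [← ih, ← Algebra.TensorProduct.map_comp, AlgHom.id_comp]

/-- the faces are natural in the last factor -/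
theorem em_d_apply (φ : C →ₐ[k] C') : ∀ (n : ℕ) (i : Fin (n + 1)) (x : E k K C n),
    em k K φ (n + 1) (d k K C n i x) = d k K C' n i (em k K φ n x)
  | n, i, x => by
    induction i using Fin.cases with
    | zero =>
      rw [d_zero_apply, d_zero_apply]
      rfl
    | succ i' =>
      match n, i', x with
      | n' + 1, i', x =>
        induction x using TensorProduct.induction_on with
        | zero => simp
        | tmul b e =>
          change b ⊗ₜ[k] (em k K φ (n' + 1) (d k K C n' i' e)) = b ⊗ₜ[k] (d k K C' n' i' (em k K φ n' e))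
          rw [em_d_apply φ n' i' e]
        | add x y hx hy => rw [map_add, map_add, map_add, map_add, hx, hy]

theorem em_d (φ : C →ₐ[k] C') (n : ℕ) (i : Fin (n + 1)) :
    (em k K φ (n + 1)).comp (d k K C n i) = (d k K C' n i).comp (em k K φ n) :=
  AlgHom.ext fun x => em_d_apply k K φ n i x

end Functor

section Contraction

variable {k K C : Type u} [CommRing k] [CommRing K] [CommRing C] [Algebra k K] [Algebra k C] (lam : K →ₗ[k] k)

/-- the contraction -/
noncomputable def s (n : ℕ) : E k K C (n + 1) →ₗ[k] E k K C n :=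
  (TensorProduct.lid k (E k K C n)).toLinearMap ∘ₗ
    (LinearMap.rTensor (E k K C n) lam : K ⊗[k] E k K C n →ₗ[k] k ⊗[k] E k K C n)

theorem s_tmul (n : ℕ) (b : K) (x : E k K C n) : s lam n (b ⊗ₜ[k] x) = lam b • x := rfl

theorem s_d_zero (h1 : lam 1 = 1) (n : ℕ) (x : E k K C n) : s lam n (d k K C n 0 x) = x := by
  rw [d_zero_apply, s_tmul, h1, one_smul]

theorem s_d_succ (n : ℕ) (i : Fin (n + 1)) (x : E k K C (n + 1)) :
    s lam (n + 1) (d k K C (n + 1) i.succ x) = d k K C n i (s lam n x) := by
  induction x using TensorProduct.induction_on with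
  | zero => simp
  | tmul b e =>
    rw [s_tmul, map_smul]
    rfl
  | add x y hx hy => rw [map_add, map_add, map_add, map_add, hx, hy]

theorem contraction (h1 : lam 1 = 1) (n : ℕ) (x : E k K C (n + 1)) :
    alt (fun i => ((d k K C n i : E k K C n →+* E k K C (n + 1)) : E k K C n →+ E k K C (n + 1))) (s lam n x) +
      s lam (n + 1) (alt (fun i => ((d k K C (n + 1) i : E k K C (n + 1) →+* E k K C (n + 1 + 1)) :
        E k K C (n + 1) →+ E k K C (n + 1 + 1))) x) = x := by
  have h := alt_comp_left (fun i => ((d k K C (n + 1) i : E k K C (n + 1) →+* E k K C (n + 1 + 1)) :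
        E k K C (n + 1) →+ E k K C (n + 1 + 1))) (s lam (n + 1)).toAddMonoidHom x
  change s lam (n + 1) _ = _ at h
  have e0 : ((-1 : ℤ) ^ ((0 : Fin (n + 2)) : ℕ)) • ((s lam (n + 1)).toAddMonoidHom.comp
      ((d k K C (n + 1) 0 : E k K C (n + 1) →+* E k K C (n + 1 + 1)) : E k K C (n + 1) →+ E k K C (n + 1 + 1))) x = x := by
    rw [Fin.val_zero, pow_zero, one_smul]
    exact s_d_zero lam h1 (n + 1) x
  have e1 : ∀ i : Fin (n + 1), ((-1 : ℤ) ^ ((i.succ : Fin (n + 2)) : ℕ)) • ((s lam (n + 1)).toAddMonoidHom.comp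
      ((d k K C (n + 1) i.succ : E k K C (n + 1) →+* E k K C (n + 1 + 1)) : E k K C (n + 1) →+ E k K C (n + 1 + 1))) x =
      - ((-1 : ℤ) ^ (i : ℕ) • (((d k K C n i : E k K C n →+* E k K C (n + 1)) : E k K C n →+ E k K C (n + 1))) (s lam n x)) := by
    intro i
    rw [Fin.val_succ, pow_succ, mul_neg_one, neg_smul]
    exact congrArg (fun y => - ((-1 : ℤ) ^ (i : ℕ) • y)) (s_d_succ lam n i x)
  have h2 : s lam (n + 1) (alt (fun i => ((d k K C (n + 1) i : E k K C (n + 1) →+* E k K C (n + 1 + 1)) :
        E k K C (n + 1) →+ E k K C (n + 1 + 1))) x) = x +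
      ∑ i : Fin (n + 1), - ((-1 : ℤ) ^ (i : ℕ) •
        (((d k K C n i : E k K C n →+* E k K C (n + 1)) : E k K C n →+ E k K C (n + 1))) (s lam n x)) := by
    rw [h, alt_apply, Fin.sum_univ_succ, e0]
    exact congrArg (x + ·) (Finset.sum_congr rfl fun i _ => e1 i)
  rw [h2, alt_apply, Finset.sum_neg_distrib]
  abel

end Contraction

section Free

variable {k K C : Type u} [CommRing k] [CommRing K] [CommRing C] [Algebra k K] [Algebra k C]
  [Module.Free k K] [Module.Finite k K] [Module.Free k C] [Module.Finite k C]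

theorem free_E : ∀ n : ℕ, Module.Free k (E k K C n) ∧ Module.Finite k (E k K C n)
  | 0 => ⟨inferInstanceAs (Module.Free k C), inferInstanceAs (Module.Finite k C)⟩
  | n + 1 => by
    obtain ⟨h1, h2⟩ := free_E n
    exact ⟨inferInstanceAs (Module.Free k (K ⊗[k] E k K C n)), inferInstanceAs (Module.Finite k (K ⊗[k] E k K C n))⟩

instance (n : ℕ) : Module.Free k (E k K C n) := (free_E n).1

instance (n : ℕ) : Module.Finite k (E k K C n) := (free_E n).2

end Free

end K349.Amit
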