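import Groth.Agent.Dix.K349.Amit
import Groth.Agent.StCoh.K998.Amitsur

/-!
# Solutions of the cocycle equation in the Amitsur complex with coefficients
-/

set_option autoImplicit false
set_option linter.unusedSectionVars false
set_option backward.isDefEq.respectTransparency false
set_option backward.isDefEq.respectTransparency.types false

universe u v w

open TensorProduct

namespace K349.AmitSol

open K998.UnitCx K349.Amit

section CB

variable (k : Type u) [CommRing k] (A : Type u) [CommRing A] [Algebra k A] (B : Type u) [CommRing B] [Algebra A B]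
  [Algebra k B] [IsScalarTower k A B]

/-- cancellation of base change -/
noncomputable abbrev cb (F : Type u) [CommRing F] [Algebra k F] : B ⊗[A] (A ⊗[k] F) ≃ₐ[B] B ⊗[k] F :=
  Algebra.TensorProduct.cancelBaseChange k A B B F

theorem cb_bc {F F' : Type u} [CommRing F] [Algebra k F] [CommRing F'] [Algebra k F'] (f : F →ₐ[k] F')
    (x : B ⊗[A] (A ⊗[k] F)) : cb k A B F' (bc B (bc A f) x) = bc B f (cb k A B F x) := by
  induction x with
  | zero => simp
  | tmul b y =>
    induction y with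
    | zero => simp
    | tmul a e => simp [Algebra.TensorProduct.cancelBaseChange_tmul]
    | add x y hx hy => rw [TensorProduct.tmul_add, map_add, map_add, map_add, map_add, hx, hy]
  | add x y hx hy => rw [map_add, map_add, map_add, map_add, hx, hy]

theorem cb_one {F : Type u} [CommRing F] [Algebra k F] (x : A ⊗[k] F) :
    cb k A B F ((1 : B) ⊗ₜ[A] x) = cf F (IsScalarTower.toAlgHom k A B) x := by
  induction x with
  | zero => simp
  | tmul a e => simp [Algebra.TensorProduct.cancelBaseChange_tmul, Algebra.smul_def]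
  | add x y hx hy => rw [TensorProduct.tmul_add, map_add, map_add, hx, hy]

/-- the same on units -/
noncomputable abbrev cbu (F : Type u) [CommRing F] [Algebra k F] :
    Additive (B ⊗[A] (A ⊗[k] F))ˣ →+ Additive (B ⊗[k] F)ˣ :=
  um ((cb k A B F : B ⊗[A] (A ⊗[k] F) →+* B ⊗[k] F) : B ⊗[A] (A ⊗[k] F) →* B ⊗[k] F)

theorem cbu_injective (F : Type u) [CommRing F] [Algebra k F] : Function.Injective (cbu k A B F) := by
  intro x y h
  apply Additive.toMul.injective
  ext
  apply (cb k A B F).injective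
  exact congrArg (fun t => (t.toMul : B ⊗[k] F)) h

theorem cbu_Dm {F F' : Type u} [CommRing F] [Algebra k F] [CommRing F'] [Algebra k F'] {n : ℕ}
    (f : Fin n → (F →ₐ[k] F')) (y : Additive (B ⊗[A] (A ⊗[k] F))ˣ) :
    cbu k A B F' (Dm B (fun i => bc A (f i)) y) = Dm B f (cbu k A B F y) := by
  rw [Dm, Dm, alt_apply, alt_apply, map_sum]
  refine Finset.sum_congr rfl fun i _ => ?_
  rw [map_zsmul]
  congr 1
  apply Additive.toMul.injective
  ext
  exact cb_bc k A B (f i) _

theorem cbu_zB {F : Type u} [CommRing F] [Algebra k F] (z : Additive (A ⊗[k] F)ˣ) :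
    cbu k A B F (zB B z) = cfu F (IsScalarTower.toAlgHom k A B) z := by
  apply Additive.toMul.injective
  ext
  exact cb_one k A B _

end CB

section Sol

variable {k K C : Type u} [Field k] [CommRing K] [CommRing C] [Algebra k K] [Algebra k C]
  [Module.Finite k K] [Module.Finite k C] [Nontrivial K]

variable (k K) in
theorem exists_lam : ∃ lam : K →ₗ[k] k, lam 1 = 1 :=
  K998.Amitsur.exists_retraction (PrimeSpectrum.comap_surjective_of_faithfullyFlat)

variable (A : Type u) [CommRing A] [Algebra k A]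

theorem simpl_bc (m : ℕ) : Simpl (fun i => bc A (d k K C m i)) (fun i => bc A (d k K C (m + 1) i)) := fun j i =>
  AlgHom.ext fun x => bc_bc (simpl k K C m) A j i x

theorem contraction_bc (lam : K →ₗ[k] k) (h1 : lam 1 = 1) (m : ℕ) (x : A ⊗[k] E k K C (m + 1)) :
    alt (fun i => ((bc A (d k K C m i) : A ⊗[k] E k K C m →+* A ⊗[k] E k K C (m + 1)) :
        A ⊗[k] E k K C m →+ A ⊗[k] E k K C (m + 1))) ((s (C := C) lam m).baseChange A x) +
      (s (C := C) lam (m + 1)).baseChange A (alt (fun i => ((bc A (d k K C (m + 1) i) :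
        A ⊗[k] E k K C (m + 1) →+* A ⊗[k] E k K C (m + 1 + 1)) :
        A ⊗[k] E k K C (m + 1) →+ A ⊗[k] E k K C (m + 1 + 1))) x) = x := by
  induction x with
  | zero => simp
  | tmul a c =>
    have h2 : alt (fun i => ((bc A (d k K C m i) : A ⊗[k] E k K C m →+* A ⊗[k] E k K C (m + 1)) :
        A ⊗[k] E k K C m →+ A ⊗[k] E k K C (m + 1))) ((s (C := C) lam m).baseChange A (a ⊗ₜ[k] c)) =
        a ⊗ₜ[k] (alt (fun i => ((d k K C m i : E k K C m →+* E k K C (m + 1)) :
          E k K C m →+ E k K C (m + 1))) (s lam m c)) := by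
      rw [alt_apply, alt_apply, TensorProduct.tmul_sum]
      refine Finset.sum_congr rfl fun i _ => ?_
      rw [TensorProduct.tmul_smul]
      rfl
    have h3 : (alt (fun i => ((bc A (d k K C (m + 1) i) :
        A ⊗[k] E k K C (m + 1) →+* A ⊗[k] E k K C (m + 1 + 1)) :
        A ⊗[k] E k K C (m + 1) →+ A ⊗[k] E k K C (m + 1 + 1))) (a ⊗ₜ[k] c)) =
        a ⊗ₜ[k] (alt (fun i => ((d k K C (m + 1) i : E k K C (m + 1) →+* E k K C (m + 1 + 1)) :
        E k K C (m + 1) →+ E k K C (m + 1 + 1))) c) := by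
      rw [alt_apply, alt_apply, TensorProduct.tmul_sum]
      refine Finset.sum_congr rfl fun i _ => ?_
      rw [TensorProduct.tmul_smul]
      rfl
    rw [h2, h3, LinearMap.baseChange_tmul, ← TensorProduct.tmul_add, contraction lam h1 m c]
  | add x y hx hy =>
    rw [map_add, map_add, map_add, map_add]
    conv_rhs => rw [← hx, ← hy]
    abel

/-- reassociation -/
noncomputable abbrev asc (F : Type u) [CommRing F] [Algebra k F] : (A ⊗[k] K) ⊗[k] F ≃ₐ[A] A ⊗[k] (K ⊗[k] F) :=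
  Algebra.TensorProduct.assoc k k A A K F

/-- The tautological solution over `A ⊗ K`. -/
theorem exists_self (m : ℕ) (z : Additive (A ⊗[k] E k K C (m + 1))ˣ) (hz : Dm A (d k K C (m + 1)) z = 0) :
    ∃ y : Additive ((A ⊗[k] K) ⊗[k] E k K C m)ˣ, Dm (A ⊗[k] K) (d k K C m) y =
      cfu (E k K C (m + 1)) (IsScalarTower.toAlgHom k A (A ⊗[k] K)) z := by
  let T0 : Additive ((A ⊗[k] K) ⊗[k] E k K C m)ˣ →+ Additive (A ⊗[k] E k K C (m + 1))ˣ :=
    um ((asc (k := k) (K := K) A (E k K C m) : (A ⊗[k] K) ⊗[k] E k K C m →+* A ⊗[k] (K ⊗[k] E k K C m)) :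
      (A ⊗[k] K) ⊗[k] E k K C m →* A ⊗[k] (K ⊗[k] E k K C m))
  let T1 : Additive ((A ⊗[k] K) ⊗[k] E k K C (m + 1))ˣ →+ Additive (A ⊗[k] E k K C (m + 1 + 1))ˣ :=
    um ((asc (k := k) (K := K) A (E k K C (m + 1)) : (A ⊗[k] K) ⊗[k] E k K C (m + 1) →+* A ⊗[k] (K ⊗[k] E k K C (m + 1))) :
      (A ⊗[k] K) ⊗[k] E k K C (m + 1) →* A ⊗[k] (K ⊗[k] E k K C (m + 1)))
  have hT1 : Function.Injective T1 := by
    intro x y h
    apply Additive.toMul.injective
    ext
    apply (asc (k := k) (K := K) A (E k K C (m + 1))).injective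
    exact congrArg (fun t : Additive (A ⊗[k] (K ⊗[k] E k K C (m + 1)))ˣ =>
      (t.toMul : A ⊗[k] (K ⊗[k] E k K C (m + 1)))) h
  let y : Additive ((A ⊗[k] K) ⊗[k] E k K C m)ˣ :=
    um (((asc (k := k) (K := K) A (E k K C m)).symm : A ⊗[k] (K ⊗[k] E k K C m) →+* (A ⊗[k] K) ⊗[k] E k K C m) :
      A ⊗[k] (K ⊗[k] E k K C m) →* (A ⊗[k] K) ⊗[k] E k K C m) z
  have hy : T0 y = z := by
    apply Additive.toMul.injective
    ext
    exact (asc (k := k) (K := K) A (E k K C m)).apply_symm_apply _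
  refine ⟨y, hT1 ?_⟩
  have e2 : ∀ i : Fin (m + 1), T1 (um ((bc (A ⊗[k] K) (d k K C m i) :
      (A ⊗[k] K) ⊗[k] E k K C m →+* (A ⊗[k] K) ⊗[k] E k K C (m + 1)) :
      (A ⊗[k] K) ⊗[k] E k K C m →* (A ⊗[k] K) ⊗[k] E k K C (m + 1)) y) =
      um ((bc A (d k K C (m + 1) i.succ) : A ⊗[k] E k K C (m + 1) →+* A ⊗[k] E k K C (m + 1 + 1)) :
        A ⊗[k] E k K C (m + 1) →* A ⊗[k] E k K C (m + 1 + 1)) z := by
    intro i
    rw [← hy]
    apply Additive.toMul.injective
    ext
    change asc (k := k) (K := K) A (E k K C (m + 1)) (bc (A ⊗[k] K) (d k K C m i) (y.toMul : (A ⊗[k] K) ⊗[k] E k K C m)) =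
      bc A (d k K C (m + 1) i.succ) (asc (k := k) (K := K) A (E k K C m) (y.toMul : (A ⊗[k] K) ⊗[k] E k K C m))
    generalize (y.toMul : (A ⊗[k] K) ⊗[k] E k K C m) = t
    induction t with
    | zero => simp
    | tmul x e =>
      induction x with
      | zero => simp
      | tmul a b => rfl
      | add x y hx hy => rw [TensorProduct.add_tmul, map_add, map_add, map_add, map_add, hx, hy]
    | add x y hx hy => rw [map_add, map_add, map_add, map_add, hx, hy]
  have e3 : T1 (cfu (E k K C (m + 1)) (IsScalarTower.toAlgHom k A (A ⊗[k] K)) z) =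
      um ((bc A (d k K C (m + 1) 0) : A ⊗[k] E k K C (m + 1) →+* A ⊗[k] E k K C (m + 1 + 1)) :
        A ⊗[k] E k K C (m + 1) →* A ⊗[k] E k K C (m + 1 + 1)) z := by
    apply Additive.toMul.injective
    ext
    change asc (k := k) (K := K) A (E k K C (m + 1)) (cf (E k K C (m + 1)) (IsScalarTower.toAlgHom k A (A ⊗[k] K))
        (z.toMul : A ⊗[k] E k K C (m + 1))) =
      bc A (d k K C (m + 1) 0) (z.toMul : A ⊗[k] E k K C (m + 1))
    generalize (z.toMul : A ⊗[k] E k K C (m + 1)) = t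
    induction t with
    | zero => simp
    | tmul a e =>
      rw [d_zero]
      rfl
    | add x y hx hy => rw [map_add, map_add, map_add, hx, hy]
  rw [e3]
  have h1 := hz
  rw [Dm, alt_apply, Fin.sum_univ_succ, Fin.val_zero, pow_zero, one_smul] at h1
  rw [Dm, alt_apply, map_sum]
  have h2 : (∑ i : Fin (m + 1), T1 ((-1 : ℤ) ^ (i : ℕ) • um ((bc (A ⊗[k] K) (d k K C m i) :
      (A ⊗[k] K) ⊗[k] E k K C m →+* (A ⊗[k] K) ⊗[k] E k K C (m + 1)) :
      (A ⊗[k] K) ⊗[k] E k K C m →* (A ⊗[k] K) ⊗[k] E k K C (m + 1)) y)) =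
      - ∑ i : Fin (m + 1), (-1 : ℤ) ^ ((i.succ : Fin (m + 2)) : ℕ) •
        um ((bc A (d k K C (m + 1) i.succ) : A ⊗[k] E k K C (m + 1) →+* A ⊗[k] E k K C (m + 1 + 1)) :
        A ⊗[k] E k K C (m + 1) →* A ⊗[k] E k K C (m + 1 + 1)) z := by
    rw [← Finset.sum_neg_distrib]
    refine Finset.sum_congr rfl fun i _ => ?_
    rw [map_zsmul, e2, Fin.val_succ, pow_succ, mul_neg_one, neg_smul, neg_neg]
  exact h2.trans (neg_eq_of_add_eq_zero_left h1)

/-- The solutions of the cocycle equation are represented by a smooth algebra, surjective on spectra. -/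
theorem exists_solution (m : ℕ) (z : Additive (A ⊗[k] E k K C (m + 1))ˣ) (hz : Dm A (d k K C (m + 1)) z = 0) :
    ∃ (P : Type u) (_ : CommRing P) (_ : Algebra A P), Algebra.Smooth A P ∧
      Function.Surjective (PrimeSpectrum.comap (algebraMap A P)) ∧
      ∀ (B : Type u) [CommRing B] [Algebra A B] [Algebra k B] [IsScalarTower k A B], (P →ₐ[A] B) →
        ∃ y : Additive (B ⊗[k] E k K C m)ˣ, Dm B (d k K C m) y =
          cfu (E k K C (m + 1)) (IsScalarTower.toAlgHom k A B) z := by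
  obtain ⟨lam, h1⟩ := exists_lam k K
  let b₀ := Module.Free.chooseBasis A (A ⊗[k] E k K C m)
  let b₁ := Module.Free.chooseBasis A (A ⊗[k] E k K C (m + 1))
  let d₀ : Fin (m + 1) → (A ⊗[k] E k K C m →ₐ[A] A ⊗[k] E k K C (m + 1)) := fun i => bc A (d k K C m i)
  refine ⟨P b₀ b₁ d₀ z, inferInstance, inferInstance,
    smooth_P b₀ b₁ (simpl_bc A m) ((s lam m).baseChange A) ((s lam (m + 1)).baseChange A)
      (contraction_bc A lam h1 m) z hz, ?_, ?_⟩
  · obtain ⟨y, hy⟩ := exists_self A m z hz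
    obtain ⟨y', hy'⟩ : ∃ y' : Additive ((A ⊗[k] K) ⊗[A] (A ⊗[k] E k K C m))ˣ,
        cbu k A (A ⊗[k] K) (E k K C m) y' = y := by
      refine ⟨um (((cb k A (A ⊗[k] K) (E k K C m)).symm : (A ⊗[k] K) ⊗[k] E k K C m →+*
        (A ⊗[k] K) ⊗[A] (A ⊗[k] E k K C m)) : _ →* _) y, ?_⟩
      apply Additive.toMul.injective
      ext
      exact (cb k A (A ⊗[k] K) (E k K C m)).apply_symm_apply _
    obtain ⟨φ, -⟩ := exists_hom b₀ b₁ d₀ z y' (by
      apply cbu_injective k A (A ⊗[k] K)
      rw [cbu_zB, ← hy, ← hy']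
      exact cbu_Dm k A (A ⊗[k] K) (d k K C m) y')
    have hs : Function.Surjective (PrimeSpectrum.comap (algebraMap A (A ⊗[k] K))) :=
      PrimeSpectrum.comap_surjective_of_faithfullyFlat
    intro p
    obtain ⟨q, rfl⟩ := hs p
    refine ⟨PrimeSpectrum.comap φ.toRingHom q, ?_⟩
    rw [← PrimeSpectrum.comap_comp_apply]
    congr 1
    exact φ.comp_algebraMap
  · intro B _ _ _ _ φ
    refine ⟨cbu k A B (E k K C m) (cfu _ φ (yP b₀ b₁ d₀ z)), ?_⟩
    rw [← cbu_zB, ← cfu_zB φ z, ← Dm_yP b₀ b₁ d₀ z, cfu_Dm]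
    exact (cbu_Dm k A B (d k K C m) _).symm

end Sol

end K349.AmitSol
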