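import Groth.Agent.Lefx.H80.NhdPic

/-!
# Existence of the algebraisation of a compatible system of invertible modules

Under the effective Lefschetz condition, when every neighbourhood of `V(𝓘)` is everything.
-/

set_option autoImplicit false

universe u

open CategoryTheory CategoryTheory.Limits AlgebraicGeometry TopologicalSpace Opposite

namespace K349.FormE

open Groth.Agent Groth.Agent.Fdesc.LocGen Groth.Agent.Sga2.PicThick Groth.Agent.Sga2.LefOpen
  Groth.Agent.Sga2.LefThick Groth.Agent.Lefx.H80.NhdPic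

/-- push-forward along an isomorphism is the pull-back along the inverse -/
theorem nonempty_push_iso {X Y : Scheme.{u}} (h : X ⟶ Y) [IsIso h] (M : X.Modules) :
    Nonempty ((Scheme.Modules.pushforward h).obj M ≅ (Scheme.Modules.pullback (inv h)).obj M) := by
  have h1 : Scheme.Modules.pushforward (inv h) ⋙ Scheme.Modules.pushforward h ≅ 𝟭 _ :=
    Scheme.Modules.pushforwardComp (inv h) h ≪≫ Scheme.Modules.pushforwardCongr (IsIso.inv_hom_id h) ≪≫
      Scheme.Modules.pushforwardId Y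
  have h2 : Scheme.Modules.pushforward h ⋙ Scheme.Modules.pushforward (inv h) ≅ 𝟭 _ :=
    Scheme.Modules.pushforwardComp h (inv h) ≪≫ Scheme.Modules.pushforwardCongr (IsIso.hom_inv_id h) ≪≫
      Scheme.Modules.pushforwardId X
  have h3 := (CategoryTheory.Equivalence.mk (Scheme.Modules.pushforward h) (Scheme.Modules.pushforward (inv h))
    h2.symm h1).isEquivalence_functor
  have h4 : (Scheme.Modules.pushforward h).IsEquivalence := h3
  have := (Scheme.Modules.pullbackPushforwardAdjunction h).counit_isIso_of_R_fully_faithful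
  have hi : IsIso ((Scheme.Modules.pullbackPushforwardAdjunction h).counit.app M) := inferInstance
  exact ⟨((Scheme.Modules.pullbackId Y).app _).symm ≪≫
    ((Scheme.Modules.pullbackCongr (IsIso.inv_hom_id h)).app _).symm ≪≫
    ((Scheme.Modules.pullbackComp (inv h) h).app _).symm ≪≫
    (Scheme.Modules.pullback (inv h)).mapIso (@asIso _ _ _ _ _ hi)⟩

theorem isInvertible_push {X Y : Scheme.{u}} (h : X ⟶ Y) [IsIso h] {M : X.Modules} (hM : PicF.IsInvertible M) :
    PicF.IsInvertible ((Scheme.Modules.pushforward h).obj M) := by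
  obtain ⟨e⟩ := nonempty_push_iso h M
  exact isInvertible_of_iso e.symm (Sga2.PicThick.isInvertible_pullback _ hM)

variable {X : Scheme.{u}}

/-- **Existence of the algebraisation** -/
theorem exists_of_levels (𝓘 : X.IdealSheafData) (h1 : LefX.LeffCond X 𝓘)
    (htop : ∀ W : X.Opens, (𝓘.support : Set X) ⊆ (W : Set X) → W = ⊤) (F : ∀ m : ℕ, (T 𝓘 m).Modules)
    (hF : ∀ m, PicF.IsInvertible (F m)) (e : ∀ m, (Scheme.Modules.pullback (inc 𝓘 m)).obj (F (m + 1)) ≅ F m) :
    ∃ L : X.Modules, PicF.IsInvertible L ∧ ∀ m, Nonempty ((Scheme.Modules.pullback (tι 𝓘 m)).obj L ≅ F m) := by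
  obtain ⟨U, E, hU, hE, ⟨Φ⟩⟩ := h1.2 (mkSys 𝓘 F e) (fun m =>
    Ega2.QCohLocal.isFinLocFree_of_rank (Ega2.QCohLocal.isFinLocFreeOfRank_one_iff.mpr (hF m)))
  have hi : ∀ m, Nonempty ((Scheme.Modules.pullback (tι 𝓘 m)).obj ((Scheme.Modules.pushforward U.ι).obj E) ≅ F m) :=
    fun m => ⟨levelIso Φ m⟩
  refine ⟨(Scheme.Modules.pushforward U.ι).obj E, ?_, hi⟩
  obtain ⟨e0⟩ := hi 0
  let g : T 𝓘 0 ⟶ U := τ 𝓘 U hU 0
  have hg : g ≫ U.ι = tι 𝓘 0 := τ_ι 𝓘 U hU 0
  obtain ⟨e2⟩ := nonempty_pullback_push_iso g (tι 𝓘 0) hg E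
  have hmem : ∀ y, g y ∈ invLocus E := mem_invLocus_of_pullback g hE (isInvertible_of_iso (e2.symm ≪≫ e0).symm (hF 0))
  have hV : U.ι ''ᵁ invLocus E = ⊤ := by
    refine htop _ fun y hy => ?_
    have hy' : y ∈ Set.range (tι 𝓘 0) := by
      rw [Scheme.IdealSheafData.range_subschemeι, Scheme.IdealSheafData.support_pow_succ]
      exact hy
    obtain ⟨z, rfl⟩ := hy'
    exact ⟨g z, hmem z, by
      rw [← hg]
      rfl⟩
  have hinv : PicF.IsInvertible E := by
    rw [isInvertible_iff]
    intro x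
    have h3 : U.ι x ∈ U.ι ''ᵁ invLocus E := by
      rw [hV]
      trivial
    obtain ⟨z, hz, hzx⟩ := h3
    rw [← U.ι.isOpenEmbedding.injective hzx]
    exact hz
  have hUt : U = ⊤ := htop U hU
  subst hUt
  have : IsIso (⊤ : X.Opens).ι := X.topIso.isIso_hom
  exact isInvertible_push _ hinv

end K349.FormE
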