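import Groth.Agent.Dix.K349.FormU
import Groth.Agent.Dix.K349.FormE
import Groth.Agent.PicLoc.K730.LeffProper
import Groth.Agent.Grpsch.PicGrp

/-!
# Picard groups of a proper scheme over a complete ring

`W` proper over `A`, noetherian and `I`-adically complete; `V m = W ×_A A/I^(m+1)`.
* `exists_pic`: a compatible system of classes on the `V m` comes from `Pic W`;
* `pic_eq`: a class in `Pic W` is determined by its restrictions to the `V m`, when functions lift from `V m` to `V (m+1)`.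
-/

set_option autoImplicit false

universe u

open CategoryTheory CategoryTheory.Limits AlgebraicGeometry TopologicalSpace Opposite

namespace K349.FormPic

open Groth.Agent Groth.Agent.Sga2.LefThick Groth.Agent.Sga2lef.H96.ModSysFormal Grpsch.PicGrp K730.NhdTop

section Ker

variable {A : Type u} [CommRing A] (I : Ideal A) {W : Scheme.{u}} (p : W ⟶ Spec (CommRingCat.of A))

theorem idl_pow (n : ℕ) : (idl I p) ^ n = idl (I ^ n) p := by
  let _ : W.Over (Spec (CommRingCat.of A)) := ⟨p⟩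
  have h1 : IsGenBy I (idl I p) := isGenBy_comap I
  have h2 := h1.pow n
  have h3 : IsGenBy (I ^ n) (idl (I ^ n) p) := isGenBy_comap _
  apply Scheme.IdealSheafData.ext
  funext V
  exact (h2 V).trans (h3 V).symm

theorem isClosedImmersion_spec {B : Type u} [CommRing B] {φ : A →+* B} (hφ : Function.Surjective φ) :
    IsClosedImmersion (Spec.map (CommRingCat.ofHom φ)) := IsClosedImmersion.spec_of_surjective _ hφ

theorem ker_spec {B : Type u} [CommRing B] {φ : A →+* B} (hφ : Function.Surjective φ) {J : Ideal A}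
    (hker : RingHom.ker φ = J) : (Spec.map (CommRingCat.ofHom φ)).ker =
      (Spec.map (CommRingCat.ofHom (Ideal.Quotient.mk J))).ker := by
  subst hker
  have h1 : (Spec.map (CommRingCat.ofHom φ)) =
      Spec.map (CommRingCat.ofHom (RingHom.quotientKerEquivOfSurjective hφ).toRingHom) ≫
        Spec.map (CommRingCat.ofHom (Ideal.Quotient.mk (RingHom.ker φ))) := by
    rw [← Spec.map_comp, ← CommRingCat.ofHom_comp]
    congr 2
  have h2 : IsIso (Spec.map (CommRingCat.ofHom (RingHom.quotientKerEquivOfSurjective hφ).toRingHom)) := by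
    have h3 : IsIso (CommRingCat.ofHom (RingHom.quotientKerEquivOfSurjective hφ).toRingHom) :=
      (RingHom.quotientKerEquivOfSurjective hφ).toCommRingCatIso.isIso_hom
    infer_instance
  rw [h1, Scheme.Hom.ker_comp_of_isIso]

theorem ker_eq {V : Scheme.{u}} {v : V ⟶ W} {B : Type u} [CommRing B] {φ : A →+* B} (hφ : Function.Surjective φ) {n : ℕ}
    (hker : RingHom.ker φ = I ^ n) {q : V ⟶ Spec (CommRingCat.of B)}
    (h : IsPullback v q p (Spec.map (CommRingCat.ofHom φ))) : IsClosedImmersion v ∧ v.ker = (idl I p) ^ n := by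
  have h0 := isClosedImmersion_spec hφ
  refine ⟨MorphismProperty.of_isPullback h.flip h0, ?_⟩
  have h1 : v = h.isoPullback.hom ≫ pullback.fst p (Spec.map (CommRingCat.ofHom φ)) := h.isoPullback_hom_fst.symm
  rw [h1, Scheme.Hom.ker_comp_of_isIso, Scheme.IdealSheafData.ker_fst_of_isClosedImmersion, ker_spec hφ hker, idl_pow]
  rfl

end Ker

/-- The system of thickenings. -/
structure Sys {A : Type u} [CommRing A] (I : Ideal A) {W : Scheme.{u}} (p : W ⟶ Spec (CommRingCat.of A)) where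
  /-- the thickenings -/
  V : ℕ → Scheme.{u}
  /-- to `W` -/
  v : ∀ m, V m ⟶ W
  /-- transition maps -/
  t : ∀ m, V m ⟶ V (m + 1)
  ht : ∀ m, t m ≫ v (m + 1) = v m
  ci : ∀ m, IsClosedImmersion (v m)
  ker : ∀ m, (v m).ker = (idl I p) ^ (m + 1)

namespace Sys

variable {A : Type u} [CommRing A] {I : Ideal A} {W : Scheme.{u}} {p : W ⟶ Spec (CommRingCat.of A)} (𝔖 : Sys I p)

theorem ker' (m : ℕ) : (𝔖.v m).ker = (tι (idl I p) m).ker := by
  rw [𝔖.ker, Scheme.IdealSheafData.ker_subschemeι]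

/-- identification with the thickenings -/
noncomputable def θ (m : ℕ) : 𝔖.V m ⟶ T (idl I p) m :=
  have := 𝔖.ci m
  IsClosedImmersion.lift (tι (idl I p) m) (𝔖.v m) (𝔖.ker' m).ge

theorem θ_tι (m : ℕ) : 𝔖.θ m ≫ tι (idl I p) m = 𝔖.v m := IsClosedImmersion.lift_fac _ _ _

instance isIso_θ (m : ℕ) : IsIso (𝔖.θ m) := by
  have := 𝔖.ci m
  exact IsClosedImmersion.isIso_of_ker_eq (𝔖.v m) (tι (idl I p) m) _ (𝔖.θ_tι m) (𝔖.ker' m)

theorem t_θ (m : ℕ) : 𝔖.t m ≫ 𝔖.θ (m + 1) = 𝔖.θ m ≫ inc (idl I p) m := by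
  rw [← cancel_mono (tι (idl I p) (m + 1)), Category.assoc, Category.assoc, inc_tι, θ_tι, θ_tι, 𝔖.ht]

theorem inc_eq (m : ℕ) : inc (idl I p) m = inv (𝔖.θ m) ≫ 𝔖.t m ≫ 𝔖.θ (m + 1) := by
  rw [t_θ, IsIso.inv_hom_id_assoc]

theorem inc_surj {m : ℕ} (hs : Function.Surjective (𝔖.t m).appTop) :
    Function.Surjective ((inc (idl I p) m).app ⊤) := by
  have h1 : (inc (idl I p) m).appTop = (𝔖.θ (m + 1)).appTop ≫ (𝔖.t m).appTop ≫ (inv (𝔖.θ m)).appTop := by
    rw [inc_eq 𝔖 m, Scheme.Hom.comp_appTop, Scheme.Hom.comp_appTop, Category.assoc]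
  change Function.Surjective (inc (idl I p) m).appTop
  rw [h1]
  have i2 : IsIso (𝔖.θ (m + 1)).appTop := inferInstanceAs (IsIso ((𝔖.θ (m + 1)).app ⊤))
  have i3 : IsIso (inv (𝔖.θ m)).appTop := inferInstanceAs (IsIso ((inv (𝔖.θ m)).app ⊤))
  have h2 : Function.Surjective (𝔖.θ (m + 1)).appTop :=
    (ConcreteCategory.bijective_of_isIso (𝔖.θ (m + 1)).appTop).surjective
  have h3 : Function.Surjective (inv (𝔖.θ m)).appTop :=
    (ConcreteCategory.bijective_of_isIso (inv (𝔖.θ m)).appTop).surjective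
  exact (h3.comp hs).comp h2

variable [IsNoetherianRing A] [IsAdicComplete I A] [IsProper p]

omit [IsNoetherianRing A] in
theorem htop (U : W.Opens) (hU : ((idl I p).support : Set W) ⊆ (U : Set W)) : U = ⊤ :=
  eq_top_of_support (IsAdicComplete.le_jacobson_bot I) p p.isClosedMap U hU

/-- **Existence** -/
theorem exists_pic (c : ∀ m, Pic (𝔖.V m)) (hc : ∀ m, pull (𝔖.t m) (c (m + 1)) = c m) :
    ∃ C : Pic W, ∀ m, pull (𝔖.v m) C = c m := by
  let _ : W.Over (Spec (CommRingCat.of A)) := ⟨p⟩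
  have : IsProper (W ↘ Spec (CommRingCat.of A)) := inferInstanceAs (IsProper p)
  have hLeff : LefX.LeffCond W (idl I p) := K730.LeffProper.leffCond (X := W) I
  choose F hF hcF using fun m => exists_mk (pull (inv (𝔖.θ m)) (c m))
  have e : ∀ m, Nonempty ((Scheme.Modules.pullback (inc (idl I p) m)).obj (F (m + 1)) ≅ F m) := by
    intro m
    rw [← mk_eq_iff (Groth.Agent.Fdesc.LocGen.isInvertible_pullback _ (hF (m + 1))) (hF m), ← hcF m, ← pull_mk _ (hF (m + 1)), ← hcF (m + 1),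
      ← hc m, ← pull_comp, ← pull_comp]
    congr 2
    rw [IsIso.eq_inv_comp, ← Category.assoc, ← t_θ, Category.assoc, IsIso.hom_inv_id, Category.comp_id]
  obtain ⟨L, hL, hi⟩ := FormE.exists_of_levels (idl I p) hLeff htop F hF (fun m => (e m).some)
  refine ⟨Grpsch.PicGrp.mk L hL, fun m => ?_⟩
  have h1 : pull (tι (idl I p) m) (Grpsch.PicGrp.mk L hL) = pull (inv (𝔖.θ m)) (c m) := by
    rw [hcF m, pull_mk, mk_eq_iff]
    exact hi m
  rw [← 𝔖.θ_tι, pull_comp, h1, ← pull_comp, IsIso.hom_inv_id, pull_id]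

/-- **Uniqueness** -/
theorem pic_eq (hs : ∀ m, Function.Surjective (𝔖.t m).appTop) (C C' : Pic W)
    (h : ∀ m, pull (𝔖.v m) C = pull (𝔖.v m) C') : C = C' := by
  let _ : W.Over (Spec (CommRingCat.of A)) := ⟨p⟩
  have : IsProper (W ↘ Spec (CommRingCat.of A)) := inferInstanceAs (IsProper p)
  have hln : IsLocallyNoetherian W := LocallyOfFiniteType.isLocallyNoetherian p
  have hLef : ∀ D : W.Modules, FlatMod.IsFinLocFree D → Lef.HomToFormalBijective (idl I p) D := fun D hD =>
    K730.LeffProper.homToFormalBijective (X := W) I (isGenBy_comap I) D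
      (Groth.Agent.PerfA.CohSerre.isCoh_of_isFinLocFree hD) (Groth.Agent.Fdesc.StructMod.isCoh_structureModule _)
  obtain ⟨L, hL, rfl⟩ := exists_mk C
  obtain ⟨L', hL', rfl⟩ := exists_mk C'
  rw [mk_eq_iff]
  refine FormU.nonempty_iso_of_levels (idl I p) hLef (fun m => 𝔖.inc_surj (hs m)) hL hL' fun m => ?_
  have h1 := congrArg (pull (inv (𝔖.θ m))) (h m)
  rw [← pull_comp, ← pull_comp, ← 𝔖.θ_tι, IsIso.inv_hom_id_assoc, pull_mk, pull_mk, mk_eq_iff] at h1
  exact h1

end Sys

end K349.FormPic
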