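import Groth.Agent.Dix.K349.Tow
import Groth.Agent.Sga3.H805.SecExt

/-!
# Units on `U ×_X Z_n` as units of `Γ(U) ⊗ E n`

* `GA h`: the functions on `V` as a `k`-algebra, `h : V ⟶ Spec k`; `gaM` functoriality;
* `sig`: `GA h ⊗ F → GA hY` for `Y → V`, `Y → Spec F`; bijective for cartesian `Y` (`sig_bijective`);
* `sU`: on units, for `U ×_X Z_n`, compatible with the differentials.
-/

set_option autoImplicit false
set_option backward.isDefEq.respectTransparency false
set_option backward.isDefEq.respectTransparency.types false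

universe u

open CategoryTheory CategoryTheory.Limits AlgebraicGeometry Opposite TensorProduct

namespace K349.Sec

open K349.Amit K349.GGFun K349.Tow K998.UnitCx Groth.Agent.Sga3.H805.SecExt

section GA

variable {k : Type u} [CommRing k]

/-- Functions as an algebra over the base. -/
def GA {V : Scheme.{u}} (_h : V ⟶ Spec (CommRingCat.of k)) : Type u := Γ(V, ⊤)

noncomputable instance {V : Scheme.{u}} (h : V ⟶ Spec (CommRingCat.of k)) : CommRing (GA h) :=
  inferInstanceAs (CommRing Γ(V, ⊤))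

noncomputable instance {V : Scheme.{u}} (h : V ⟶ Spec (CommRingCat.of k)) : Algebra k (GA h) :=
  RingHom.toAlgebra (R := k) (S := GA h) (str h ⊤)

theorem algebraMap_GA {V : Scheme.{u}} (h : V ⟶ Spec (CommRingCat.of k)) : algebraMap k (GA h) = str h ⊤ := rfl

/-- pulling back functions -/
noncomputable def gaM {V W : Scheme.{u}} (g : W ⟶ V) (h : V ⟶ Spec (CommRingCat.of k))
    (h' : W ⟶ Spec (CommRingCat.of k)) (w : g ≫ h = h') : GA h →ₐ[k] GA h' :=
  { (g.appTop.hom : Γ(V, ⊤) →+* Γ(W, ⊤)) with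
    commutes' := fun r => by
      subst w
      change g.appTop (str h ⊤ r) = str (g ≫ h) ⊤ r
      rw [str_top, str_top, Scheme.Hom.comp_appTop]
      rfl }

theorem gaM_apply {V W : Scheme.{u}} (g : W ⟶ V) (h : V ⟶ Spec (CommRingCat.of k))
    (h' : W ⟶ Spec (CommRingCat.of k)) (w : g ≫ h = h') (x : Γ(V, ⊤)) : gaM g h h' w x = g.appTop.hom x := rfl

theorem gaM_comp {V W T : Scheme.{u}} (g : W ⟶ V) (g' : T ⟶ W) (h : V ⟶ Spec (CommRingCat.of k))
    (h' : W ⟶ Spec (CommRingCat.of k)) (h'' : T ⟶ Spec (CommRingCat.of k)) (w : g ≫ h = h') (w' : g' ≫ h' = h'')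
    (w'' : (g' ≫ g) ≫ h = h'') : (gaM g' h' h'' w').comp (gaM g h h' w) = gaM (g' ≫ g) h h'' w'' := by
  apply AlgHom.ext
  intro x
  change g'.appTop.hom (g.appTop.hom x) = (g' ≫ g).appTop.hom x
  rw [Scheme.Hom.comp_appTop]
  rfl

variable {F F' : Type u} [CommRing F] [Algebra k F] [CommRing F'] [Algebra k F']

/-- functions from a map to a spectrum -/
noncomputable def qa {Y : Scheme.{u}} (hY : Y ⟶ Spec (CommRingCat.of k)) (q : Y ⟶ Spec (CommRingCat.of F))
    (w : q ≫ Spec.map (CommRingCat.ofHom (algebraMap k F)) = hY) : F →ₐ[k] GA hY :=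
  { (str q ⊤ : F →+* Γ(Y, ⊤)) with
    commutes' := fun r => by
      change str q ⊤ (algebraMap k F r) = str hY ⊤ r
      have h := appTop_str (g := 𝟙 Y) (f := hY) (φ := algebraMap k F) (iZ := q)
        (by rw [Category.id_comp, w]) r
      rw [← h, Scheme.Hom.id_appTop]
      rfl }

theorem qa_apply {Y : Scheme.{u}} (hY : Y ⟶ Spec (CommRingCat.of k)) (q : Y ⟶ Spec (CommRingCat.of F))
    (w : q ≫ Spec.map (CommRingCat.ofHom (algebraMap k F)) = hY) (x : F) : qa hY q w x = str q ⊤ x := rfl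

/-- The map `Γ(V) ⊗ F → Γ(Y)`. -/
noncomputable def sig {V Y : Scheme.{u}} (h : V ⟶ Spec (CommRingCat.of k)) (hY : Y ⟶ Spec (CommRingCat.of k))
    (p : Y ⟶ V) (hp : p ≫ h = hY) (q : Y ⟶ Spec (CommRingCat.of F))
    (w : q ≫ Spec.map (CommRingCat.ofHom (algebraMap k F)) = hY) : GA h ⊗[k] F →ₐ[k] GA hY :=
  Algebra.TensorProduct.productMap (gaM p h hY hp) (qa hY q w)

theorem sig_tmul {V Y : Scheme.{u}} (h : V ⟶ Spec (CommRingCat.of k)) (hY : Y ⟶ Spec (CommRingCat.of k))
    (p : Y ⟶ V) (hp : p ≫ h = hY) (q : Y ⟶ Spec (CommRingCat.of F))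
    (w : q ≫ Spec.map (CommRingCat.ofHom (algebraMap k F)) = hY) (a : GA h) (e : F) :
    sig h hY p hp q w (a ⊗ₜ[k] e) = gaM p h hY hp a * qa hY q w e := Algebra.TensorProduct.productMap_apply_tmul _ _ _ _

/-- naturality -/
theorem sig_nat {V Y V' Y' : Scheme.{u}} (h : V ⟶ Spec (CommRingCat.of k)) (hY : Y ⟶ Spec (CommRingCat.of k))
    (p : Y ⟶ V) (hp : p ≫ h = hY) (q : Y ⟶ Spec (CommRingCat.of F))
    (w : q ≫ Spec.map (CommRingCat.ofHom (algebraMap k F)) = hY)
    (h' : V' ⟶ Spec (CommRingCat.of k)) (hY' : Y' ⟶ Spec (CommRingCat.of k))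
    (p' : Y' ⟶ V') (hp' : p' ≫ h' = hY') (q' : Y' ⟶ Spec (CommRingCat.of F'))
    (w' : q' ≫ Spec.map (CommRingCat.ofHom (algebraMap k F')) = hY')
    (v : V' ⟶ V) (hv : v ≫ h = h') (y : Y' ⟶ Y) (hy : y ≫ p = p' ≫ v) (hyY : y ≫ hY = hY') (φ : F →ₐ[k] F')
    (hφ : y ≫ q = q' ≫ Spec.map (CommRingCat.ofHom φ.toRingHom)) :
    (gaM y hY hY' hyY).comp (sig h hY p hp q w) =
      (sig h' hY' p' hp' q' w').comp (Algebra.TensorProduct.map (gaM v h h' hv) φ) := by
  apply Algebra.TensorProduct.ext'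
  intro a e
  rw [AlgHom.comp_apply, AlgHom.comp_apply, Algebra.TensorProduct.map_tmul, sig_tmul, sig_tmul, map_mul]
  have h1 : gaM y hY hY' hyY (gaM p h hY hp a) = gaM p' h' hY' hp' (gaM v h h' hv a) := by
    have := congr(Scheme.Hom.appTop $hy)
    rw [Scheme.Hom.comp_appTop, Scheme.Hom.comp_appTop] at this
    exact congr($this a)
  have h2 : gaM y hY hY' hyY (qa hY q w e) = qa hY' q' w' (φ e) := appTop_str (φ := φ.toRingHom) hφ e
  rw [h1, h2]

end GA

section Field

variable {k : Type u} [Field k] {F : Type u} [CommRing F] [Algebra k F]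

theorem sig_bijective {V Y : Scheme.{u}} (h : V ⟶ Spec (CommRingCat.of k)) (hY : Y ⟶ Spec (CommRingCat.of k))
    (p : Y ⟶ V) (hp : p ≫ h = hY) (q : Y ⟶ Spec (CommRingCat.of F))
    (w : q ≫ Spec.map (CommRingCat.ofHom (algebraMap k F)) = hY)
    (H : IsPullback p q h (Spec.map (CommRingCat.ofHom (algebraMap k F)))) [CompactSpace V] [QuasiSeparatedSpace V] :
    Function.Bijective (sig h hY p hp q w) := by
  have h1 := isPushout_str H
  have h2 := CommRingCat.isPushout_tensorProduct k (GA h) F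
  let e := h2.isoIsPushout _ _ h1.flip
  let e' : GA h ⊗[k] F →+* GA hY := e.hom.hom
  have h3 : ∀ x : GA h ⊗[k] F, e' x = sig h hY p hp q w x := by
    intro x
    induction x using TensorProduct.induction_on with
    | zero => rw [map_zero, map_zero]
    | add x x' hx hx' => rw [map_add, map_add, ← hx, ← hx']
    | tmul a b =>
      have h4 : (a ⊗ₜ[k] b : GA h ⊗[k] F) = a ⊗ₜ 1 * 1 ⊗ₜ b := by
        rw [Algebra.TensorProduct.tmul_mul_tmul, mul_one, one_mul]
      rw [sig_tmul, h4, map_mul]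
      have h5 := congr($(IsPushout.inl_isoIsPushout_hom _ _ h2 h1.flip).hom a)
      have h6 := congr($(IsPushout.inr_isoIsPushout_hom _ _ h2 h1.flip).hom b)
      exact congr($h5 * $h6)
  have h7 : Function.Bijective e' := ConcreteCategory.bijective_of_isIso e.hom
  have h8 : (⇑(sig h hY p hp q w)) = ⇑e' := funext fun x => (h3 x).symm
  rw [h8]
  exact h7

end Field

section ZU

variable {k : Type u} [CommRing k] {X : Scheme.{u}} (f : X ⟶ Spec (CommRingCat.of k))

/-- structure map of an étale scheme -/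
noncomputable abbrev uh (U : X.Etale) : U.left ⟶ X := U.hom

/-- to the base -/
noncomputable abbrev hU (U : X.Etale) : U.left ⟶ Spec (CommRingCat.of k) := uh U ≫ f

variable (F : Type u) [CommRing F] [Algebra k F]

/-- to the base -/
noncomputable abbrev hZ (U : X.Etale) : zu (ZZ f (sO k F)) U ⟶ Spec (CommRingCat.of k) :=
  fs (ZZ f (sO k F)) U ≫ hU f U

/-- to `Spec F` -/
noncomputable abbrev qZ (U : X.Etale) : zu (ZZ f (sO k F)) U ⟶ Spec (CommRingCat.of F) :=
  sn (ZZ f (sO k F)) U ≫ PicF.XTproj f (sO k F)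

theorem isPullback_qZ (U : X.Etale) : IsPullback (fs (ZZ f (sO k F)) U) (qZ f F U) (hU f U)
    (Spec.map (CommRingCat.ofHom (algebraMap k F))) := by
  have h1 : IsPullback (sn (ZZ f (sO k F)) U) (fs (ZZ f (sO k F)) U) (pullback.fst f (sO k F).hom) (uh U) :=
    (isPullback_zu (ZZ f (sO k F)) U).flip
  have h2 : IsPullback (PicF.XTproj f (sO k F)) (pullback.fst f (sO k F).hom) (sO k F).hom f :=
    (IsPullback.of_hasPullback f (sO k F).hom).flip
  exact (h1.paste_horiz h2).flip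

theorem qZ_w (U : X.Etale) : qZ f F U ≫ Spec.map (CommRingCat.ofHom (algebraMap k F)) = hZ f F U :=
  (isPullback_qZ f F U).w.symm

/-- `Γ(U) ⊗ F → Γ(U ×_X X_F)` -/
noncomputable abbrev su (U : X.Etale) : GA (hU f U) ⊗[k] F →ₐ[k] GA (hZ f F U) :=
  sig (hU f U) (hZ f F U) (fs (ZZ f (sO k F)) U) rfl (qZ f F U) (qZ_w f F U)

/-- the map on units -/
noncomputable def sU (U : X.Etale) : Additive (GA (hU f U) ⊗[k] F)ˣ →+ Additive (Γ(zu (ZZ f (sO k F)) U, ⊤))ˣ :=
  um ((su f F U : GA (hU f U) ⊗[k] F →+* GA (hZ f F U)) : GA (hU f U) ⊗[k] F →* GA (hZ f F U))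

/-- restriction of functions -/
noncomputable abbrev rU {U V : X.Etale} (r : V ⟶ U) : GA (hU f U) →ₐ[k] GA (hU f V) :=
  gaM r.left (hU f U) (hU f V) (by
    have h : r.left ≫ uh U = uh V := CategoryTheory.Over.w r.hom
    rw [← Category.assoc, h])

variable {F} {F' : Type u} [CommRing F'] [Algebra k F']

theorem ut_zm_sU (φ : F →ₐ[k] F') (U : X.Etale) (x : Additive (GA (hU f U) ⊗[k] F)ˣ) :
    ut (zm (ZM f (sM φ)) U) (sU f F U x) =
      sU f F' U (um ((bc (GA (hU f U)) φ : GA (hU f U) ⊗[k] F →+* GA (hU f U) ⊗[k] F') :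
        GA (hU f U) ⊗[k] F →* GA (hU f U) ⊗[k] F') x) := by
  have h1 := sig_nat (hU f U) (hZ f F U) (fs (ZZ f (sO k F)) U) rfl (qZ f F U) (qZ_w f F U)
    (hU f U) (hZ f F' U) (fs (ZZ f (sO k F')) U) rfl (qZ f F' U) (qZ_w f F' U) (𝟙 _) (Category.id_comp _)
    (zm (ZM f (sM φ)) U) (by rw [zm_fs, Category.comp_id]) (by rw [← Category.assoc, zm_fs]) φ (by
      rw [qZ, ← Category.assoc, zm_sn, Category.assoc]
      change _ ≫ PicF.XTmap f (sM φ) ≫ PicF.XTproj f (sO k F) = _
      rw [Groth.Agent.Fga.RigGrp.XTmap_XTproj, ← Category.assoc]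
      rfl)
  apply Additive.toMul.injective
  ext
  refine (DFunLike.congr_fun h1 (x.toMul : GA (hU f U) ⊗[k] F)).trans ?_
  change su f F' U (Algebra.TensorProduct.map _ φ (x.toMul : GA (hU f U) ⊗[k] F)) =
    su f F' U (bc (GA (hU f U)) φ (x.toMul : GA (hU f U) ⊗[k] F))
  congr 1

theorem ut_zr_sU {U V : X.Etale} (r : V ⟶ U) (x : Additive (GA (hU f U) ⊗[k] F)ˣ) :
    ut (zr (ZZ f (sO k F)) r) (sU f F U x) = sU f F V (cfu F (rU f r) x) := by
  have h1 := sig_nat (hU f U) (hZ f F U) (fs (ZZ f (sO k F)) U) rfl (qZ f F U) (qZ_w f F U)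
    (hU f V) (hZ f F V) (fs (ZZ f (sO k F)) V) rfl (qZ f F V) (qZ_w f F V) r.left
    (by
      have h : r.left ≫ uh U = uh V := CategoryTheory.Over.w r.hom
      rw [← Category.assoc, h])
    (zr (ZZ f (sO k F)) r) (zr_fs _ r) (by
      have h : r.left ≫ uh U = uh V := CategoryTheory.Over.w r.hom
      rw [← Category.assoc, zr_fs, Category.assoc, ← Category.assoc r.left, h]) (AlgHom.id k F) (by
      rw [qZ, ← Category.assoc, zr_sn]
      exact (Category.comp_id _).symm.trans (congrArg _ (Spec.map_id _).symm))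
  apply Additive.toMul.injective
  ext
  exact DFunLike.congr_fun h1 (x.toMul : GA (hU f U) ⊗[k] F)

variable (K : Type u) [CommRing K] [Algebra k K] (C : Type u) [CommRing C] [Algebra k C]

theorem alt_sU (n : ℕ) (U : X.Etale) (x : Additive (GA (hU f U) ⊗[k] E k K C n)ˣ) :
    alt (fun i => ut (zm (zd f K C n i) U)) (sU f (E k K C n) U x) =
      sU f (E k K C (n + 1)) U (Dm (GA (hU f U)) (d k K C n) x) := by
  rw [alt_comp_left, alt_apply, alt_apply]
  refine Finset.sum_congr rfl fun i _ => congrArg _ ?_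
  exact ut_zm_sU f (d k K C n i) U x

end ZU

section ZUField

variable {k : Type u} [Field k] {X : Scheme.{u}} (f : X ⟶ Spec (CommRingCat.of k)) (F : Type u) [CommRing F]
  [Algebra k F]

theorem su_bijective (U : X.Etale) [CompactSpace U.left] [QuasiSeparatedSpace U.left] :
    Function.Bijective (su f F U) :=
  sig_bijective _ _ _ _ _ _ (isPullback_qZ f F U)

theorem sU_bijective (U : X.Etale) [CompactSpace U.left] [QuasiSeparatedSpace U.left] :
    Function.Bijective (sU f F U) := by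
  have h := su_bijective f F U
  let e : GA (hU f U) ⊗[k] F ≃+* GA (hZ f F U) := RingEquiv.ofBijective (su f F U) h
  refine ⟨fun x y hxy => ?_, fun y => ?_⟩
  · apply Additive.toMul.injective
    ext
    exact h.1 (congrArg (fun t : Additive (Γ(zu (ZZ f (sO k F)) U, ⊤))ˣ =>
      ((t.toMul : (Γ(zu (ZZ f (sO k F)) U, ⊤))ˣ) : Γ(zu (ZZ f (sO k F)) U, ⊤))) hxy)
  · let y' : (GA (hZ f F U))ˣ := y.toMul
    refine ⟨Additive.ofMul (Units.mapEquiv e.toMulEquiv.symm y'), ?_⟩
    apply Additive.toMul.injective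
    ext
    exact e.apply_symm_apply (y' : GA (hZ f F U))

end ZUField

end K349.Sec
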