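import Groth.Agent.Dix.K349.Tow2
import Groth.Agent.Dix.K349.Sec
import Groth.Agent.Dix.K349.FormPic

/-!
# Formal systems of Picard classes on `X × Spec (K ⊗ … ⊗ K ⊗ A)`

`A` noetherian, complete for `I`, `B m = A / I^(m+1)`: `sys` is the system of thickenings of `Zn f K A n`.
-/

set_option autoImplicit false
set_option backward.isDefEq.respectTransparency false
set_option backward.isDefEq.respectTransparency.types false

universe u

open CategoryTheory CategoryTheory.Limits AlgebraicGeometry Opposite TensorProduct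

namespace K349.FormSys

open K349.Amit K349.GGFun K349.Tow K349.Tow2 K349.Sec K349.FormPic K998.UnitCx Groth.Agent.Grpsch.PicGrp
  Groth.Agent.Sga3.H805.SecExt

section Alg

variable {k : Type u} [CommRing k] (K : Type u) [CommRing K] [Algebra k K]
  {C C' : Type u} [CommRing C] [Algebra k C] [CommRing C'] [Algebra k C']

theorem em_surjective {φ : C →ₐ[k] C'} (hφ : Function.Surjective φ) : ∀ n : ℕ, Function.Surjective (em k K φ n)
  | 0 => hφ
  | n + 1 => by
    change Function.Surjective (Algebra.TensorProduct.map (AlgHom.id k K) (em k K φ n))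
    exact TensorProduct.map_surjective Function.surjective_id (em_surjective hφ n)

theorem finite_includeRight [Module.Finite k K] (F : Type u) [CommRing F] [Algebra k F] :
    ((Algebra.TensorProduct.includeRight : F →ₐ[k] K ⊗[k] F).toRingHom).Finite := by
  have h1 : (algebraMap F (F ⊗[k] K)).Finite := RingHom.finite_algebraMap.2 inferInstance
  have h2 : ((Algebra.TensorProduct.comm k F K).toAlgHom.toRingHom).Finite :=
    RingHom.Finite.of_surjective _ (Algebra.TensorProduct.comm k F K).surjective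
  have h3 := h2.comp h1
  convert h3 using 1
  ext x
  change (1 : K) ⊗ₜ[k] x = Algebra.TensorProduct.comm k F K (x ⊗ₜ[k] (1 : K))
  rw [Algebra.TensorProduct.comm_tmul]

theorem finite_inn [Module.Finite k K] (C : Type u) [CommRing C] [Algebra k C] : ∀ n : ℕ,
    (inn k K C n).toRingHom.Finite
  | 0 => RingHom.Finite.id C
  | n + 1 => (finite_includeRight K (E k K C n)).comp (finite_inn C n)

end Alg

section Geom

variable {k : Type u} [CommRing k] {X : Scheme.{u}} (f : X ⟶ Spec (CommRingCat.of k)) (K : Type u) [CommRing K]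
  [Algebra k K]

theorem isProper_pC [IsProper f] [Module.Finite k K] (C : Type u) [CommRing C] [Algebra k C] (n : ℕ) :
    IsProper (pC f K C n) := by
  have h1 : IsProper (PicF.XTproj f (sO k (E k K C n))) := inferInstanceAs (IsProper (pullback.snd f _))
  have h2 : IsFinite (Spec.map (CommRingCat.ofHom (inn k K C n).toRingHom)) :=
    (IsFinite.SpecMap_iff _).2 (finite_inn K C n)
  exact inferInstanceAs (IsProper (PicF.XTproj f (sO k (E k K C n)) ≫
    Spec.map (CommRingCat.ofHom (inn k K C n).toRingHom)))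

end Geom

section Fld

variable {k : Type u} [Field k] {X : Scheme.{u}} (f : X ⟶ Spec (CommRingCat.of k))

/-- functions on `X_F'` lift to `X_F` for `F → F'` onto -/
theorem appTop_XTmap_surjective [CompactSpace X] [QuasiSeparatedSpace X] {F F' : Type u} [CommRing F] [Algebra k F]
    [CommRing F'] [Algebra k F'] {φ : F →ₐ[k] F'} (hφ : Function.Surjective φ) :
    Function.Surjective (PicF.XTmap f (sM φ)).appTop := by
  let hY := pullback.fst f (sO k F).hom ≫ f
  let hY' := pullback.fst f (sO k F').hom ≫ f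
  have w : PicF.XTproj f (sO k F) ≫ Spec.map (CommRingCat.ofHom (algebraMap k F)) = hY := pullback.condition.symm
  have w' : PicF.XTproj f (sO k F') ≫ Spec.map (CommRingCat.ofHom (algebraMap k F')) = hY' := pullback.condition.symm
  have h1 : PicF.XTmap f (sM φ) ≫ pullback.fst f (sO k F).hom = pullback.fst f (sO k F').hom :=
    Groth.Agent.Fga.RigGrp.XTmap_fst f (sM φ)
  have h2 := sig_nat f hY (pullback.fst f (sO k F).hom) rfl (PicF.XTproj f (sO k F)) w f hY'
    (pullback.fst f (sO k F').hom) rfl (PicF.XTproj f (sO k F')) w' (𝟙 _) (Category.id_comp _)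
    (PicF.XTmap f (sM φ)) (by rw [h1, Category.comp_id]) (by
      change _ ≫ _ ≫ f = _ ≫ f
      rw [← Category.assoc, h1]) φ (Groth.Agent.Fga.RigGrp.XTmap_XTproj f (sM φ))
  have h3 := (sig_bijective f hY' (pullback.fst f (sO k F').hom) rfl (PicF.XTproj f (sO k F')) w'
    (IsPullback.of_hasPullback f (sO k F').hom)).surjective
  intro y
  obtain ⟨z, hz⟩ := h3 y
  have h4 : Function.Surjective (Algebra.TensorProduct.map (gaM (𝟙 X) f f (Category.id_comp _)) φ) := by
    refine TensorProduct.map_surjective (fun x => ⟨x, ?_⟩) hφ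
    change (𝟙 X : X ⟶ X).appTop.hom x = x
    rw [Scheme.Hom.id_appTop]
    rfl
  obtain ⟨z', hz'⟩ := h4 z
  refine ⟨sig f hY (pullback.fst f (sO k F).hom) rfl (PicF.XTproj f (sO k F)) w z', ?_⟩
  have h5 := DFunLike.congr_fun h2 z'
  refine Eq.trans h5 ?_
  rw [AlgHom.comp_apply, hz', hz]

end Fld

/-- A complete algebra with its quotients. -/
structure Dat (k : Type u) [CommRing k] (A : Type u) [CommRing A] [Algebra k A] (I : Ideal A) where
  /-- the quotients -/
  B : ℕ → Type u
  [cr : ∀ m, CommRing (B m)]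
  [al : ∀ m, Algebra k (B m)]
  /-- the projections -/
  ε : ∀ m, A →ₐ[k] B m
  ε_surj : ∀ m, Function.Surjective (ε m)
  ker_ε : ∀ m, RingHom.ker (ε m).toRingHom = I ^ (m + 1)
  /-- the transition maps -/
  τ : ∀ m, B (m + 1) →ₐ[k] B m
  τ_ε : ∀ m, (τ m).comp (ε (m + 1)) = ε m

attribute [instance] Dat.cr Dat.al

section Sys

variable {k : Type u} [Field k] {X : Scheme.{u}} (f : X ⟶ Spec (CommRingCat.of k)) (K : Type u) [CommRing K]
  [Algebra k K] {A : Type u} [CommRing A] [Algebra k A] {I : Ideal A} (𝔇 : Dat k A I)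

theorem Dat.τ_surj (m : ℕ) : Function.Surjective (𝔇.τ m) := by
  intro x
  obtain ⟨a, rfl⟩ := 𝔇.ε_surj m x
  exact ⟨𝔇.ε (m + 1) a, DFunLike.congr_fun (𝔇.τ_ε m) a⟩

/-- the thickenings of `Zn f K A n` -/
noncomputable def sys (n : ℕ) : FormPic.Sys I (pC f K A n) where
  V m := (Zn f K (𝔇.B m) n).left
  v m := (ze f K (𝔇.ε m) n).left
  t m := (ze f K (𝔇.τ m) n).left
  ht m := by rw [← Over.comp_left, ze_ze, 𝔇.τ_ε]
  ci m := (ker_eq I (pC f K A n) (𝔇.ε_surj m) (𝔇.ker_ε m) (isPullback_ze f K (𝔇.ε m) n)).1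
  ker m := (ker_eq I (pC f K A n) (𝔇.ε_surj m) (𝔇.ker_ε m) (isPullback_ze f K (𝔇.ε m) n)).2

variable [IsProper f] [Module.Finite k K] [IsNoetherianRing A] [IsAdicComplete I A]

/-- **Existence** -/
theorem exists_pic (n : ℕ) (c : ∀ m, Pic (Zn f K (𝔇.B m) n).left)
    (hc : ∀ m, pull (ze f K (𝔇.τ m) n).left (c (m + 1)) = c m) :
    ∃ C : Pic (Zn f K A n).left, ∀ m, pull (ze f K (𝔇.ε m) n).left C = c m :=
  have := isProper_pC f K A n
  (sys f K 𝔇 n).exists_pic c hc

/-- **Uniqueness** -/
theorem pic_eq (n : ℕ) (C C' : Pic (Zn f K A n).left)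
    (h : ∀ m, pull (ze f K (𝔇.ε m) n).left C = pull (ze f K (𝔇.ε m) n).left C') : C = C' := by
  have := isProper_pC f K A n
  have hX : CompactSpace X := QuasiCompact.compactSpace_of_compactSpace f
  have hX' : QuasiSeparatedSpace X := quasiSeparatedSpace_of_quasiSeparated f
  exact (sys f K 𝔇 n).pic_eq (fun m => appTop_XTmap_surjective f (em_surjective K (𝔇.τ_surj m) n)) C C' h

end Sys

end K349.FormSys
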