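import Groth.Agent.Dix.K349.PicLift
import Groth.Agent.Dix.K349.FormSys

/-!
# Compatible systems of Picard classes attached to a Brauer class

`α ∈ H²(X, 𝔾ₘ)` dying on `X_K` and on the `X_{B m}`: a class `ℓ ∈ Pic (X × Spec (K ⊗ K))` and compatible
`M m ∈ Pic (X × Spec (K ⊗ B m))` with `D M m = ℓ`.
-/

set_option autoImplicit false
set_option backward.isDefEq.respectTransparency false
set_option backward.isDefEq.respectTransparency.types false

universe u

open CategoryTheory CategoryTheory.Limits AlgebraicGeometry Opposite TensorProduct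

namespace K349.Compat

open K349.Amit K349.GGFun K349.Tow K349.Tow2 K349.UH K998.UnitCx Groth.Agent.Grpsch.PicGrp K349.HomAlg K349.PicTow
  K349.PicLift K349.FormSys

variable {k : Type u} [Field k] [IsSepClosed k] {X : Scheme.{u}} (f : X ⟶ Spec (CommRingCat.of k)) [IsProper f]
  (hX : Function.Bijective (Groth.Agent.Sga3.H805.SecExt.str f ⊤)) (hdim : topologicalKrullDim X ≤ 1)
  (K : Type u) [CommRing K] [Algebra k K] [Nontrivial K] [Module.Finite k K]
  (hK : IsUH (Spec.map (CommRingCat.ofHom (algebraMap k K))))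

section Step

include hX hdim hK in
theorem exists_next {B B' : Type u} [CommRing B] [Algebra k B] [Module.Finite k B] [Nontrivial B] [CommRing B']
    [Algebra k B'] [Module.Finite k B'] [IsLocalRing B']
    (hB : IsUH (Spec.map (CommRingCat.ofHom (algebraMap k B))))
    (hB' : IsUH (Spec.map (CommRingCat.ofHom (algebraMap k B')))) (φ : B' →ₐ[k] B) (hφ : Function.Surjective φ)
    (M : Additive (Pic (Zn f K B 1).left)) (M' : Additive (Pic (Zn f K B' 1).left))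
    (h : PD f K B 1 M = PD f K B 1 (pe f K φ 1 M')) :
    ∃ N : Additive (Pic (Zn f K B' 1).left), pe f K φ 1 N = M ∧ PD f K B' 1 N = PD f K B' 1 M' := by
  have : CompactSpace X := QuasiCompact.compactSpace_of_compactSpace f
  have : QuasiSeparatedSpace X := quasiSeparatedSpace_of_quasiSeparated f
  have hZ := isUH_Zn k K B f hK hB
  have hZ' := isUH_Zn k K B' f hK hB'
  have h1 : pm (LocSol.cx f K B).D1 (pz _ (hZ 1) (pe f K φ 1 M' - M)) = 0 := by
    refine (pz_PD f K hZ 1 _).trans ?_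
    rw [map_sub, h, sub_self, map_zero]
  obtain ⟨n, hn⟩ := (LocSol.cx f K B).exists_of_D1 (GlobSol.surj_cx K B f hX) _ h1
  obtain ⟨n', rfl⟩ := (pz _ (hZ 0)).surjective n
  obtain ⟨n'', rfl⟩ := pe_surjective f K hdim hB' φ hφ n'
  have h2 : PD f K B 0 (pe f K φ 0 n'') = pe f K φ 1 M' - M := by
    apply (pz _ (hZ 1)).injective
    exact (pz_PD f K hZ 0 _).symm.trans hn
  refine ⟨M' - PD f K B' 0 n'', ?_, ?_⟩
  · rw [map_sub, pe_PD, h2]
    abel
  · rw [map_sub, sub_eq_self]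
    apply (pz _ (hZ' 2)).injective
    rw [map_zero, ← pz_PD f K hZ' 1, ← pz_PD f K hZ' 0]
    exact (pm_comp _ _ _).trans ((congrArg (fun t => pm t _) (DG_DG f K (C := B') 0)).trans
      ((congrArg (fun t => Abelian.Ext.comp _ t (add_zero 1)) (Abelian.Ext.mk₀_zero _ _)).trans
        (Abelian.Ext.comp_zero _ _ _ _ _)))

end Step

variable {A : Type u} [CommRing A] [Algebra k A] {I : Ideal A} (𝔇 : Dat k A I) [∀ m, Module.Finite k (𝔇.B m)]
  [∀ m, IsLocalRing (𝔇.B m)] (hB : ∀ m, IsUH (Spec.map (CommRingCat.ofHom (algebraMap k (𝔇.B m)))))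

include hX hdim hK hB in
theorem exists_compat (α : EtCoh.H X (GG (Zn f K k 0)) 2) (h0 : Sheaf.H.map (DG f K k 0) 2 α = 0)
    (hα : ∀ m, Sheaf.H.map (gmap (ze f K (Algebra.ofId k (𝔇.B m)) 0)) 2 α = 0) :
    ∃ (ℓ : Additive (Pic (Zn f K k 2).left)) (M : ∀ m, Additive (Pic (Zn f K (𝔇.B m) 1).left)),
      (∀ m, pe f K (𝔇.τ m) 1 (M (m + 1)) = M m) ∧
      (∀ m, PD f K (𝔇.B m) 1 (M m) = pe f K (Algebra.ofId k (𝔇.B m)) 2 ℓ) ∧
      (∀ N : Additive (Pic (Zn f K k 1).left), PD f K k 1 N = ℓ → α = 0) := by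
  have : CompactSpace X := QuasiCompact.compactSpace_of_compactSpace f
  have : QuasiSeparatedSpace X := quasiSeparatedSpace_of_quasiSeparated f
  have hZ := isUH_Zn k K k f hK (isUH_self k)
  have hZB := fun m => isUH_Zn k K (𝔇.B m) f hK (hB m)
  obtain ⟨ℓ', h1, h2⟩ := (LocSol.cx f K k).exists_ell α h0
  obtain ⟨ℓ, rfl⟩ := (pz _ (hZ 2)).surjective ℓ'
  have h3 : ∀ m, ∃ M : Additive (Pic (Zn f K (𝔇.B m) 1).left),
      PD f K (𝔇.B m) 1 M = pe f K (Algebra.ofId k (𝔇.B m)) 2 ℓ := by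
    intro m
    obtain ⟨n, hn⟩ := h1 _ (LocSol.mor f K (Algebra.ofId k (𝔇.B m))) (hα m)
    obtain ⟨n', rfl⟩ := (pz _ (hZB m 1)).surjective n
    refine ⟨n', ?_⟩
    apply (pz _ (hZB m 2)).injective
    rw [← pz_PD f K (hZB m) 1, ← pz_pe f K (Algebra.ofId k (𝔇.B m)) hZ (hZB m) 2]
    exact hn
  have hnext : ∀ m (M : {M : Additive (Pic (Zn f K (𝔇.B m) 1).left) //
      PD f K (𝔇.B m) 1 M = pe f K (Algebra.ofId k (𝔇.B m)) 2 ℓ}),
      ∃ N : {M : Additive (Pic (Zn f K (𝔇.B (m + 1)) 1).left) //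
      PD f K (𝔇.B (m + 1)) 1 M = pe f K (Algebra.ofId k (𝔇.B (m + 1))) 2 ℓ}, pe f K (𝔇.τ m) 1 N.1 = M.1 := by
    intro m M
    obtain ⟨M', hM'⟩ := h3 (m + 1)
    obtain ⟨N, hN1, hN2⟩ := exists_next f hX hdim K hK (hB m) (hB (m + 1)) (𝔇.τ m) (𝔇.τ_surj m) M.1 M' (by
      rw [M.2, ← pe_PD, hM', pe_pe]
      congr 1
      congr 1
      exact Subsingleton.elim _ _)
    exact ⟨⟨N, hN2.trans hM'⟩, hN1⟩
  choose nx hnx using hnext
  let S : ∀ m, {M : Additive (Pic (Zn f K (𝔇.B m) 1).left) //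
      PD f K (𝔇.B m) 1 M = pe f K (Algebra.ofId k (𝔇.B m)) 2 ℓ} := fun m =>
    Nat.rec (motive := fun m => {M : Additive (Pic (Zn f K (𝔇.B m) 1).left) //
      PD f K (𝔇.B m) 1 M = pe f K (Algebra.ofId k (𝔇.B m)) 2 ℓ}) ⟨(h3 0).choose, (h3 0).choose_spec⟩
      (fun m M => nx m M) m
  refine ⟨ℓ, fun m => (S m).1, fun m => hnx m (S m), fun m => (S m).2, fun N hN => ?_⟩
  refine h2 (GlobSol.surj_cx K k f hX) (pz _ (hZ 1) N) ?_
  refine (pz_PD f K hZ 1 N).trans ?_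
  rw [hN]

end K349.Compat
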