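import Groth.Agent.Etcore.RpushLoc
import Groth.Agent.CurvesA.Torsor
import Groth.Agent.Etbase.EtSite
import Groth.Prelude.Def_EtLim

/-!
# Locally trivial classes of degree two and `f_*`

`f : X ⟶ Y`, `R¹ f_* F = 0`: a class in `H²(X, F)` which dies étale locally on `Y` comes from `H²(Y, f_* F)`
(`exists_ho_two`).
-/

set_option autoImplicit false
universe u
open CategoryTheory CategoryTheory.Limits AlgebraicGeometry Opposite Abelian
open scoped Groth.Agent.Etcore.EtInst
open Groth.Agent.Etcore.EtInst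

namespace K349.EdgeTwo

open Groth.Agent.Etcore Groth.Agent.Etcore.HQ Groth.Agent.Etcore.RpushLoc Groth.Agent.Etcore.HpullCalc
  Groth.Agent.Etcore.PullCoh

attribute [local instance] pfl

variable {X Y : Scheme.{u}} (f : X ⟶ Y)

/-- the edge map `H^n(Y, f_* F) → H^n(X, F)` -/
noncomputable def ho (F : EtCoh.Ab X) (n : ℕ) : HH Y ((EtCoh.push f).obj F) n →+ HH X F n :=
  (HHmap ((EtCoh.pullPushAdj f).counit.app F) n).comp (hp f ((EtCoh.push f).obj F) n)

theorem ho_apply (F : EtCoh.Ab X) (n : ℕ) (x : HH Y ((EtCoh.push f).obj F) n) :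
    ho f F n x = HHmap ((EtCoh.pullPushAdj f).counit.app F) n (hp f _ n x) := rfl

/-- compatibility with connecting maps -/
theorem map_hp_extClass {T : ShortComplex (EtCoh.Ab Y)} (hT : T.ShortExact) {S : ShortComplex (EtCoh.Ab X)}
    (hS : S.ShortExact) (φ : T.map (EtCoh.pull f) ⟶ S) (n : ℕ) (x : HH Y T.X₃ n) :
    HHmap φ.τ₁ (n + 1) (hp f T.X₁ (n + 1) (Ext.comp x hT.extClass rfl)) =
      Ext.comp (HHmap φ.τ₃ n (hp f T.X₃ n x)) hS.extClass rfl := by
  rw [hp_extClass f hT rfl x]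
  exact comp_aux (ShortComplex.ShortExact.extClass_naturality _ _ φ) (hp f T.X₃ n x)

/-- the counit on short complexes -/
noncomputable def cnS (S : ShortComplex (EtCoh.Ab X)) : (S.map (EtCoh.push f)).map (EtCoh.pull f) ⟶ S where
  τ₁ := (EtCoh.pullPushAdj f).counit.app S.X₁
  τ₂ := (EtCoh.pullPushAdj f).counit.app S.X₂
  τ₃ := (EtCoh.pullPushAdj f).counit.app S.X₃
  comm₁₂ := ((EtCoh.pullPushAdj f).counit_naturality S.f).symm
  comm₂₃ := ((EtCoh.pullPushAdj f).counit_naturality S.g).symm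

theorem ho_extClass {S : ShortComplex (EtCoh.Ab X)} (hS : S.ShortExact) (hS' : (S.map (EtCoh.push f)).ShortExact)
    (n : ℕ) (x : HH Y ((EtCoh.push f).obj S.X₃) n) :
    ho f S.X₁ (n + 1) (Ext.comp x hS'.extClass rfl) = Ext.comp (ho f S.X₃ n x) hS.extClass rfl :=
  map_hp_extClass f hS' hS (cnS f S) n x

theorem H0_ho (F : EtCoh.Ab X) (x : HH Y ((EtCoh.push f).obj F) 0) :
    H0 X F (ho f F 0 x) = F.obj.map (EtCore.bcTopIso f).inv.op (H0 Y _ x) := by
  have h0 : H0 X F (ho f F 0 x) = ((EtCoh.pullPushAdj f).counit.app F).hom.app (op (EtCoh.top X))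
      ((unitSec f ((EtCoh.push f).obj F)).hom (H0 Y _ x)) :=
    (H0_map ((EtCoh.pullPushAdj f).counit.app F) (hp f _ 0 x)).trans
      (congrArg (fun t => ((EtCoh.pullPushAdj f).counit.app F).hom.app (op (EtCoh.top X)) t)
        (hp_zero f ((EtCoh.push f).obj F) x))
  have h1 := (EtCoh.pullPushAdj f).right_triangle_components F
  have h2 := congrArg (fun t => t.hom.app (op (EtCoh.top Y)) (H0 Y _ x)) h1
  have h3 := ConcreteCategory.congr_hom (((EtCoh.pullPushAdj f).counit.app F).hom.naturality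
    (EtCore.bcTopIso f).inv.op) (((EtCoh.pullPushAdj f).unit.app ((EtCoh.push f).obj F)).hom.app
      (op (EtCoh.top Y)) (H0 Y _ x))
  refine h0.trans (Eq.trans h3 ?_)
  exact congrArg (fun t => F.obj.map (EtCore.bcTopIso f).inv.op t) h2

theorem hp_pr_zero (G : EtCoh.Ab X) (V : Y.Etale) (s : HH X G 0) :
    hp (pr f V) G 0 s = secP f G V (G.obj.map (toTop ((EtCoh.bc f).obj V)).op (H0 X G s)) := by
  have h1 : hp (pr f V) G 0 s = sec G (pr f V) (W := EtCoh.top X) (pr f V) (Category.comp_id _) (H0 X G s) := by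
    apply (H0 _ _).injective
    exact (hp_zero (pr f V) G s).trans ((unitSec_apply (pr f V) G (H0 X G s)).trans
      (H0_sec G (pr f V) (W := EtCoh.top X) (pr f V) (Category.comp_id _) (H0 X G s)).symm)
  rw [h1]
  exact (sec_res G (pr f V) (𝟙 _) (Category.id_comp _) (toTop ((EtCoh.bc f).obj V)) (pr f V) (Category.comp_id _)
    (by
      rw [Category.id_comp]
      have h2 : (toTop ((EtCoh.bc f).obj V)).left ≫ (EtCoh.top X).hom = pr f V := Groth.Agent.EtpbcB.Big.et_w _
      exact (Category.comp_id _).symm.trans h2) (H0 X G s)).symm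

/-- a section over the whole of `Y` which is locally zero is zero -/
theorem sect_eq_zero (R : EtCoh.Ab Y) (a : EtCoh.sect R (EtCoh.top Y))
    (h : ∀ y : Y, ∃ (V : Y.Etale) (v : V.left), V.hom v = y ∧ R.obj.map (toTop V).op a = 0) : a = 0 := by
  let T : Sieve (EtCoh.top Y) :=
    { arrows := fun V r => R.obj.map r.op a = 0
      downward_closed := by
        intro V W r hr g
        rw [op_comp, Functor.map_comp]
        change R.obj.map g.op (R.obj.map r.op a) = 0
        rw [hr, map_zero] }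
  have hT : T ∈ Y.smallEtaleTopology (EtCoh.top Y) := by
    rw [Groth.Agent.Etbase.EtSite.mem_iff]
    intro y
    obtain ⟨V, v, hv, h0⟩ := h y
    refine ⟨V, toTop V, v, h0, ?_⟩
    have h2 : (toTop V).left ≫ (EtCoh.top Y).hom = V.hom := Groth.Agent.EtpbcB.Big.et_w _
    have h3 : (toTop V).left = V.hom := (Category.comp_id _).symm.trans h2
    rw [h3]
    exact hv
  apply Groth.Agent.CurvesA.Torsor.eq_of_locally_eq R T hT
  intro V r hr
  exact (show R.obj.map r.op a = 0 from hr).trans (map_zero _).symm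

section Abstract

variable {A B : Type*} [Category* A] [Abelian A] [Category* B] [Abelian B] (G : A ⥤ B) [G.Additive]
  [PreservesFiniteLimits G]

/-- factorisation through the image of `G X₂ → G X₃` -/
theorem exists_factor {S : ShortComplex A} (hS : S.ShortExact) {Z : B} (sb : Z ⟶ G.obj S.X₃)
    (h : ∀ {R : B} (r : G.obj S.X₃ ⟶ R), G.map S.g ≫ r = 0 → sb ≫ r = 0) :
    ∃ (C : B) (p : G.obj S.X₂ ⟶ C) (w : G.map S.f ≫ p = 0) (_ : (ShortComplex.mk (G.map S.f) p w).ShortExact)
      (c : C ⟶ G.obj S.X₃) (tt : Z ⟶ C), p ≫ c = G.map S.g ∧ tt ≫ c = sb := by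
  have : Mono S.f := hS.mono_f
  let j := G.map S.f
  let q := G.map S.g
  have hjq : j ≫ q = 0 := by rw [← Functor.map_comp, S.zero, Functor.map_zero]
  let C := cokernel j
  let p : G.obj S.X₂ ⟶ C := cokernel.π j
  let c : C ⟶ G.obj S.X₃ := cokernel.desc j q hjq
  have hc : p ≫ c = q := cokernel.π_desc _ _ _
  have hT : (ShortComplex.mk j p (cokernel.condition _)).ShortExact :=
    { exact := ShortComplex.exact_cokernel _
      mono_f := inferInstanceAs (Mono (G.map S.f))
      epi_g := inferInstanceAs (Epi (cokernel.π j)) }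
  have hcm : Mono c := by
    have h1 : (ShortComplex.mk j q hjq).Exact := hS.exact.map_of_mono_of_preservesKernel G inferInstance
      inferInstance
    exact (ShortComplex.exact_iff_mono_cokernel_desc _).1 h1
  have hr : sb ≫ cokernel.π c = 0 := by
    apply h
    change q ≫ _ = 0
    rw [← hc, Category.assoc, cokernel.condition, comp_zero]
  exact ⟨C, p, cokernel.condition _, hT, c, Abelian.monoLift c sb hr, hc, Abelian.monoLift_comp c sb hr⟩

theorem map_shortExact {S : ShortComplex A} (hS : S.ShortExact) (h : Epi (G.map S.g)) : (S.map G).ShortExact := by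
  have : Mono S.f := hS.mono_f
  exact { exact := hS.exact.map_of_mono_of_preservesKernel G inferInstance inferInstance
          mono_f := inferInstanceAs (Mono (G.map S.f))
          epi_g := h }

end Abstract

/-- Classes of degree one which are locally trivial on `Y`. -/
theorem exists_ho_one {S : ShortComplex (EtCoh.Ab X)} (hS : S.ShortExact) (s : HH X S.X₃ 0)
    (hloc : ∀ y : Y, ∃ (V : Y.Etale) (v : V.left) (t : EtCoh.sect S.X₂ ((EtCoh.bc f).obj V)), V.hom v = y ∧
      S.g.hom.app (op ((EtCoh.bc f).obj V)) t = S.X₃.obj.map (toTop ((EtCoh.bc f).obj V)).op (H0 X _ s)) :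
    ∃ β : HH Y ((EtCoh.push f).obj S.X₁) 1, ho f S.X₁ 1 β = Ext.comp s hS.extClass rfl := by
  have hG : PreservesLimitsOfSize.{0, 0} (EtCoh.push f) := (EtCoh.pullPushAdj f).rightAdjoint_preservesLimits
  have : PreservesFiniteLimits (EtCoh.push f) := PreservesLimitsOfSize.preservesFiniteLimits _
  let a : EtCoh.sect S.X₃ (EtCoh.top X) := H0 X _ s
  let a' : EtCoh.sect ((EtCoh.push f).obj S.X₃) (EtCoh.top Y) := S.X₃.obj.map (EtCore.bcTopIso f).hom.op a
  obtain ⟨sb, hsb⟩ := (Ext.mk₀_bijective _ _).2 ((H0 Y ((EtCoh.push f).obj S.X₃)).symm a')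
  have hsb' : H0 Y ((EtCoh.push f).obj S.X₃) (Ext.mk₀ sb) = a' := by
    rw [hsb, AddEquiv.apply_symm_apply]
  have hs : ho f S.X₃ 0 (Ext.mk₀ sb) = s := by
    apply (H0 X S.X₃).injective
    rw [H0_ho, hsb']
    have h1 : ∀ x : EtCoh.sect S.X₃ (EtCoh.top X),
        S.X₃.obj.map (EtCore.bcTopIso f).inv.op (S.X₃.obj.map (EtCore.bcTopIso f).hom.op x) = x := by
      intro x
      rw [← res_comp, Iso.inv_hom_id, res_id]
    exact h1 a
  have hr : ∀ {R : EtCoh.Ab Y} (r : (EtCoh.push f).obj S.X₃ ⟶ R), (EtCoh.push f).map S.g ≫ r = 0 → sb ≫ r = 0 := by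
    intro R r hqr
    apply (Ext.mk₀_bijective _ _).1
    apply (H0 Y R).injective
    have h1 : Ext.mk₀ (sb ≫ r) = HHmap r 0 (Ext.mk₀ sb) := by
      rw [HHmap_apply, Ext.mk₀_comp_mk₀]
    have h2 : H0 Y R (Ext.mk₀ (0 : EtCoh.const Y ℤ ⟶ R)) = 0 := by
      rw [Ext.mk₀_zero, map_zero]
    rw [h1, H0_map, hsb', h2]
    apply sect_eq_zero
    intro y
    obtain ⟨V, v, t, hv, ht⟩ := hloc y
    refine ⟨V, v, hv, ?_⟩
    have h4 : ((EtCoh.push f).obj S.X₃).obj.map (toTop V).op a' = ((EtCoh.push f).map S.g).hom.app (op V) t := by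
      refine Eq.trans ?_ ht.symm
      change S.X₃.obj.map ((EtCoh.bc f).map (toTop V)).op (S.X₃.obj.map (EtCore.bcTopIso f).hom.op a) = _
      rw [← res_comp]
      exact congrArg (fun t => S.X₃.obj.map (Quiver.Hom.op t) a) (toTop_ext _ _)
    rw [← map_res, h4]
    exact congrArg (fun x => x.hom.app (op V) t) hqr
  obtain ⟨C, p, w, hT, c, tt, hc, htt⟩ := exists_factor (EtCoh.push f) hS sb hr
  let φ : (ShortComplex.mk ((EtCoh.push f).map S.f) p w).map (EtCoh.pull f) ⟶ S :=
    { τ₁ := (EtCoh.pullPushAdj f).counit.app S.X₁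
      τ₂ := (EtCoh.pullPushAdj f).counit.app S.X₂
      τ₃ := (EtCoh.pull f).map c ≫ (EtCoh.pullPushAdj f).counit.app S.X₃
      comm₁₂ := ((EtCoh.pullPushAdj f).counit_naturality S.f).symm
      comm₂₃ := by
        refine (((EtCoh.pullPushAdj f).counit_naturality S.g).symm).trans ?_
        change (EtCoh.pull f).map ((EtCoh.push f).map S.g) ≫ _ = (EtCoh.pull f).map p ≫ (EtCoh.pull f).map c ≫ _
        rw [← hc, Functor.map_comp, Category.assoc] }
  refine ⟨Ext.comp (Ext.mk₀ tt) hT.extClass rfl, ?_⟩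
  refine Eq.trans (map_hp_extClass f hT hS φ 0 (Ext.mk₀ tt)) ?_
  congr 1
  change HHmap ((EtCoh.pull f).map c ≫ (EtCoh.pullPushAdj f).counit.app S.X₃) 0 (hp f C 0 (Ext.mk₀ tt)) = s
  rw [HHmap_comp, ← hp_map, HHmap_apply (φ := c), Ext.mk₀_comp_mk₀, htt]
  exact hs

/-- **Classes of degree two which are locally trivial on `Y`** come from `H²(Y, f_* F)` if `R¹ f_* F = 0`. -/
theorem exists_ho_two (F : EtCoh.Ab X) (hR : IsZero ((EtCoh.Rpush f 1).obj F)) (γ : HH X F 2)
    (hloc : ∀ y : Y, ∃ (V : Y.Etale) (v : V.left), V.hom v = y ∧ hp (pr f V) F 2 γ = 0) :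
    ∃ β : HH Y ((EtCoh.push f).obj F) 2, ho f F 2 β = γ := by
  have hG : PreservesLimitsOfSize.{0, 0} (EtCoh.push f) := (EtCoh.pullPushAdj f).rightAdjoint_preservesLimits
  have : PreservesFiniteLimits (EtCoh.push f) := PreservesLimitsOfSize.preservesFiniteLimits _
  have hS := injSeq_shortExact F
  have hS' := injSeq_shortExact (injSeq F).X₃
  obtain ⟨γ₁, rfl⟩ := Ext.covariant_sequence_exact₁ _ hS γ (Ext.eq_zero_of_injective _) (n₀ := 1) rfl
  obtain ⟨s, rfl⟩ := Ext.covariant_sequence_exact₁ _ hS' γ₁ (Ext.eq_zero_of_injective _) (n₀ := 0) rfl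
  obtain ⟨β₁, hβ₁⟩ := exists_ho_one f hS' s (fun y => by
    obtain ⟨V, v, hv, h0⟩ := hloc y
    have h1 := (hp_extClass (pr f V) hS rfl (Ext.comp s hS'.extClass rfl)).symm.trans h0
    obtain ⟨z, hz⟩ := exists_map_eq hS (pr f V) 1 _ h1
    rw [eq_zero_of_injective _ _ 0 z, map_zero] at hz
    have h2 := (hp_extClass (pr f V) hS' rfl s).symm.trans hz.symm
    obtain ⟨z', hz'⟩ := exists_map_eq hS' (pr f V) 0 _ h2
    obtain ⟨t, rfl⟩ := (secP_bijective f _ V).2 z'
    rw [map_secP, hp_pr_zero] at hz'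
    exact ⟨V, v, t, hv, (secP_bijective f _ V).1 hz'⟩)
  have hep : Epi ((EtCoh.push f).map (injSeq F).g) := DerLES.epi_map_g (EtCoh.push f) hS hR
  refine ⟨Ext.comp β₁ (map_shortExact (EtCoh.push f) hS hep).extClass rfl, ?_⟩
  refine (ho_extClass f hS (map_shortExact (EtCoh.push f) hS hep) 1 β₁).trans ?_
  rw [← hβ₁]
  rfl

end K349.EdgeTwo
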