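import Mathlib.Algebra.Homology.DerivedCategory.Ext.ExactSequences
import Mathlib.CategoryTheory.Abelian.Exact

/-!
# A low degree exact sequence for an exact complex `0 → G₀ → G₁ → G₂ → G₃ → G₄`
-/

set_option autoImplicit false
set_option linter.unusedSectionVars false

universe w v u

open CategoryTheory CategoryTheory.Limits CategoryTheory.Abelian

namespace K349.HomAlg

variable {C : Type u} [Category.{v} C] [Abelian C] [HasExt.{w} C]

/-- push forward of classes -/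
noncomputable def pm {Z F G : C} (f : F ⟶ G) {n : ℕ} (x : Ext Z F n) : Ext Z G n := x.comp (Ext.mk₀ f) (add_zero n)

theorem pm_comp {Z F G H : C} (f : F ⟶ G) (g : G ⟶ H) {n : ℕ} (x : Ext Z F n) : pm g (pm f x) = pm (f ≫ g) x := by
  rw [pm, pm, pm, Ext.comp_assoc_of_third_deg_zero, Ext.mk₀_comp_mk₀]

theorem pm_add {Z F G : C} (f : F ⟶ G) {n : ℕ} (x y : Ext Z F n) : pm f (x + y) = pm f x + pm f y :=
  Ext.add_comp _ _ _ _

theorem pm_neg {Z F G : C} (f : F ⟶ G) {n : ℕ} (x : Ext Z F n) : pm f (-x) = - pm f x :=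
  Ext.neg_comp _ _ _

theorem pm_sub {Z F G : C} (f : F ⟶ G) {n : ℕ} (x y : Ext Z F n) : pm f (x - y) = pm f x - pm f y := by
  rw [sub_eq_add_neg, pm_add, pm_neg, ← sub_eq_add_neg]

theorem pm_zero {Z F G : C} (f : F ⟶ G) {n : ℕ} : pm f (0 : Ext Z F n) = 0 := Ext.zero_comp _ _ _ _ _

/-- Exact complexes `0 → G₀ → G₁ → G₂ → G₃ → G₄` (exactness at `G₀`, `G₁`, `G₂`). -/
structure Cx (C : Type u) [Category.{v} C] [Abelian C] where
  (G0 G1 G2 G3 G4 : C)
  D0 : G0 ⟶ G1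
  D1 : G1 ⟶ G2
  D2 : G2 ⟶ G3
  D3 : G3 ⟶ G4
  z01 : D0 ≫ D1 = 0
  z12 : D1 ≫ D2 = 0
  z23 : D2 ≫ D3 = 0
  mono : Mono D0
  ex1 : (ShortComplex.mk D0 D1 z01).Exact
  ex2 : (ShortComplex.mk D1 D2 z12).Exact

namespace Cx

variable (T : Cx C)

/-- the first short exact sequence -/
noncomputable abbrev S1 : ShortComplex C := ShortComplex.mk T.D0 (cokernel.π T.D0) (cokernel.condition _)

theorem hS1 : T.S1.ShortExact :=
  { exact := ShortComplex.exact_cokernel _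
    mono_f := T.mono
    epi_g := inferInstanceAs (Epi (cokernel.π T.D0)) }

/-- `G₁ / G₀ ⟶ G₂` -/
noncomputable def κ : cokernel T.D0 ⟶ T.G2 := cokernel.desc T.D0 T.D1 T.z01

theorem π_κ : cokernel.π T.D0 ≫ T.κ = T.D1 := cokernel.π_desc _ _ _

theorem mono_κ : Mono T.κ := by
  have h := T.ex1
  rw [ShortComplex.exact_iff_mono_cokernel_desc] at h
  exact h

/-- `G₂ / G₁ ⟶ G₃` -/
noncomputable def ρ : cokernel T.D1 ⟶ T.G3 := cokernel.desc T.D1 T.D2 T.z12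

theorem π_ρ : cokernel.π T.D1 ≫ T.ρ = T.D2 := cokernel.π_desc _ _ _

theorem mono_ρ : Mono T.ρ := by
  have h := T.ex2
  rw [ShortComplex.exact_iff_mono_cokernel_desc] at h
  exact h

theorem κ_π : T.κ ≫ cokernel.π T.D1 = 0 := by
  rw [← cancel_epi (cokernel.π T.D0), ← Category.assoc, π_κ, cokernel.condition, comp_zero]

/-- the second short exact sequence -/
noncomputable abbrev S2 : ShortComplex C := ShortComplex.mk T.κ (cokernel.π T.D1) T.κ_π

theorem hS2 : T.S2.ShortExact where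
  exact := by
    apply ShortComplex.exact_of_g_is_cokernel
    refine CokernelCofork.IsColimit.ofπ _ _ (fun g hg => cokernel.desc T.D1 g (by
      rw [← π_κ, Category.assoc]
      rw [hg, comp_zero])) (fun g hg => cokernel.π_desc _ _ _) (fun g hg b hb => ?_)
    rw [← cancel_epi (cokernel.π T.D1)]
    exact hb.trans (cokernel.π_desc _ _ _).symm
  mono_f := T.mono_κ
  epi_g := inferInstanceAs (Epi (cokernel.π T.D1))

/-- cocycles with values in `G₃` are coboundaries on `Z` -/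
def Surj (Z : C) : Prop := ∀ z : Z ⟶ T.G3, z ≫ T.D3 = 0 → ∃ u : Z ⟶ T.G2, u ≫ T.D2 = z

theorem eq_zero_of_κ {Z : C} (hZ : T.Surj Z) (x : Ext Z (cokernel T.D0) 1) (hx : pm T.κ x = 0) : x = 0 := by
  obtain ⟨r, rfl⟩ := Ext.covariant_sequence_exact₁ _ T.hS2 x hx (n₀ := 0) rfl
  obtain ⟨r, rfl⟩ := (Ext.mk₀_bijective _ _).2 r
  have h3 : T.ρ ≫ T.D3 = 0 := by
    rw [← cancel_epi (cokernel.π T.D1), ← Category.assoc, π_ρ, T.z23, comp_zero]
  obtain ⟨u, hu⟩ := hZ (r ≫ T.ρ) (by rw [Category.assoc, h3, comp_zero])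
  have h4 : r = u ≫ cokernel.π T.D1 := by
    have := T.mono_ρ
    rw [← cancel_mono T.ρ, Category.assoc, π_ρ, hu]
  subst h4
  have h5 : (Ext.mk₀ (u ≫ cokernel.π T.D1) : Ext Z (cokernel T.D1) 0) =
      (Ext.mk₀ u).comp (Ext.mk₀ T.S2.g) (add_zero 0) := (Ext.mk₀_comp_mk₀ _ _).symm
  refine (congrArg (fun t : Ext Z T.S2.X₃ 0 => t.comp T.hS2.extClass rfl) h5).trans ?_
  exact (Ext.comp_assoc_of_second_deg_zero _ _ _ _).trans ((congrArg (fun t => Ext.comp (Ext.mk₀ u) t rfl)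
    T.hS2.comp_extClass).trans (Ext.comp_zero _ _ _ _ _))

/-- Classes killed by `D₁` come from `G₀`. -/
theorem exists_of_D1 {Z : C} (hZ : T.Surj Z) (m : Ext Z T.G1 1) (hm : pm T.D1 m = 0) :
    ∃ n : Ext Z T.G0 1, pm T.D0 n = m := by
  have h1 : pm (cokernel.π T.D0) m = 0 := by
    apply T.eq_zero_of_κ hZ
    rw [pm_comp, π_κ, hm]
  exact Ext.covariant_sequence_exact₂ _ T.hS1 m h1

/-- morphisms of complexes, up to degree two -/
structure Mor (T T' : Cx C) where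
  φ0 : T.G0 ⟶ T'.G0
  φ1 : T.G1 ⟶ T'.G1
  φ2 : T.G2 ⟶ T'.G2
  c0 : T.D0 ≫ φ1 = φ0 ≫ T'.D0
  c1 : T.D1 ≫ φ2 = φ1 ≫ T'.D1

/-- A class of degree two killed by `D₀` is described by a class of degree one with values in `G₂`. -/
theorem exists_ell {Z : C} (α : Ext Z T.G0 2) (hα : pm T.D0 α = 0) : ∃ ℓ : Ext Z T.G2 1,
    (∀ (T' : Cx C) (φ : Mor T T'), pm φ.φ0 α = 0 → ∃ m : Ext Z T'.G1 1, pm T'.D1 m = pm φ.φ2 ℓ) ∧
    (T.Surj Z → ∀ m : Ext Z T.G1 1, pm T.D1 m = ℓ → α = 0) := by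
  obtain ⟨x, rfl⟩ := Ext.covariant_sequence_exact₁ _ T.hS1 α hα (n₀ := 1) rfl
  refine ⟨pm T.κ x, fun T' φ h0 => ?_, fun hZ m hm => ?_⟩
  · let φQ : cokernel T.D0 ⟶ cokernel T'.D0 := cokernel.map _ _ _ _ φ.c0
    let Φ : T.S1 ⟶ T'.S1 :=
      { τ₁ := φ.φ0
        τ₂ := φ.φ1
        τ₃ := φQ
        comm₁₂ := φ.c0.symm
        comm₂₃ := (cokernel.π_desc _ _ _).symm }
    have h1 : (pm φQ x).comp T'.hS1.extClass rfl = 0 := by
      rw [← h0, pm, pm]
      refine (Ext.comp_assoc_of_second_deg_zero _ _ _ _).trans ?_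
      refine Eq.trans ?_ (Ext.comp_assoc_of_third_deg_zero _ _ _ _).symm
      exact congrArg (fun t => Ext.comp x t rfl) (ShortComplex.ShortExact.extClass_naturality T.hS1 T'.hS1 Φ).symm
    obtain ⟨m, hm⟩ := Ext.covariant_sequence_exact₃ _ T'.hS1 (pm φQ x) (n₁ := 2) rfl h1
    refine ⟨m, ?_⟩
    have h2 : pm (cokernel.π T'.D0) m = pm φQ x := hm
    rw [← T'.π_κ, ← pm_comp, h2, pm_comp, pm_comp]
    congr 1
    rw [← cancel_epi (cokernel.π T.D0), ← Category.assoc, ← Category.assoc, π_κ, φ.c1]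
    change (cokernel.π T.D0 ≫ cokernel.map _ _ _ _ φ.c0) ≫ T'.κ = _
    rw [cokernel.π_desc, Category.assoc, π_κ]
  · have h1 : x - pm (cokernel.π T.D0) m = 0 := by
      apply T.eq_zero_of_κ hZ
      rw [pm_sub, pm_comp, π_κ, hm, sub_self]
    have h2 : x = Ext.comp m (Ext.mk₀ T.S1.g) (add_zero 1) := sub_eq_zero.1 h1
    rw [h2]
    exact (Ext.comp_assoc_of_second_deg_zero _ _ _ _).trans ((congrArg (fun t => Ext.comp m t rfl)
      T.hS1.comp_extClass).trans (Ext.comp_zero _ _ _ _ _))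

end Cx

end K349.HomAlg
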