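import Groth.Agent.CurvesA.Torsor
import Groth.Agent.Dix.K349.HomAlg

/-!
# Exactness and lifting of global sections for abelian sheaves on a site
-/

set_option autoImplicit false

universe w w' v u

open CategoryTheory Opposite Limits

namespace K349.ExSite

open Groth.Agent.CurvesA.Torsor

variable {C : Type u} [Category.{v} C] {J : GrothendieckTopology C}

section

variable [HasSheafify J AddCommGrpCat.{w}]

omit [HasSheafify J AddCommGrpCat.{w}] in
theorem hom_ext' {F G : Sheaf J AddCommGrpCat.{w}} {a b : F ⟶ G}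
    (h : ∀ (U : C) (s : F.obj.obj (op U)), a.hom.app (op U) s = b.hom.app (op U) s) : a = b := by
  apply Sheaf.hom_ext
  ext U s
  exact h U.unop s

omit [HasSheafify J AddCommGrpCat.{w}] in
theorem mono_of_sections {F G : Sheaf J AddCommGrpCat.{w}} (f : F ⟶ G)
    (h : ∀ (U : C) (s : F.obj.obj (op U)), f.hom.app (op U) s = 0 → s = 0) : Mono f := by
  apply Preadditive.mono_of_cancel_zero
  intro P g hg
  apply hom_ext'
  intro U s
  apply h U
  exact congrArg (fun t : P ⟶ G => t.hom.app (op U) s) hg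

theorem exact_of_locally [J.WEqualsLocallyBijective AddCommGrpCat.{w}]
    [J.HasSheafCompose (forget AddCommGrpCat.{w})] [Balanced (Sheaf J AddCommGrpCat.{w})]
    (S : ShortComplex (Sheaf J AddCommGrpCat.{w}))
    (h : ∀ (U : C) (b : S.X₂.obj.obj (op U)), S.g.hom.app (op U) b = 0 → ∃ T ∈ J U,
      ∀ {V : C} (r : V ⟶ U), T r → ∃ a : S.X₁.obj.obj (op V), S.f.hom.app (op V) a = S.X₂.obj.map r.op b) :
    S.Exact := by
  rw [ShortComplex.exact_iff_epi_kernel_lift]
  rw [← Sheaf.isLocallySurjective_iff_epi' AddCommGrpCat.{w}]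
  constructor
  intro U x
  let b : S.X₂.obj.obj (op U) := (kernel.ι S.g).hom.app (op U) x
  have hb : S.g.hom.app (op U) b = 0 :=
    congrArg (fun t : kernel S.g ⟶ S.X₃ => t.hom.app (op U) x) (kernel.condition S.g)
  obtain ⟨T, hT, hTr⟩ := h U b hb
  refine J.superset_covering ?_ hT
  intro V r hr
  obtain ⟨a, ha⟩ := hTr r hr
  refine ⟨a, ?_⟩
  apply sections_injective (kernel.ι S.g) V
  have h1 : (kernel.ι S.g).hom.app (op V) ((kernel.lift S.g S.f S.zero).hom.app (op V) a) =
      S.f.hom.app (op V) a :=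
    congrArg (fun t : S.X₁ ⟶ S.X₂ => t.hom.app (op V) a) (kernel.lift_ι S.g S.f S.zero)
  refine h1.trans (ha.trans ?_)
  exact (ConcreteCategory.congr_hom ((kernel.ι S.g).hom.naturality r.op) x).symm

end

section Global

variable [HasSheafify J AddCommGrpCat.{w}] {T : C} (hT : IsTerminal T)

/-- homomorphisms from the constant sheaf `ℤ` -/
noncomputable def eZ (F : Sheaf J AddCommGrpCat.{w}) :
    ((constantSheaf J AddCommGrpCat.{w}).obj (AddCommGrpCat.of (ULift ℤ)) ⟶ F) ≃+ F.obj.obj (op T) :=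
  AddEquiv.trans ((constantSheafAdj J AddCommGrpCat.{w} hT).homAddEquiv _ F)
    (AddCommGrpCat.uliftZMultiplesAddEquiv _)

theorem eZ_comp {F G : Sheaf J AddCommGrpCat.{w}}
    (x : (constantSheaf J AddCommGrpCat.{w}).obj (AddCommGrpCat.of (ULift ℤ)) ⟶ F) (f : F ⟶ G) :
    eZ hT G (x ≫ f) = f.hom.app (op T) (eZ hT F x) := rfl

include hT in
/-- Lifting of homomorphisms from the constant sheaf in terms of global sections. -/
theorem exists_hom {F G G' : Sheaf J AddCommGrpCat.{w}} (f : F ⟶ G) (g : G ⟶ G')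
    (h : ∀ s : G.obj.obj (op T), g.hom.app (op T) s = 0 → ∃ t : F.obj.obj (op T), f.hom.app (op T) t = s)
    (z : (constantSheaf J AddCommGrpCat.{w}).obj (AddCommGrpCat.of (ULift ℤ)) ⟶ G) (hz : z ≫ g = 0) :
    ∃ u : (constantSheaf J AddCommGrpCat.{w}).obj (AddCommGrpCat.of (ULift ℤ)) ⟶ F, u ≫ f = z := by
  obtain ⟨t, ht⟩ := h (eZ hT G z) (by rw [← eZ_comp, hz, map_zero])
  refine ⟨(eZ hT F).symm t, (eZ hT G).injective ?_⟩
  rw [eZ_comp, AddEquiv.apply_symm_apply, ht]

end Global

end K349.ExSite
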