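import Groth.Agent.Sga2.LefPic

/-!
# Uniqueness of the algebraisation of invertible modules

Two invertible modules isomorphic on all thickenings are isomorphic when the global functions of the thickenings lift.
-/

set_option autoImplicit false

universe u

open CategoryTheory CategoryTheory.Limits AlgebraicGeometry TopologicalSpace Opposite

namespace K349.FormU

open Groth.Agent.Fdesc.LocGen Groth.Agent.Sga2.LineLift Groth.Agent.Sga2.LefThick
  Groth.Agent.Sga2.LefOpen Groth.Agent.Sga2.LefLine Groth.Agent.Sga2.LefSeq Groth.Agent.Sga2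

variable {Y : Scheme.{u}} (J : Y.IdealSheafData)

section Step

variable {ι : Type u} {W : ι → Y.Opens} {g : ∀ x y, Γ(Y, W x ⊓ W y)}

/-- Two families of units on the same scheme differ by a global function. -/
theorem exists_ratio {S : Scheme.{u}} (t : S ⟶ Y) (hW : ⨆ x, W x = ⊤) {c c' : ∀ x, Γ(S, t ⁻¹ᵁ W x)}
    (hc : IsFam t g c) (hc' : IsFam t g c') : ∃ u : Γ(S, ⊤), ∀ x, c x = ores le_top u * c' x := by
  choose b hb using fun x => (hc'.unit x).exists_right_inv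
  obtain ⟨u, hu⟩ := ores_glue (fun x => t ⁻¹ᵁ W x) (V := ⊤) (fun x => le_top) (by
    rw [← Scheme.Hom.preimage_iSup, hW]
    rfl) (fun x => c x * b x) (fun x y => by
    have h1 := hc.trans x y (t ⁻¹ᵁ W x ⊓ t ⁻¹ᵁ W y) inf_le_left inf_le_right
    have h2 := hc'.trans x y (t ⁻¹ᵁ W x ⊓ t ⁻¹ᵁ W y) inf_le_left inf_le_right
    have h3 := congrArg (ores (inf_le_left : t ⁻¹ᵁ W x ⊓ t ⁻¹ᵁ W y ≤ t ⁻¹ᵁ W x)) (hb x)
    have h4 := congrArg (ores (inf_le_right : t ⁻¹ᵁ W x ⊓ t ⁻¹ᵁ W y ≤ t ⁻¹ᵁ W y)) (hb y)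
    rw [map_mul, map_one] at h3 h4
    apply ((hc'.unit y).map (ores (inf_le_right : t ⁻¹ᵁ W x ⊓ t ⁻¹ᵁ W y ≤ t ⁻¹ᵁ W y))).mul_left_cancel
    rw [map_mul, map_mul]
    generalize ores (inf_le_left : t ⁻¹ᵁ W x ⊓ t ⁻¹ᵁ W y ≤ t ⁻¹ᵁ W x) (c x) = cx at *
    generalize ores (inf_le_right : t ⁻¹ᵁ W x ⊓ t ⁻¹ᵁ W y ≤ t ⁻¹ᵁ W y) (c y) = cy at *
    generalize ores (inf_le_left : t ⁻¹ᵁ W x ⊓ t ⁻¹ᵁ W y ≤ t ⁻¹ᵁ W x) (c' x) = cx' at *
    generalize ores (inf_le_right : t ⁻¹ᵁ W x ⊓ t ⁻¹ᵁ W y ≤ t ⁻¹ᵁ W y) (c' y) = cy' at *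
    generalize ores (inf_le_left : t ⁻¹ᵁ W x ⊓ t ⁻¹ᵁ W y ≤ t ⁻¹ᵁ W x) (b x) = bx at *
    generalize ores (inf_le_right : t ⁻¹ᵁ W x ⊓ t ⁻¹ᵁ W y ≤ t ⁻¹ᵁ W y) (b y) = bY at *
    generalize pl t _ (g x y) = G at *
    linear_combination (cx * bx) * h2 + (cx * G) * h3 - cy * h4 - h1)
  refine ⟨u, fun x => ?_⟩
  rw [hu x, mul_assoc, mul_comm (b x), hb x, mul_one]

/-- Lifting a family of units to the next level. -/
theorem exists_step (hW : ⨆ x, W x = ⊤) (m : ℕ) (hsurj : Function.Surjective ((inc J m).app ⊤)) (c : FamAt g J m)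
    (c' : FamAt g J (m + 1)) :
    ∃ d : FamAt g J (m + 1), ∀ x, pl (inc J m) (preimage_inc J m (W x)).ge (d.1 x) = c.1 x := by
  obtain ⟨u, hu⟩ := exists_ratio (tι J m) hW c.2 (c'.2.pull (inc J m) (inc_tι J m))
  obtain ⟨v, hv⟩ := hsurj u
  have hv' : pl (inc J m) (show (⊤ : (T J m).Opens) ≤ (inc J m) ⁻¹ᵁ ⊤ from le_rfl) v = u := (pl_eq_app _ _).trans hv
  refine ⟨⟨fun x => ores le_top v * c'.1 x, fun x => ?_, fun x y B hx hy => ?_⟩, fun x => ?_⟩
  · refine IsUnit.mul ?_ (c'.2.unit x)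
    refine isUnit_of_pl (inc J m) (inc_surjective J m) _ ?_
    have h1 : IsUnit (pl (inc J m) (preimage_inc J m (W x)).ge (ores le_top v)) := by
      rw [pl_ores]
      have h2 := congrArg (ores (show tι J m ⁻¹ᵁ W x ≤ ⊤ from le_top)) hv'
      rw [ores_pl] at h2
      rw [h2]
      have h3 := c.2.unit x
      rw [hu x] at h3
      exact isUnit_of_mul_isUnit_left h3
    have h4 := h1.map (ores (preimage_inc J m (W x)).le)
    rwa [ores_pl] at h4
  · rw [map_mul, map_mul, ores_ores, ores_ores, c'.2.trans x y B hx hy, mul_assoc]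
  · rw [hu x, map_mul, pl_ores]
    congr 1
    have h2 := congrArg (ores (show tι J m ⁻¹ᵁ W x ≤ ⊤ from le_top)) hv'
    rw [ores_pl] at h2
    exact h2

end Step

/-- **Uniqueness of algebraisation** -/
theorem nonempty_iso_of_levels (hLef : ∀ D : Y.Modules, FlatMod.IsFinLocFree D → Lef.HomToFormalBijective J D)
    (hsurj : ∀ m, Function.Surjective ((inc J m).app ⊤)) {L L' : Y.Modules} (hL : PicF.IsInvertible L)
    (hL' : PicF.IsInvertible L') (ψ : ∀ m, Nonempty ((Scheme.Modules.pullback (tι J m)).obj L ≅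
      (Scheme.Modules.pullback (tι J m)).obj L')) : Nonempty (L ≅ L') := by
  obtain ⟨W, e, e', hW, he, he'⟩ := LefPic.exists_frames hL hL'
  obtain ⟨a, ha, hea⟩ := LefPic.exists_cocycle he
  obtain ⟨a', ha', hea'⟩ := LefPic.exists_cocycle he'
  have hg := LefPic.IsCocycle.mul' ha (LefLine.isCocycle_tr ha')
  choose c hc using fun m => LefPic.exists_fam (tι J m) he he' ha' hea hea' (ψ m).some.hom
  obtain ⟨d, -, hd⟩ := LefSeq.exists_seq J 0 ⟨c 0, hc 0⟩ (fun m _ d =>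
    exists_step J hW m (hsurj m) d ⟨c (m + 1), hc (m + 1)⟩)
  obtain ⟨f, hf, hfg, -⟩ := LefPic.exists_units_of_formal J hLef hW hg (fun m => (d m).1) (fun m => (d m).2) hd
  exact LefPic.exists_iso_of_fam he he' ha hea hea' hW ha' f hf hfg

end K349.FormU
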