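import Groth.Agent.CurvesA.GmSect
import Groth.Agent.StCoh.K998.UnitCx
import Groth.Prelude.Def_EtLim

/-!
# The étale sheaves `U ↦ 𝔾ₘ(U ×_X Z)` for schemes `Z` over `X`

`GG Z = π_* 𝔾ₘ` for `π : Z ⟶ X`; `gmap g : GG Z ⟶ GG Z'` for `g : Z' ⟶ Z` over `X`.
-/

set_option autoImplicit false
universe u

open CategoryTheory CategoryTheory.Limits AlgebraicGeometry Opposite

namespace K349.GGFun

open K998.UnitCx Groth.Agent.CurvesA.GmSect

variable {X : Scheme.{u}}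

/-- `U ×_X Z`. -/
noncomputable abbrev zu (Z : Over X) (U : X.Etale) : Scheme.{u} := ((EtCoh.bc Z.hom).obj U).left

/-- first projection -/
noncomputable abbrev fs (Z : Over X) (U : X.Etale) : zu Z U ⟶ U.left :=
  (pullback.fst U.hom Z.hom : ((EtCoh.bc Z.hom).obj U).left ⟶ U.left)

/-- second projection -/
noncomputable abbrev sn (Z : Over X) (U : X.Etale) : zu Z U ⟶ Z.left := ((EtCoh.bc Z.hom).obj U).hom

theorem isPullback_zu (Z : Over X) (U : X.Etale) : IsPullback (fs Z U) (sn Z U) U.hom Z.hom :=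
  IsPullback.of_hasPullback U.hom Z.hom

/-- restriction in the étale variable -/
noncomputable def zr (Z : Over X) {U V : X.Etale} (g : V ⟶ U) : zu Z V ⟶ zu Z U := ((EtCoh.bc Z.hom).map g).left

theorem zr_fs (Z : Over X) {U V : X.Etale} (g : V ⟶ U) : zr Z g ≫ fs Z U = fs Z V ≫ g.left :=
  (EtCoh.isPullback_bc_map Z.hom g).w

theorem zr_sn (Z : Over X) {U V : X.Etale} (g : V ⟶ U) : zr Z g ≫ sn Z U = sn Z V :=
  CategoryTheory.Over.w ((EtCoh.bc Z.hom).map g).hom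

/-- functoriality in `Z` -/
noncomputable def zm {Z Z' : Over X} (g : Z' ⟶ Z) (U : X.Etale) : zu Z' U ⟶ zu Z U :=
  (isPullback_zu Z U).lift (fs Z' U) (sn Z' U ≫ g.left) (by
    rw [Category.assoc, Over.w g, (isPullback_zu Z' U).w])

variable {Z Z' Z'' : Over X}

theorem zm_fs (g : Z' ⟶ Z) (U : X.Etale) : zm g U ≫ fs Z U = fs Z' U := (isPullback_zu Z U).lift_fst _ _ _

theorem zm_sn (g : Z' ⟶ Z) (U : X.Etale) : zm g U ≫ sn Z U = sn Z' U ≫ g.left := (isPullback_zu Z U).lift_snd _ _ _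

theorem zm_id (U : X.Etale) : zm (𝟙 Z) U = 𝟙 _ := by
  apply (isPullback_zu Z U).hom_ext
  · rw [zm_fs, Category.id_comp]
  · rw [zm_sn, Category.id_comp, Over.id_left, Category.comp_id]

theorem zm_comp (g : Z' ⟶ Z) (h : Z'' ⟶ Z') (U : X.Etale) : zm h U ≫ zm g U = zm (h ≫ g) U := by
  apply (isPullback_zu Z U).hom_ext
  · rw [Category.assoc, zm_fs, zm_fs, zm_fs]
  · rw [Category.assoc, zm_sn, ← Category.assoc, zm_sn, zm_sn, Over.comp_left, Category.assoc]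

theorem zr_zm (g : Z' ⟶ Z) {U V : X.Etale} (r : V ⟶ U) : zr Z' r ≫ zm g U = zm g V ≫ zr Z r := by
  apply (isPullback_zu Z U).hom_ext
  · rw [Category.assoc, zm_fs, zr_fs, Category.assoc, zr_fs, ← Category.assoc, zm_fs]
  · rw [Category.assoc, zm_sn, ← Category.assoc, zr_sn, Category.assoc, zr_sn, zm_sn]

/-- the natural transformation underlying `zm` -/
noncomputable def zT (g : Z' ⟶ Z) : EtCoh.bc Z'.hom ⋙ (Scheme.Etale.forget Z'.left ⋙ Over.forget Z'.left) ⟶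
    EtCoh.bc Z.hom ⋙ (Scheme.Etale.forget Z.left ⋙ Over.forget Z.left) where
  app U := zm g U
  naturality _ _ r := zr_zm g r

/-- `U ↦ 𝔾ₘ(U ×_X Z)` -/
noncomputable def GG (Z : Over X) : EtCoh.Ab X := (EtCoh.push Z.hom).obj (EtCoh.Gm Z.left)

/-- contravariant functoriality -/
noncomputable def gmap (g : Z' ⟶ Z) : GG Z ⟶ GG Z' :=
  ObjectProperty.homMk (Functor.whiskerRight (NatTrans.op (zT g)) EtCoh.ΓUnits)

/-- sections as units -/
noncomputable def uA (Z : Over X) (U : X.Etale) : EtCoh.sect (GG Z) U ≃+ Additive (Γ(zu Z U, ⊤))ˣ where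
  toFun s := Additive.ofMul (toU (V := (EtCoh.bc Z.hom).obj U) s)
  invFun a := (toU (V := (EtCoh.bc Z.hom).obj U)).symm a.toMul
  left_inv _ := rfl
  right_inv _ := rfl
  map_add' _ _ := rfl

/-- the map on units attached to a morphism of schemes -/
noncomputable abbrev ut {Y Y' : Scheme.{u}} (h : Y ⟶ Y') : Additive (Γ(Y', ⊤))ˣ →+ Additive (Γ(Y, ⊤))ˣ :=
  um (h.appTop.hom : Γ(Y', ⊤) →* Γ(Y, ⊤))

theorem ut_ut {Y Y' Y'' : Scheme.{u}} (h : Y ⟶ Y') (h' : Y' ⟶ Y'') (x : Additive (Γ(Y'', ⊤))ˣ) :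
    ut h (ut h' x) = ut (h ≫ h') x := by
  apply Additive.toMul.injective
  ext
  change h.appTop.hom (h'.appTop.hom _) = (h ≫ h').appTop.hom _
  rw [Scheme.Hom.comp_appTop]
  rfl

theorem ut_id {Y : Scheme.{u}} (x : Additive (Γ(Y, ⊤))ˣ) : ut (𝟙 Y) x = x := by
  apply Additive.toMul.injective
  ext
  change (𝟙 Y : Y ⟶ Y).appTop.hom _ = _
  rw [Scheme.Hom.id_appTop]
  rfl

theorem uA_map {U V : X.Etale} (r : V ⟶ U) (s : EtCoh.sect (GG Z) U) :
    uA Z V ((GG Z).obj.map r.op s) = ut (zr Z r) (uA Z U s) := rfl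

theorem uA_gmap (g : Z' ⟶ Z) (U : X.Etale) (s : EtCoh.sect (GG Z) U) :
    uA Z' U ((gmap g).hom.app (op U) s) = ut (zm g U) (uA Z U s) := rfl

/-- morphisms of sheaves agree if they agree on sections -/
theorem hom_ext {F G : EtCoh.Ab X} {a b : F ⟶ G}
    (h : ∀ (U : X.Etale) (s : EtCoh.sect F U), a.hom.app (op U) s = b.hom.app (op U) s) : a = b := by
  apply Sheaf.hom_ext
  ext U s
  exact h U.unop s

theorem gmap_id : gmap (𝟙 Z) = 𝟙 (GG Z) := by
  apply hom_ext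
  intro U s
  apply (uA Z U).injective
  rw [uA_gmap, zm_id, ut_id]
  rfl

theorem gmap_comp (g : Z' ⟶ Z) (h : Z'' ⟶ Z') : gmap g ≫ gmap h = gmap (h ≫ g) := by
  apply hom_ext
  intro U s
  apply (uA Z'' U).injective
  change uA Z'' U ((gmap h).hom.app (op U) ((gmap g).hom.app (op U) s)) = _
  rw [uA_gmap, uA_gmap, uA_gmap, ut_ut, zm_comp]

/-- evaluation of morphisms of sheaves on sections, as a homomorphism -/
noncomputable def evs (F G : EtCoh.Ab X) (U : X.Etale) : (F ⟶ G) →+ (EtCoh.sect F U →+ EtCoh.sect G U) where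
  toFun a := (a.hom.app (op U)).hom
  map_zero' := rfl
  map_add' _ _ := rfl

theorem evs_apply {F G : EtCoh.Ab X} (U : X.Etale) (a : F ⟶ G) (s : EtCoh.sect F U) :
    evs F G U a s = a.hom.app (op U) s := rfl

/-- alternating sum of the maps attached to a family -/
noncomputable def D {n : ℕ} (g : Fin n → (Z' ⟶ Z)) : GG Z ⟶ GG Z' := ∑ i : Fin n, (-1 : ℤ) ^ (i : ℕ) • gmap (g i)

theorem uA_D {n : ℕ} (g : Fin n → (Z' ⟶ Z)) (U : X.Etale) (s : EtCoh.sect (GG Z) U) :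
    uA Z' U ((D g).hom.app (op U) s) = alt (fun i => ut (zm (g i) U)) (uA Z U s) := by
  rw [← evs_apply, D, map_sum, AddMonoidHom.finsetSum_apply, map_sum, alt_apply]
  refine Finset.sum_congr rfl fun i _ => ?_
  rw [map_zsmul, AddMonoidHom.smul_apply, map_zsmul, evs_apply, uA_gmap]

/-- `D D = 0` -/
theorem D_D {n : ℕ} (g : Fin (n + 1) → (Z' ⟶ Z)) (h : Fin (n + 2) → (Z'' ⟶ Z'))
    (hs : ∀ (j : Fin (n + 2)) (i : Fin (n + 1)), h j ≫ g i = h (j.succAbove i) ≫ g (i.predAbove j)) :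
    D g ≫ D h = 0 := by
  apply hom_ext
  intro U s
  apply (uA Z'' U).injective
  change uA Z'' U ((D h).hom.app (op U) ((D g).hom.app (op U) s)) = _
  rw [uA_D, uA_D]
  refine (alt_alt _ _ (fun j i y => ?_) _).trans (map_zero (uA Z'' U)).symm
  rw [ut_ut, ut_ut, zm_comp, zm_comp, hs]

/-- naturality of `D` -/
theorem gmap_D {W W' : Over X} {n : ℕ} (g : Fin n → (Z' ⟶ Z)) (g' : Fin n → (W' ⟶ W)) (a : W ⟶ Z) (a' : W' ⟶ Z')
    (h : ∀ i, a' ≫ g i = g' i ≫ a) : gmap a ≫ D g' = D g ≫ gmap a' := by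
  rw [D, D, Preadditive.comp_sum, Preadditive.sum_comp]
  refine Finset.sum_congr rfl fun i _ => ?_
  rw [Preadditive.comp_zsmul, Preadditive.zsmul_comp, gmap_comp, gmap_comp, h]

end K349.GGFun
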