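import Groth.Agent.Dix.K349.GenInc
import Groth.Agent.CurvesA.CurveCd
import Groth.Agent.CurvesB.ClosedIntegral
import Groth.Agent.Etbc.H238.DegTwo

/-!
# `H²(X, h_* G_m) ⟶ H²(S, G_m) ⟶ H²(T, G_m)` is zero

`X` irreducible Noetherian of dimension `≤ 1`, `h : S ≅ Spec O_{X,η} ⟶ X`, `g : X' ⟶ X` integral with
`H²(X', G_m) = 0` and such that punctual sheaves on `X'` are acyclic.
-/

set_option autoImplicit false
universe u

open CategoryTheory CategoryTheory.Limits AlgebraicGeometry Opposite TopologicalSpace CategoryTheory.Abelian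

namespace K349.GenCls

open scoped Groth.Agent.Etcore.EtInst
open Groth.Agent.Etcore.EtInst
open Groth.Agent.Etcore Groth.Agent.Etcore.HQ Groth.Agent.Etcore.RpushLoc Groth.Agent.Etcore.HpullCalc
  Groth.Agent.Etcore.PullCoh Groth.Agent.Etcore.GmFun K349.EdgeTwo
open Groth.Agent.CurvesA.CurveCd Groth.Agent.EtpbcA Groth.Agent.Etbc.H238

attribute [local instance] pfl

variable {X : Scheme.{u}} [IsNoetherian X] (hdim : topologicalKrullDim X ≤ 1) (η : X)
  (hη : ∀ z, z ⤳ η → z = η) (hgen : ∀ x : X, η ⤳ x)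
  {S : Scheme.{u}} (i : S ⟶ Spec (X.presheaf.stalk η)) [IsIso i]

include hdim hgen in
theorem mem_closed_kernel (x : X) (hx : x ∈ EtPBC.supp (kernel (gmUnit (i ≫ X.fromSpecStalk η)))) :
    IsClosed ({x} : Set X) := by
  by_contra hc
  have hxη : x = η := by
    by_contra hne
    exact hc (isClosed_of_specializes hdim η x (hgen x) hne)
  rw [hxη] at hx
  exact GenFld.kernel_comp η i hx

include hdim hη hgen in
theorem mem_closed_cokernel (x : X) (hx : x ∈ EtPBC.supp (cokernel (gmUnit (i ≫ X.fromSpecStalk η)))) :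
    IsClosed ({x} : Set X) := by
  by_contra hc
  have hxη : x = η := by
    by_contra hne
    exact hc (isClosed_of_specializes hdim η x (hgen x) hne)
  rw [hxη] at hx
  exact GenFld.cokernel_comp η i hη hx

variable {X' : Scheme.{u}} (g : X' ⟶ X) [IsIntegralHom g]

theorem mem_closed_pull (F : EtCoh.Ab X) (hF : ∀ x ∈ EtPBC.supp F, IsClosed ({x} : Set X)) (x : X')
    (hx : x ∈ EtPBC.supp ((EtCoh.pull g).obj F)) : IsClosed ({x} : Set X') := by
  rw [Artin.supp_pull] at hx
  exact Groth.Agent.CurvesB.ClosedIntegral.isClosed_of_isIntegralHom g x (hF _ hx)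

include hdim hη hgen in
theorem exists_lift (hpun : PunAcyc X') (n : ℕ) (hn : 0 < n)
    (ξ : HH X' ((EtCoh.pull g).obj ((EtCoh.push (i ≫ X.fromSpecStalk η)).obj (EtCoh.Gm S))) n) :
    ∃ α : HH X' ((EtCoh.pull g).obj (EtCoh.Gm X)) n,
      HHmap ((EtCoh.pull g).map (gmUnit (i ≫ X.fromSpecStalk η))) n α = ξ := by
  let φ := gmUnit (i ≫ X.fromSpecStalk η)
  have hk : Subsingleton (EtCoh.H X' (kernel ((EtCoh.pull g).map φ)) (n + 1)) := by
    refine hpun _ (fun x hx => ?_) (n + 1) (Nat.succ_pos n)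
    rw [Artin.supp_congr (PreservesKernel.iso (EtCoh.pull g) φ).symm] at hx
    exact mem_closed_pull g _ (mem_closed_kernel hdim η hgen i) x hx
  have hc : Subsingleton (EtCoh.H X' (cokernel ((EtCoh.pull g).map φ)) n) := by
    refine hpun _ (fun x hx => ?_) n hn
    have hcol : PreservesColimit (parallelPair φ 0) (EtCoh.pull g) := by
      have : (EtCoh.pull g).IsLeftAdjoint := (EtCoh.pullPushAdj g).isLeftAdjoint
      infer_instance
    rw [Artin.supp_congr (PreservesCokernel.iso (EtCoh.pull g) φ).symm] at hx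
    exact mem_closed_pull g _ (mem_closed_cokernel hdim η hη hgen i) x hx
  exact GenInc.exists_lift_ext ((EtCoh.pull g).map φ) ξ hk hc

include hdim hη hgen in
/-- Classes coming from `X` die on `T`. -/
theorem gmp_hp_ho_eq_zero (hpun : PunAcyc X') (n : ℕ) (hn : 0 < n) (hz : ∀ x : HH X' (EtCoh.Gm X') n, x = 0)
    {T : Scheme.{u}} (g' : T ⟶ S) (h' : T ⟶ X') (w : g' ≫ i ≫ X.fromSpecStalk η = h' ≫ g)
    (β : HH X ((EtCoh.push (i ≫ X.fromSpecStalk η)).obj (EtCoh.Gm S)) n) :
    HHmap (gmp g') n (hp g' _ n (ho (i ≫ X.fromSpecStalk η) (EtCoh.Gm S) n β)) = 0 := by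
  obtain ⟨α, hα⟩ := exists_lift hdim η hη hgen i g hpun n hn
    (hp g ((EtCoh.push (i ≫ X.fromSpecStalk η)).obj (EtCoh.Gm S)) n β)
  exact GenInc.gmp_hp_ho_eq_zero g (i ≫ X.fromSpecStalk η) g' h' (h' ≫ g) w rfl n β α hα hz

end K349.GenCls
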