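import Groth.Agent.Etbc.H238.HilbStk
import Groth.Agent.EtpbcA.ArtinSupp
import Groth.Agent.Dix.PointExact
import Groth.Agent.Etcore.GmFun

/-!
# `h_* G_m` for `h : S ≅ Spec O_{X,η} ⟶ X`, `η` a generic point

* `isZero_Rpush_one`: `R¹ h_* G_m = 0`;
* `not_mem_supp_kernel`, `not_mem_supp_cokernel`: `G_m ⟶ h_* G_m` is an isomorphism at `η`.
-/

set_option autoImplicit false
universe u

open CategoryTheory CategoryTheory.Limits AlgebraicGeometry Opposite TopologicalSpace

namespace K349.GenFld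

open Groth.Agent.Dix.GmPush Groth.Agent.Dix.GenUnits Groth.Agent.Etcore.HQ Groth.Agent.Etcore.RpushLoc
open Groth.Agent.Etbc.H238 Groth.Agent.EtpbcA
open Groth.Agent.Etcore.GmFun (gmUnit gmp)

theorem gmUnit_eq {X Y : Scheme.{u}} (f : X ⟶ Y) : gmUnit f = gmToPush f := rfl

section Iso

variable {S T X : Scheme.{u}} (i : S ⟶ T) (j : T ⟶ X)

/-- `U ×_X S ≅ U ×_X T`. -/
noncomputable def psi (U : X.Etale) : ((EtCoh.bc (i ≫ j)).obj U).left ⟶ ((EtCoh.bc j).obj U).left :=
  pullback.map U.hom (i ≫ j) U.hom j (𝟙 U.left) i (𝟙 X) (by simp) (by simp)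

instance [IsIso i] (U : X.Etale) : IsIso (psi i j U) :=
  haveI : IsIso (𝟙 U.left) := IsIso.id _
  haveI : IsIso (𝟙 X) := IsIso.id _
  pullback.map_isIso U.hom (i ≫ j) U.hom j (𝟙 U.left) i (𝟙 X)
    ((Category.comp_id _).trans (Category.id_comp _).symm) (Category.comp_id _)

theorem psi_proj (U : X.Etale) : psi i j U ≫ proj j U = proj (i ≫ j) U := by
  refine (pullback.lift_fst _ _ _).trans ?_
  exact Category.comp_id _

theorem psi_projY (U : X.Etale) : psi i j U ≫ projY j U = projY (i ≫ j) U ≫ i :=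
  pullback.lift_snd _ _ _

theorem bc_map_projY (f : T ⟶ X) {U V : X.Etale} (g : V ⟶ U) :
    ((EtCoh.bc f).map g).left ≫ projY f U = projY f V := by
  have := Over.w ((EtCoh.bc f).map g).hom
  exact this

theorem psi_nat {U V : X.Etale} (g : V ⟶ U) :
    ((EtCoh.bc (i ≫ j)).map g).left ≫ psi i j U = psi i j V ≫ ((EtCoh.bc j).map g).left := by
  refine (isPullback j U).hom_ext ?_ ?_
  · rw [Category.assoc, psi_proj, bc_map_proj, Category.assoc, bc_map_proj, ← Category.assoc, psi_proj]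
  · rw [Category.assoc, psi_projY, ← Category.assoc, bc_map_projY, Category.assoc, bc_map_projY, psi_projY]

set_option backward.isDefEq.respectTransparency.types false in
/-- The isomorphism `j_* G_m ⟶ (i ≫ j)_* G_m`. -/
noncomputable def tht : (EtCoh.push j).obj (EtCoh.Gm T) ⟶ (EtCoh.push (i ≫ j)).obj (EtCoh.Gm S) :=
  ⟨{ app := fun U => EtCoh.ΓUnits.map (psi i j U.unop).op
     naturality := fun U V g => by
       change EtCoh.ΓUnits.map ((EtCoh.bc j).map g.unop).left.op ≫ EtCoh.ΓUnits.map (psi i j V.unop).op =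
         EtCoh.ΓUnits.map (psi i j U.unop).op ≫ EtCoh.ΓUnits.map ((EtCoh.bc (i ≫ j)).map g.unop).left.op
       rw [← Functor.map_comp, ← Functor.map_comp, ← op_comp, ← op_comp, psi_nat] }⟩

instance [IsIso i] : IsIso (tht i j) := by
  have h1 : ∀ U, IsIso ((tht i j).hom.app U) := fun U => by
    have : IsIso (psi i j U.unop).op := inferInstance
    exact inferInstanceAs (IsIso (EtCoh.ΓUnits.map (psi i j U.unop).op))
  have h2 : IsIso (tht i j).hom := NatIso.isIso_of_isIso_app _
  have : IsIso ((sheafToPresheaf _ _).map (tht i j)) := h2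
  exact isIso_of_reflects_iso (tht i j) (sheafToPresheaf _ _)

theorem gmToPush_tht : gmToPush j ≫ tht i j = gmToPush (i ≫ j) := by
  apply Sheaf.hom_ext
  apply NatTrans.ext
  funext U
  change EtCoh.ΓUnits.map (proj j U.unop).op ≫ EtCoh.ΓUnits.map (psi i j U.unop).op =
    EtCoh.ΓUnits.map (proj (i ≫ j) U.unop).op
  rw [← Functor.map_comp, ← op_comp, psi_proj]

end Iso

section Supp

variable {X : Scheme.{u}}

theorem kernel_stalk (η : X) : η ∉ EtPBC.supp (kernel (gmToPush (X.fromSpecStalk η))) := by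
  rw [Artin.not_mem_supp_iff]
  intro U s v hv
  subst hv
  let s' : EtCoh.sect (EtCoh.Gm X) U := (kernel.ι (gmToPush (X.fromSpecStalk (U.hom v)))).hom.app (op U) s
  have h0 : (gmToPush (X.fromSpecStalk (U.hom v))).hom.app (op U) s' = 0 := by
    have := congrArg (fun f => f.hom.app (op U) s) (kernel.condition (gmToPush (X.fromSpecStalk (U.hom v))))
    exact this
  obtain ⟨V, g, hw, hg⟩ := GenStk.exists_zero U v s' h0
  refine ⟨V, g, hw, ?_⟩
  apply Groth.Agent.Dix.PointExact.sect_injective_of_mono (kernel.ι (gmToPush (X.fromSpecStalk (U.hom v)))) V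
  rw [map_zero]
  exact (congr($((kernel.ι (gmToPush (X.fromSpecStalk (U.hom v)))).hom.naturality g.op) s)).trans hg

theorem cokernel_stalk [IsLocallyNoetherian X] (η : X) (hη : ∀ z, z ⤳ η → z = η) :
    η ∉ EtPBC.supp (cokernel (gmToPush (X.fromSpecStalk η))) := by
  classical
  rw [Artin.not_mem_supp_iff]
  intro U s u hu
  obtain ⟨V, g, ⟨v, hv⟩, k, hk⟩ :=
    (Groth.Agent.Dix.EtaleSieve.epi_iff (cokernel.π (gmToPush (X.fromSpecStalk η)))).1 inferInstance U s u
  have : Etale V.hom := V.prop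
  have hV : V.hom v = η := by
    have h2 : g.left ≫ U.hom = V.hom := Over.w g.hom
    rw [← h2, Scheme.Hom.comp_apply, hv, hu]
  have hv' : ∀ z, z ⤳ v → z = v :=
    Groth.Agent.CurvesB.DimOneEtale.generic_of_generic' V.hom (w := v) (by rw [hV]; exact hη)
  obtain ⟨W, g', w, -, hw, t, ht⟩ := GenStk.exists_lift V v hv'
    (fun η' => if h : η' = η then (by rw [h]; exact k) else 0)
  refine ⟨W, g' ≫ g, ⟨w, ?_⟩, ?_⟩
  · change (g'.left ≫ g.left) w = u
    rw [Scheme.Hom.comp_apply, hw, hv]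
  · rw [op_comp, (cokernel (gmToPush (X.fromSpecStalk η))).obj.map_comp]
    change (cokernel (gmToPush (X.fromSpecStalk η))).obj.map g'.op
      ((cokernel (gmToPush (X.fromSpecStalk η))).obj.map g.op s) = 0
    rw [← hk]
    have h1 : (cokernel (gmToPush (X.fromSpecStalk η))).obj.map g'.op
        ((cokernel.π (gmToPush (X.fromSpecStalk η))).hom.app (op V) k) =
        (cokernel.π (gmToPush (X.fromSpecStalk η))).hom.app (op W)
          (((EtCoh.push (X.fromSpecStalk η)).obj (EtCoh.Gm _)).obj.map g'.op k) :=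
      (congr($((cokernel.π (gmToPush (X.fromSpecStalk η))).hom.naturality g'.op) k)).symm
    have h2 := ht η hη
    rw [dif_pos rfl] at h2
    rw [h1]
    refine (congrArg _ h2.symm).trans ?_
    exact congrArg (fun f => f.hom.app (op W) t) (cokernel.condition (gmToPush (X.fromSpecStalk η)))

variable {S : Scheme.{u}} (η : X) (i : S ⟶ Spec (X.presheaf.stalk η)) [IsIso i]

theorem kernel_comp : η ∉ EtPBC.supp (kernel (gmToPush (i ≫ X.fromSpecStalk η))) := by
  rw [← gmToPush_tht i (X.fromSpecStalk η), Artin.supp_congr (kernelCompMono _ _)]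
  exact kernel_stalk η

theorem cokernel_comp [IsLocallyNoetherian X] (hη : ∀ z, z ⤳ η → z = η) :
    η ∉ EtPBC.supp (cokernel (gmToPush (i ≫ X.fromSpecStalk η))) := by
  rw [← gmToPush_tht i (X.fromSpecStalk η), Artin.supp_congr (cokernelCompIsIso _ _)]
  exact cokernel_stalk η hη

/-- **`R¹ h_* G_m = 0`**. -/
theorem isZero_Rpush_one [IsLocallyNoetherian X] (hη : ∀ z, z ⤳ η → z = η) :
    IsZero ((EtCoh.Rpush (i ≫ X.fromSpecStalk η) 1).obj (EtCoh.Gm S)) := by
  rw [isZero_Rpush_iff]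
  intro V ξ v
  obtain ⟨W, hW, hvW, -⟩ := exists_isAffineOpen_mem_and_subset (X := V.left) (x := v) (U := ⊤) trivial
  have : Etale V.hom := V.prop
  let V' : X.Etale := Scheme.Etale.mk (W.ι ≫ V.hom)
  let g : V' ⟶ V := MorphismProperty.Over.homMk W.ι rfl
  have hA : IsAffine V'.left := hW
  refine ⟨V', g, ⟨v, hvW⟩, rfl, ?_⟩
  obtain ⟨h1, h2⟩ := HilbStk.finite_discrete η hη V'
  let ho := (psi i (X.fromSpecStalk η) V').homeomorph
  have h1' : Finite ((EtCoh.bc (i ≫ X.fromSpecStalk η)).obj V').left :=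
    Finite.of_injective _ ho.injective
  have h2' : DiscreteTopology ((EtCoh.bc (i ≫ X.fromSpecStalk η)).obj V').left :=
    ho.isEmbedding.discreteTopology
  have h3 := HilbStk.subsingleton_H1_Gm ((EtCoh.bc (i ≫ X.fromSpecStalk η)).obj V').left
  let e : (EtCoh.pull (pr (i ≫ X.fromSpecStalk η) V')).obj (EtCoh.Gm _) ≅ EtCoh.Gm _ :=
    Groth.Agent.Sga4h.EtaleRes2.pullGm (pr (i ≫ X.fromSpecStalk η) V')
  have h4 : Subsingleton (HQ (EtCoh.Gm S) (pr (i ≫ X.fromSpecStalk η) V') 1) :=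
    Groth.Agent.EtpbcA.CdLeray.subsingleton_ext_of_iso _ e.symm 1 h3
  exact Subsingleton.elim _ _

end Supp

end K349.GenFld
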