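import Groth.Agent.Dix.K349.EdgeTwo
import Groth.Agent.Dix.K349.GenFld

/-!
# Classes of `H²(X, h_* G_m)` die on `T` if `H²(X', G_m) = 0`

`T ⟶ S`, `h : S ⟶ X`, `T ⟶ X'`, `g : X' ⟶ X` a commutative square.
-/

set_option autoImplicit false
universe w v u

open CategoryTheory CategoryTheory.Limits AlgebraicGeometry Opposite TopologicalSpace CategoryTheory.Abelian

namespace K349.GenInc

section Abs

variable {C : Type u} [Category.{v} C] [Abelian C] [HasExt.{w} C]

/-- If `Ext^{i+1}(X, ker f) = 0` and `Ext^i(X, coker f) = 0` then `Ext^i(X, f)` is surjective. -/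
theorem exists_lift_ext {X Y Z : C} (f : Y ⟶ Z) {i : ℕ} (ξ : Ext X Z i)
    (hk : Subsingleton (Ext X (kernel f) (i + 1)))
    (hc : Subsingleton (Ext X (cokernel f) i)) :
    ∃ η : Ext X Y i, η.comp (Ext.mk₀ f) (add_zero i) = ξ := by
  have hfac : Abelian.factorThruImage f ≫ Abelian.image.ι f = f := Abelian.image.fac f
  let S : ShortComplex C := ShortComplex.mk (Abelian.image.ι f) (cokernel.π f) (kernel.condition _)
  have hS : S.ShortExact :=
    { exact := ShortComplex.exact_kernel (cokernel.π f)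
      mono_f := inferInstanceAs (Mono (Abelian.image.ι f))
      epi_g := inferInstanceAs (Epi (cokernel.π f)) }
  obtain ⟨x, hx⟩ := Ext.covariant_sequence_exact₂ X hS ξ (@Subsingleton.elim _ hc _ _)
  have hw : kernel.ι f ≫ Abelian.factorThruImage f = 0 := by
    rw [← cancel_mono (Abelian.image.ι f), Category.assoc, hfac, kernel.condition, zero_comp]
  let T : ShortComplex C := ShortComplex.mk (kernel.ι f) (Abelian.factorThruImage f) hw
  have hT : T.ShortExact :=
    { exact := by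
        refine ShortComplex.exact_of_f_is_kernel T ?_
        refine KernelFork.IsLimit.ofι _ _ (fun {W} g hg => kernel.lift f g ?_) ?_ ?_
        · rw [← hfac, ← Category.assoc]
          change g ≫ Abelian.factorThruImage f = 0 at hg
          rw [hg, zero_comp]
        · intro W g hg
          simp [T]
        · intro W g hg m hm
          rw [← cancel_mono (kernel.ι f)]
          simpa [T] using hm
      mono_f := inferInstanceAs (Mono (kernel.ι f))
      epi_g := inferInstanceAs (Epi (Abelian.factorThruImage f)) }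
  obtain ⟨y, hy⟩ := Ext.covariant_sequence_exact₃ X hT x rfl (@Subsingleton.elim _ hk _ _)
  refine ⟨y, ?_⟩
  have hy' : y.comp (Ext.mk₀ (Abelian.factorThruImage f)) (add_zero i) = x := hy
  have hx' : x.comp (Ext.mk₀ (Abelian.image.ι f)) (add_zero i) = ξ := hx
  have h1 : (y.comp (Ext.mk₀ (Abelian.factorThruImage f)) (add_zero i)).comp
      (Ext.mk₀ (Abelian.image.ι f)) (add_zero i) = ξ := by rw [hy', hx']
  rw [Ext.comp_assoc_of_third_deg_zero, Ext.mk₀_comp_mk₀, hfac] at h1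
  exact h1

end Abs

section Et

open scoped Groth.Agent.Etcore.EtInst
open Groth.Agent.Etcore.EtInst
open Groth.Agent.Etcore Groth.Agent.Etcore.HQ Groth.Agent.Etcore.RpushLoc Groth.Agent.Etcore.HpullCalc
  Groth.Agent.Etcore.PullCoh Groth.Agent.Etcore.GmFun K349.EdgeTwo

attribute [local instance] pfl

variable {X' X T S : Scheme.{u}} (g : X' ⟶ X) (h : S ⟶ X) (g' : T ⟶ S) (h' : T ⟶ X') (t₀ : T ⟶ X)
  (w₁ : g' ≫ h = t₀) (w₂ : h' ≫ g = t₀)

/-- the counit -/
noncomputable def cu : (EtCoh.pull h).obj ((EtCoh.push h).obj (EtCoh.Gm S)) ⟶ EtCoh.Gm S :=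
  (EtCoh.pullPushAdj h).counit.app (EtCoh.Gm S)

theorem pull_gmUnit_counit : (EtCoh.pull h).map (gmUnit h) ≫ cu h = gmp h :=
  ((EtCoh.pullPushAdj h).homEquiv_counit (g := gmUnit h)).symm

include w₁ in
theorem pull_gmUnit_inv_th :
    (EtCoh.pull t₀).map (gmUnit h) ≫ inv (th g' h t₀ w₁ ((EtCoh.push h).obj (EtCoh.Gm S))) ≫
      (EtCoh.pull g').map (cu h) ≫ gmp g' = gmp t₀ := by
  rw [← cancel_epi (th g' h t₀ w₁ (EtCoh.Gm X)), ← Category.assoc, ← th_nat, Category.assoc,
    IsIso.hom_inv_id_assoc, ← Category.assoc, ← Functor.map_comp, pull_gmUnit_counit, gmp_comp]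

include w₁ w₂ in
/-- Classes of `H²(X, h_* G_m)` whose restriction to `X'` comes from `H^n(X', g⁻¹ G_m)` die on `T`. -/
theorem gmp_hp_ho_eq_zero (n : ℕ) (β : HH X ((EtCoh.push h).obj (EtCoh.Gm S)) n)
    (α : HH X' ((EtCoh.pull g).obj (EtCoh.Gm X)) n)
    (hα : HHmap ((EtCoh.pull g).map (gmUnit h)) n α = hp g _ n β)
    (hz : ∀ x : HH X' (EtCoh.Gm X') n, x = 0) :
    HHmap (gmp g') n (hp g' _ n (ho h (EtCoh.Gm S) n β)) = 0 := by
  change HHmap (gmp g') n (hp g' _ n (HHmap (cu h) n (hp h ((EtCoh.push h).obj (EtCoh.Gm S)) n β))) = 0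
  rw [hp_map, ← HHmap_comp]
  have e1 := hp_comp_th g' h t₀ w₁ ((EtCoh.push h).obj (EtCoh.Gm S)) n β
  have e2 : hp g' _ n (hp h ((EtCoh.push h).obj (EtCoh.Gm S)) n β) =
      HHmap (inv (th g' h t₀ w₁ ((EtCoh.push h).obj (EtCoh.Gm S)))) n (hp t₀ _ n β) := by
    rw [← e1, ← HHmap_comp, IsIso.hom_inv_id, HHmap_id]
  rw [e2, ← HHmap_comp, ← hp_comp_th h' g t₀ w₂ ((EtCoh.push h).obj (EtCoh.Gm S)) n β, ← hα, hp_map,
    ← HHmap_comp, ← HHmap_comp]
  have e3 : ((EtCoh.pull h').map ((EtCoh.pull g).map (gmUnit h)) ≫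
      th h' g t₀ w₂ ((EtCoh.push h).obj (EtCoh.Gm S))) ≫
      inv (th g' h t₀ w₁ ((EtCoh.push h).obj (EtCoh.Gm S))) ≫
      (EtCoh.pull g').map (cu h) ≫ gmp g' =
      (EtCoh.pull h').map (gmp g) ≫ gmp h' := by
    rw [th_nat, Category.assoc, pull_gmUnit_inv_th h g' t₀ w₁, gmp_comp]
  rw [Category.assoc] at e3
  rw [e3, HHmap_comp, ← hp_map, hz (HHmap (gmp g) n α), map_zero, map_zero]

end Et

end K349.GenInc
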