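import Groth.Agent.Dix.K349.Insep
import Groth.Agent.Dix.K280.DimOneAC
import Groth.Agent.S3885

/-!
# `H²(X, 𝔾ₘ) = 0` for `X` proper of dimension at most one over a separably closed field, `Γ(X, O) = k`
-/

set_option autoImplicit false
set_option backward.isDefEq.respectTransparency false
set_option backward.isDefEq.respectTransparency.types false
universe u

open CategoryTheory CategoryTheory.Limits AlgebraicGeometry Opposite TensorProduct

namespace K349.GeoInt

open K349.Amit K349.GGFun K349.Tow K349.UH K349.GmZ K349.LimP K998.UnitCx Groth.Agent.Etcore.FGLim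

variable {k : Type u} [Field k] [IsSepClosed k] {X : Scheme.{u}} (f : X ⟶ Spec (CommRingCat.of k))

omit [IsSepClosed k] in
theorem isIntegral_sub (C : Subalgebra k (AlgebraicClosure k)) : Algebra.IsIntegral k C :=
  Algebra.IsIntegral.of_injective C.val Subtype.val_injective

/-- A Brauer class dies on `X_C` for a finitely generated subalgebra `C` of the algebraic closure. -/
theorem exists_FG [LocallyOfFiniteType f] [QuasiCompact f] [QuasiSeparated f] (hdim : topologicalKrullDim X ≤ 1)
    (α : EtCoh.H X (EtCoh.Gm X) 2) :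
    ∃ C : FGSub k (AlgebraicClosure k), Sheaf.H.map (gp (ZZ f (sO k C.1))) 2 α = 0 := by
  let L := AlgebraicClosure k
  have hc : CompactSpace X := QuasiCompact.compactSpace_of_compactSpace f
  have hq : QuasiSeparatedSpace X := quasiSeparatedSpace_of_quasiSeparated f
  have hps : ∀ {Y Y' : Scheme.{u}} (g : Y' ⟶ Y), PreservesFiniteLimits (EtCoh.pull g) :=
    fun g => Groth.Agent.S0101.result g
  have hUL : IsUH (ZZ f (sO k L)).hom := IsUH.of_isPullback (IsPullback.of_hasPullback f (sO k L).hom) (isUH_field k L)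
  have h1 : Subsingleton (EtCoh.H (ZZ f (sO k L)).left (EtCoh.Gm (ZZ f (sO k L)).left) 2) :=
    K280.DimOneAC.subsingleton_H2 L (ZZ f (sO k L)).left (PicF.XTproj f (sO k L)) (by
      rw [hUL.topologicalKrullDim_eq]
      exact hdim)
  have hA : ∀ ⦃a b : (FGSub k L)ᵒᵖ⦄ (h : a ⟶ b), IsAffineHom ((dg f k L 0).map h) :=
    fun _ _ _ => isAffineHom_map f k _ 0
  have h2 := (Groth.Agent.S3885.result (dg f k L 0) hA (fun a => compactSpace_Zn f k a.unop.1 0)
    (fun a => quasiSeparatedSpace_Zn f k a.unop.1 0) (cn f k L 0) (isLimitCn f k L 0) 2).2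
  let C₀ : FGSub k L := ⊥
  obtain ⟨C, hle, hC⟩ := h2 C₀ (EtLim.HGmPull (Zn f k C₀.1 0).hom 2 α) (Subsingleton.elim (h := h1) _ _)
  refine ⟨C, ?_⟩
  have hint : ∀ C : FGSub k L, IsIntegralHom (ZZ f (sO k C.1)).hom := fun C =>
    have := isIntegral_sub C.1
    MorphismProperty.of_isPullback (IsPullback.of_hasPullback f (sO k C.1).hom).flip (isIntegralHom_spec k C.1)
  have := hint C
  rw [map_gp_eq_zero_iff]
  rw [← hC]
  symm
  exact K280.GmPullComp.HGmPull_comp _ (Zn f k C₀.1 0).hom (ZZ f (sO k C.1)).hom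
    (Over.w (ze f k (Subalgebra.inclusion hle) 0)) 2 α

/-- **Vanishing** when `Γ(X, O) = k`. -/
theorem eq_zero [IsProper f] (hX : Function.Bijective (Groth.Agent.Sga3.H805.SecExt.str f ⊤))
    (hdim : topologicalKrullDim X ≤ 1) (α : EtCoh.H X (EtCoh.Gm X) 2) : α = 0 := by
  obtain ⟨C, hC⟩ := exists_FG f hdim α
  have h1 : Algebra.IsIntegral k C.1 := isIntegral_sub C.1
  have h2 : IsField C.1 := isField_of_isIntegral_of_isField' (Field.toIsField k)
  let _ : Field C.1 := h2.toField
  have h3 : Algebra.FiniteType k C.1 := C.1.fg_iff_finiteType.1 C.2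
  have h4 : Module.Finite k C.1 := Algebra.IsIntegral.finite
  exact Insep.eq_zero f hX hdim C.1 α hC

end K349.GeoInt
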