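import Groth.Agent.Dix.K349.EdgeTwo
import Groth.Agent.Dix.K349.GeoInt
import Groth.Agent.Dix.K282.GmIso

/-!
# Brauer classes dying over a separable closure die over a finite separable extension
-/

set_option autoImplicit false
set_option backward.isDefEq.respectTransparency false
set_option backward.isDefEq.respectTransparency.types false
universe u

open CategoryTheory CategoryTheory.Limits AlgebraicGeometry Opposite TensorProduct

namespace K349.GenLim

open K349.Amit K349.GGFun K349.Tow K349.UH K349.GmZ K349.LimP K998.UnitCx Groth.Agent.Etcore.FGLim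

variable {k : Type u} [Field k] {S : Scheme.{u}} (s : S ⟶ Spec (CommRingCat.of k))

/-- A class dying on `S_B` dies on `S_C` for a finitely generated subalgebra `C` of `B`. -/
theorem exists_FG [CompactSpace S] [QuasiSeparatedSpace S] (B : Type u) [CommRing B] [Algebra k B]
    [hps : ∀ {Y Y' : Scheme.{u}} (g : Y' ⟶ Y), PreservesFiniteLimits (EtCoh.pull g)]
    (γ : EtCoh.H S (EtCoh.Gm S) 2) (hγ : EtLim.HGmPull (ZZ s (sO k B)).hom 2 γ = 0) :
    ∃ C : FGSub k B, EtLim.HGmPull (ZZ s (sO k C.1)).hom 2 γ = 0 := by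
  have hA : ∀ ⦃a b : (FGSub k B)ᵒᵖ⦄ (h : a ⟶ b), IsAffineHom ((dg s k B 0).map h) :=
    fun _ _ _ => isAffineHom_map s k _ 0
  have h2 := (Groth.Agent.S3885.result (dg s k B 0) hA (fun a => compactSpace_Zn s k a.unop.1 0)
    (fun a => quasiSeparatedSpace_Zn s k a.unop.1 0) (cn s k B 0) (isLimitCn s k B 0) 2).2
  let C₀ : FGSub k B := ⊥
  have h3 : EtLim.HGmPull ((cn s k B 0).π.app (op C₀)) 2 (EtLim.HGmPull (Zn s k C₀.1 0).hom 2 γ) = 0 :=
    (K280.GmPullComp.HGmPull_comp _ (Zn s k C₀.1 0).hom (ZZ s (sO k B)).hom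
      (Over.w (ze s k C₀.1.val 0)) 2 γ).trans hγ
  obtain ⟨C, hle, hC⟩ := h2 C₀ (EtLim.HGmPull (Zn s k C₀.1 0).hom 2 γ) h3
  refine ⟨C, ?_⟩
  rw [← hC]
  symm
  exact K280.GmPullComp.HGmPull_comp _ (Zn s k C₀.1 0).hom (ZZ s (sO k C.1)).hom
    (Over.w (ze s k (Subalgebra.inclusion hle) 0)) 2 γ

theorem etale_sub (ks : Type u) [Field ks] [Algebra k ks] [Algebra.IsSeparable k ks] (C : FGSub k ks) :
    Algebra.Etale k C.1 := by
  have h1 : Algebra.IsIntegral k C.1 := Algebra.IsIntegral.of_injective C.1.val Subtype.val_injective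
  have h2 : IsField C.1 := isField_of_isIntegral_of_isField' (Field.toIsField k)
  let _ : Field C.1 := h2.toField
  have h3 : Algebra.FiniteType k C.1 := C.1.fg_iff_finiteType.1 C.2
  have h4 : Module.Finite k C.1 := Algebra.IsIntegral.finite
  have h5 : Algebra.IsSeparable k C.1 := Algebra.IsSeparable.of_algHom k ks C.1.val
  have h6 : Algebra.FormallyEtale k C.1 := Algebra.FormallyEtale.of_isSeparable k C.1
  exact { formallyEtale := h6, finitePresentation := Algebra.FinitePresentation.of_finiteType.1 h3 }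

open Groth.Agent.Etcore.EtInst Groth.Agent.Etcore.HQ Groth.Agent.Etcore.RpushLoc Groth.Agent.Etcore.HpullCalc
  Groth.Agent.Etcore.GmFun

variable {X : Scheme.{u}} (f : X ⟶ Spec (CommRingCat.of k)) (h : S ⟶ X) (hs : h ≫ f = s)

include hs in
theorem exists_etale [CompactSpace S] [QuasiSeparatedSpace S]
    [hps : ∀ {Y Y' : Scheme.{u}} (g : Y' ⟶ Y), PreservesFiniteLimits (EtCoh.pull g)]
    (ks : Type u) [Field ks] [Algebra k ks] [Algebra.IsSeparable k ks]
    (γ : EtCoh.H S (EtCoh.Gm S) 2) (hγ : EtLim.HGmPull (ZZ s (sO k ks)).hom 2 γ = 0) (y : X) :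
    ∃ (V : X.Etale) (v : V.left), V.hom v = y ∧ hp (pr h V) (EtCoh.Gm S) 2 γ = 0 := by
  obtain ⟨C, hC⟩ := exists_FG s ks γ hγ
  have hE : Algebra.Etale k C.1 := etale_sub ks C
  have hE2 : Etale (Spec.map (CommRingCat.ofHom (algebraMap k C.1))) :=
    (HasRingHomProperty.Spec_iff (P := @Etale)).2 (RingHom.etale_algebraMap.2 hE)
  have hne : Nonempty (Spec (CommRingCat.of C.1)) := inferInstanceAs (Nonempty (PrimeSpectrum C.1))
  have hss : Subsingleton (Spec (CommRingCat.of k)) := inferInstanceAs (Subsingleton (PrimeSpectrum k))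
  have hint : Surjective (Spec.map (CommRingCat.ofHom (algebraMap k C.1))) :=
    ⟨fun x => ⟨Classical.choice hne, Subsingleton.elim _ _⟩⟩
  let V : X.Etale := Scheme.Etale.mk (pullback.fst f (Spec.map (CommRingCat.ofHom (algebraMap k C.1))))
  obtain ⟨v, hv⟩ := Surjective.surj (f := pullback.fst f (Spec.map (CommRingCat.ofHom (algebraMap k C.1)))) y
  refine ⟨V, v, hv, ?_⟩
  have h1 : EtLim.HGmPull (pr h V) 2 γ = 0 :=
    HGmPull_eq_zero (ZZ s (sO k C.1)).hom
      (pullback.lift (pr h V) (pullback.fst V.hom h ≫ pullback.snd f (Spec.map (CommRingCat.ofHom (algebraMap k C.1))))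
        (by
          have e1 : pullback.fst V.hom h ≫ V.hom = pr h V ≫ h := pullback.condition
          have e2 : pullback.fst f (Spec.map (CommRingCat.ofHom (algebraMap k C.1))) ≫ f =
              pullback.snd f (Spec.map (CommRingCat.ofHom (algebraMap k C.1))) ≫
                Spec.map (CommRingCat.ofHom (algebraMap k C.1)) := pullback.condition
          have e3 : (pullback.fst V.hom h ≫ V.hom) ≫ f = (pr h V ≫ h) ≫ f := congrArg (· ≫ f) e1
          rw [Category.assoc, Category.assoc, hs] at e3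
          rw [← e3, Category.assoc]
          exact congrArg (pullback.fst V.hom h ≫ ·) e2)) (pr h V) (pullback.lift_fst _ _ _) 2 γ hC
  have h2 : IsIso (gmp (pr h V)) := Groth.Agent.Dix.K282.GmIso.isIso_gmp_etale (pr h V)
  apply (HHmap_bijective (gmp (pr h V)) 2).1
  rw [map_zero]
  exact (Groth.Agent.Topos.H571.GmPull.HGmPull_eq (pr h V) 2 γ).symm.trans h1

end K349.GenLim
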