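import Groth.Agent.Dix.K349.LocSol
import Groth.Agent.Sga2lef.H90.HensSec

/-!
# Global cocycles in the Amitsur complex are coboundaries

`X` quasi-compact and quasi-separated over a separably closed field `k` with `Γ(X, O) = k`.
-/

set_option autoImplicit false
set_option backward.isDefEq.respectTransparency false
set_option backward.isDefEq.respectTransparency.types false

universe u

open CategoryTheory CategoryTheory.Limits AlgebraicGeometry Opposite TensorProduct

namespace K349.GlobSol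

open K349.Amit K349.GGFun K349.Tow K349.Sec K998.UnitCx

section Alg

variable {k : Type u} [CommRing k] {A B D : Type u} [CommRing A] [Algebra k A] [CommRing B] [Algebra k B]
  [CommRing D] [Algebra k D] (F : Type u) [CommRing F] [Algebra k F]

theorem cfu_cfu (φ : A →ₐ[k] B) (ψ : B →ₐ[k] D) (z : Additive (A ⊗[k] F)ˣ) :
    cfu F ψ (cfu F φ z) = cfu F (ψ.comp φ) z := by
  apply Additive.toMul.injective
  ext
  change cf F ψ (cf F φ (z.toMul : A ⊗[k] F)) = cf F (ψ.comp φ) (z.toMul : A ⊗[k] F)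
  generalize (z.toMul : A ⊗[k] F) = w
  induction w using TensorProduct.induction_on with
  | zero => simp
  | tmul a e => simp
  | add x y hx hy => rw [map_add, map_add, map_add, hx, hy]

theorem cfu_id (z : Additive (A ⊗[k] F)ˣ) : cfu F (AlgHom.id k A) z = z := by
  apply Additive.toMul.injective
  ext
  change cf F (AlgHom.id k A) (z.toMul : A ⊗[k] F) = (z.toMul : A ⊗[k] F)
  rw [cf, Algebra.TensorProduct.map_id]
  rfl

end Alg

variable {k : Type u} [Field k] (K C : Type u) [CommRing K] [Algebra k K] [Nontrivial K] [Module.Finite k K]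
  [CommRing C] [Algebra k C] [Module.Finite k C]

/-- cocycles over a `k`-algebra isomorphic to `k` -/
theorem exists_of_bijective [IsSepClosed k] (A : Type u) [CommRing A] [Algebra k A]
    (hA : Function.Bijective (algebraMap k A)) (n : ℕ) (z : Additive (A ⊗[k] E k K C (n + 1))ˣ)
    (hz : Dm A (d k K C (n + 1)) z = 0) : ∃ y : Additive (A ⊗[k] E k K C n)ˣ, Dm A (d k K C n) y = z := by
  let e : k ≃ₐ[k] A := AlgEquiv.ofBijective (Algebra.ofId k A) hA
  let ψ : A →ₐ[k] k := e.symm
  let φ : k →ₐ[k] A := e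
  have hφψ : φ.comp ψ = AlgHom.id k A := AlgHom.ext fun x => e.apply_symm_apply x
  have h0 : Dm k (d k K C (n + 1)) (cfu (E k K C (n + 1)) ψ z) = 0 := by
    rw [← cfu_Dm, hz, map_zero]
  obtain ⟨P, _, _, hP, hs, h⟩ := AmitSol.exists_solution k n (cfu (E k K C (n + 1)) ψ z) h0
  have hnt : Nontrivial P := by
    obtain ⟨q, -⟩ := hs ⊥
    exact PrimeSpectrum.nonempty_iff_nontrivial.mp ⟨q⟩
  obtain ⟨ρ⟩ := Groth.Agent.Sga2lef.H90.HensSec.exists_algHom_field (k := k) (Q := P)
  obtain ⟨y, hy⟩ := h k ρ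
  have h1 : IsScalarTower.toAlgHom k k k = AlgHom.id k k := AlgHom.ext fun _ => rfl
  rw [h1, cfu_id] at hy
  refine ⟨cfu (E k K C n) φ y, ?_⟩
  rw [← cfu_Dm, hy, cfu_cfu, hφψ, cfu_id]

variable {X : Scheme.{u}} (f : X ⟶ Spec (CommRingCat.of k)) [CompactSpace X] [QuasiSeparatedSpace X]

theorem exists_global [IsSepClosed k] (hX : Function.Bijective (Groth.Agent.Sga3.H805.SecExt.str f ⊤)) (n : ℕ)
    (s : EtCoh.sect (GG (Zn f K C (n + 1))) (EtCoh.top X))
    (hs : (DG f K C (n + 1)).hom.app (op (EtCoh.top X)) s = 0) :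
    ∃ t : EtCoh.sect (GG (Zn f K C n)) (EtCoh.top X), (DG f K C n).hom.app (op (EtCoh.top X)) t = s := by
  have hc : CompactSpace (EtCoh.top X).left := inferInstanceAs (CompactSpace X)
  have hq : QuasiSeparatedSpace (EtCoh.top X).left := inferInstanceAs (QuasiSeparatedSpace X)
  obtain ⟨z, hz⟩ := (sU_bijective f (E k K C (n + 1)) (EtCoh.top X)).2 (uA _ (EtCoh.top X) s)
  have hDz : Dm (GA (hU f (EtCoh.top X))) (d k K C (n + 1)) z = 0 := by
    apply (sU_bijective f (E k K C (n + 1 + 1)) (EtCoh.top X)).1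
    rw [map_zero, ← alt_sU, hz]
    have h1 := uA_D (zd f K C (n + 1)) (EtCoh.top X) s
    rw [← h1]
    change uA _ (EtCoh.top X) ((DG f K C (n + 1)).hom.app (op (EtCoh.top X)) s) = 0
    rw [hs, map_zero]
  have hA : Function.Bijective (algebraMap k (GA (hU f (EtCoh.top X)))) := by
    have h1 : hU f (EtCoh.top X) = f := Category.id_comp f
    rw [algebraMap_GA, h1]
    exact hX
  obtain ⟨y, hy⟩ := exists_of_bijective K C _ hA n z hDz
  refine ⟨(uA _ (EtCoh.top X)).symm (sU f (E k K C n) (EtCoh.top X) y), ?_⟩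
  apply (uA _ (EtCoh.top X)).injective
  refine (uA_D (zd f K C n) (EtCoh.top X) _).trans ?_
  rw [AddEquiv.apply_symm_apply]
  refine (alt_sU f K C n (EtCoh.top X) y).trans ?_
  rw [hy, hz]

/-- the lifting property of the constant sheaf -/
theorem surj_cx [IsSepClosed k] (hX : Function.Bijective (Groth.Agent.Sga3.H805.SecExt.str f ⊤)) :
    (LocSol.cx f K C).Surj
      ((constantSheaf X.smallEtaleTopology AddCommGrpCat.{u + 1}).obj (AddCommGrpCat.of (ULift ℤ))) := by
  intro z hz
  exact ExSite.exists_hom (MorphismProperty.Over.mkIdTerminal _ _ : IsTerminal (EtCoh.top X))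
    (DG f K C 2) (DG f K C 3) (fun s hs => exists_global K C f hX 2 s hs) z hz

end K349.GlobSol
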