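import Groth.Agent.Dix.K349.Tow
import Groth.Agent.Dix.K349.HomAlg
import Groth.Agent.Dix.K280.GmPullComp
import Groth.Agent.Dix.K280.EdgeEt
import Groth.Agent.Sga4A.IntegralSection
import Groth.Agent.Sga4B.ConstLC

/-!
# `H²(X, 𝔾ₘ) → H²(X, GG Z)` and `EtLim.HGmPull`

`gp Z : 𝔾ₘ ⟶ GG Z`; `map_gp_eq_zero_iff`: for `Z` integral over `X` a class of degree two dies in `H²(X, GG Z)` iff
its pull back to `Z` vanishes.
-/

set_option autoImplicit false
universe u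

open CategoryTheory CategoryTheory.Limits AlgebraicGeometry Opposite

namespace K349.GmZ

open K349.GGFun K349.Tow K998.UnitCx Groth.Agent.CurvesA.GmSect

variable {X : Scheme.{u}}

/-- `𝔾ₘ ⟶ GG Z` -/
noncomputable def gp (Z : Over X) : EtCoh.Gm X ⟶ GG Z := EtLim.GmPush Z.hom

/-- sections of `𝔾ₘ` -/
noncomputable def uG (U : X.Etale) : EtCoh.sect (EtCoh.Gm X) U ≃+ Additive (Γ(U.left, ⊤))ˣ where
  toFun s := Additive.ofMul (toU s)
  invFun a := toU.symm a.toMul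
  left_inv _ := rfl
  right_inv _ := rfl
  map_add' _ _ := rfl

theorem uA_gp (Z : Over X) (U : X.Etale) (s : EtCoh.sect (EtCoh.Gm X) U) :
    uA Z U ((gp Z).hom.app (op U) s) = ut (fs Z U) (uG U s) := rfl

variable {Z Z' : Over X}

theorem gp_gmap (g : Z' ⟶ Z) : gp Z ≫ gmap g = gp Z' := by
  apply GGFun.hom_ext
  intro U s
  apply (uA Z' U).injective
  change uA Z' U ((gmap g).hom.app (op U) ((gp Z).hom.app (op U) s)) = _
  rw [uA_gmap, uA_gp, uA_gp, ut_ut, zm_fs]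

theorem isIso_gp (Z : Over X) [IsIso Z.hom] : IsIso (gp Z) := by
  apply Groth.Agent.Sga4B.ConstLC.isIso_of_bijective
  intro U
  have h1 : IsIso (fs Z U) := (isPullback_zu Z U).isIso_fst_of_isIso
  constructor
  · intro s t hst
    apply (uG U).injective
    have h2 := congrArg (fun x => ut (inv (fs Z U)) (uA Z U x)) hst
    have h3 : ∀ s, ut (inv (fs Z U)) (uA Z U ((gp Z).hom.app (op U) s)) = uG U s := fun s => by
      rw [uA_gp, ut_ut, IsIso.inv_hom_id, ut_id]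
    exact (h3 s).symm.trans (h2.trans (h3 t))
  · intro t
    refine ⟨(uG U).symm (ut (inv (fs Z U)) (uA Z U t)), ?_⟩
    apply (uA Z U).injective
    refine (uA_gp Z U _).trans ?_
    rw [AddEquiv.apply_symm_apply, ut_ut, IsIso.hom_inv_id, ut_id]

theorem map_gmap_gp (g : Z' ⟶ Z) (n : ℕ) (α : EtCoh.H X (EtCoh.Gm X) n) :
    Sheaf.H.map (gmap g) n (Sheaf.H.map (gp Z) n α) = Sheaf.H.map (gp Z') n α := by
  rw [← gp_gmap g]
  exact HomAlg.pm_comp _ _ _

theorem eq_zero_of_map_gp (Z : Over X) [IsIso Z.hom] (n : ℕ) (α : EtCoh.H X (EtCoh.Gm X) n)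
    (h : Sheaf.H.map (gp Z) n α = 0) : α = 0 := by
  have h1 := isIso_gp Z
  have h2 : Sheaf.H.map (inv (gp Z)) n (Sheaf.H.map (gp Z) n α) = α := by
    refine (HomAlg.pm_comp (gp Z) (inv (gp Z)) _).trans ?_
    rw [IsIso.hom_inv_id]
    exact Abelian.Ext.comp_mk₀_id _
  rw [← h2, h, map_zero]

theorem map_gp_eq_zero_iff (Z : Over X) [IsIntegralHom Z.hom] [PreservesFiniteLimits (EtCoh.pull Z.hom)]
    (α : EtCoh.H X (EtCoh.Gm X) 2) : Sheaf.H.map (gp Z) 2 α = 0 ↔ EtLim.HGmPull Z.hom 2 α = 0 := by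
  have h1 := K280.EdgeEt.HofPush_two_injective Z.hom (EtCoh.Gm Z.left)
    (Groth.Agent.Sga4A.EtSplit.isZero_Rpush Z.hom (EtCoh.Gm Z.left) 1 le_rfl)
  have h2 : EtLim.HGmPull Z.hom 2 α = EtLim.HofPush Z.hom (EtCoh.Gm Z.left) 2 (Sheaf.H.map (gp Z) 2 α) := rfl
  rw [h2]
  exact ((injective_iff_map_eq_zero' _).1 h1 _).symm

/-- vanishing of a class propagates -/
theorem HGmPull_eq_zero {T T' : Scheme.{u}} (a : T ⟶ X) (b : T' ⟶ T) (c : T' ⟶ X) (w : b ≫ a = c)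
    [PreservesFiniteLimits (EtCoh.pull a)] [PreservesFiniteLimits (EtCoh.pull c)] (n : ℕ)
    (α : EtCoh.H X (EtCoh.Gm X) n) (h : EtLim.HGmPull a n α = 0) : EtLim.HGmPull c n α = 0 := by
  have : PreservesFiniteLimits (EtCoh.pull b) := Groth.Agent.S0101.result b
  rw [← K280.GmPullComp.HGmPull_comp b a c w, h, map_zero]

end K349.GmZ
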