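import Groth.Agent.Dix.K349.UH
import Mathlib.RingTheory.Jacobson.Artinian
import Mathlib.RingTheory.HopkinsLevitzki

/-!
# Finite type algebras with a nilpotent ideal whose quotient is a finite purely inseparable field
-/

set_option autoImplicit false
universe u

open CategoryTheory AlgebraicGeometry

namespace K349.Nil

section Ring

variable {B K : Type u} [CommRing B] [Field K] (φ : B →+* K) (hφ : Function.Surjective φ)
  (hnil : ∀ b : B, φ b = 0 → IsNilpotent b)

include hφ hnil in
theorem isLocalHom : IsLocalHom φ := by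
  refine ⟨fun b hb => ?_⟩
  obtain ⟨c, hc⟩ := hφ (φ b)⁻¹
  have h1 : φ (b * c - 1) = 0 := by
    rw [map_sub, map_mul, hc, map_one, mul_inv_cancel₀ hb.ne_zero, sub_self]
  have h2 := (hnil _ h1).isUnit_add_one
  rw [sub_add_cancel] at h2
  exact isUnit_of_mul_isUnit_left h2

include hφ hnil in
theorem isLocalRing : IsLocalRing B := by
  have := isLocalHom φ hφ hnil
  exact RingHom.domain_isLocalRing φ

include hφ hnil in
theorem comap_surjective : Function.Surjective (PrimeSpectrum.comap φ) := by
  rw [← Set.range_eq_univ, range_comap_of_surjective _ φ hφ, Set.eq_univ_iff_forall]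
  intro p b hb
  obtain ⟨n, hn⟩ := hnil b hb
  exact p.2.mem_of_pow_mem n (hn ▸ p.asIdeal.zero_mem)

end Ring

section Alg

variable {k B K : Type u} [Field k] [CommRing B] [Algebra k B] [Algebra.FiniteType k B] [Field K] [Algebra k K]
  (φ : B →ₐ[k] K) (hφ : Function.Surjective φ) (hnil : ∀ b : B, φ b = 0 → IsNilpotent b)

include hφ hnil in
theorem finite : Module.Finite k B := by
  have h1 := isLocalRing φ.toRingHom hφ hnil
  have h2 : IsNoetherianRing B := Algebra.FiniteType.isNoetherianRing k B
  have h3 : IsArtinianRing B := by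
    rw [isArtinianRing_iff_isNilpotent_maximalIdeal]
    refine (Ideal.FG.isNilpotent_iff_le_nilradical (IsNoetherian.noetherian _)).2 fun b hb => ?_
    refine hnil b ?_
    have := isLocalHom φ.toRingHom hφ hnil
    by_contra hne
    exact hb (isUnit_of_map_unit φ.toRingHom b (isUnit_iff_ne_zero.2 hne))
  exact (Module.finite_iff_isArtinianRing k B).2 h3

include hφ hnil in
theorem isUH [IsPurelyInseparable k K] : UH.IsUH (Spec.map (CommRingCat.ofHom (algebraMap k B))) := by
  have := finite φ hφ hnil
  exact UH.isUH_of_surjective k K B φ (comap_surjective φ.toRingHom hφ hnil)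

end Alg

section Pow

variable {k R K : Type u} [Field k] [CommRing R] [Algebra k R] [Field K] [Algebra k K] (φ : R →ₐ[k] K)

/-- the induced map on `R / m^(n+1)` -/
noncomputable def ql (n : ℕ) : R ⧸ (RingHom.ker φ.toRingHom) ^ (n + 1) →ₐ[k] K :=
  Ideal.Quotient.liftₐ _ φ (fun _ ha => Ideal.pow_le_self (Nat.succ_ne_zero n) ha)

theorem ql_mk (n : ℕ) (r : R) : ql φ n (Ideal.Quotient.mk _ r) = φ r := rfl

theorem ql_surjective (hφ : Function.Surjective φ) (n : ℕ) : Function.Surjective (ql φ n) := fun x => by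
  obtain ⟨r, rfl⟩ := hφ x
  exact ⟨Ideal.Quotient.mk _ r, rfl⟩

theorem ql_nil (n : ℕ) (b : R ⧸ (RingHom.ker φ.toRingHom) ^ (n + 1)) (h : ql φ n b = 0) : IsNilpotent b := by
  obtain ⟨r, rfl⟩ := Ideal.Quotient.mk_surjective b
  refine ⟨n + 1, ?_⟩
  rw [← map_pow, Ideal.Quotient.eq_zero_iff_mem]
  exact Ideal.pow_mem_pow h (n + 1)

end Pow

end K349.Nil
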