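import Groth.Agent.Dix.K349.Tow2
import Mathlib.AlgebraicGeometry.Morphisms.UniversallyInjective
import Mathlib.AlgebraicGeometry.Morphisms.Integral
import Mathlib.FieldTheory.PurelyInseparable.Basic

/-!
# The morphisms `X × Spec (K ⊗ … ⊗ C) → X` are universal homeomorphisms
-/

set_option autoImplicit false
set_option backward.isDefEq.respectTransparency false
set_option backward.isDefEq.respectTransparency.types false

universe u

open CategoryTheory CategoryTheory.Limits AlgebraicGeometry Opposite TensorProduct

namespace K349.UH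

open K349.Amit K349.GGFun K349.Tow K349.Tow2 K998.UnitCx

/-- the second factor of a universally injective morphism with surjective first factor -/
theorem universallyInjective_of_comp {T' T S : Scheme.{u}} (g : T' ⟶ T) (h : T ⟶ S) [Surjective g]
    [hi : UniversallyInjective (g ≫ h)] : UniversallyInjective h := by
  rw [universallyInjective_iff]
  intro X' Y' i₁ i₂ f' H
  have H' := (IsPullback.of_hasPullback g i₁).flip
  have h1 := H'.paste_horiz H
  have hinj := hi.universally_injective _ _ _ h1
  have hs : Surjective (pullback.snd g i₁) := inferInstance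
  intro a b hab
  obtain ⟨a', rfl⟩ := (pullback.snd g i₁).surjective a
  obtain ⟨b', rfl⟩ := (pullback.snd g i₁).surjective b
  congr 1
  apply hinj

  rw [Scheme.Hom.comp_apply, Scheme.Hom.comp_apply]
  exact hab

/-- integral, universally injective and surjective -/
structure IsUH {Y X : Scheme.{u}} (g : Y ⟶ X) : Prop where
  int : IsIntegralHom g
  inj : UniversallyInjective g
  sur : Surjective g

theorem IsUH.comp {Y X W : Scheme.{u}} {g : Y ⟶ X} {h : X ⟶ W} (hg : IsUH g) (hh : IsUH h) : IsUH (g ≫ h) := by
  obtain ⟨_, _, _⟩ := hg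
  obtain ⟨_, _, _⟩ := hh
  exact ⟨inferInstance, MorphismProperty.comp_mem _ _ _ ‹_› ‹_›, inferInstance⟩

theorem IsUH.of_isPullback {P Y X W : Scheme.{u}} {fst : P ⟶ Y} {snd : P ⟶ X} {g : Y ⟶ W} {h : X ⟶ W}
    (H : IsPullback fst snd g h) (hh : IsUH h) : IsUH fst :=
  ⟨MorphismProperty.of_isPullback H.flip hh.int, MorphismProperty.of_isPullback H.flip hh.inj,
    MorphismProperty.of_isPullback H.flip hh.sur⟩

theorem isUH_id (X : Scheme.{u}) : IsUH (𝟙 X) := ⟨inferInstance, inferInstance, inferInstance⟩

section Spec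

variable (k : Type u) [Field k]

theorem surjective_spec (F : Type u) [CommRing F] [Algebra k F] [Nontrivial F] :
    Surjective (Spec.map (CommRingCat.ofHom (algebraMap k F))) :=
  ⟨fun x => by
    obtain ⟨q⟩ : Nonempty (PrimeSpectrum F) := inferInstance
    exact ⟨q, Subsingleton.elim (α := PrimeSpectrum k) _ _⟩⟩

theorem isIntegralHom_spec (F : Type u) [CommRing F] [Algebra k F] [Algebra.IsIntegral k F] :
    IsIntegralHom (Spec.map (CommRingCat.ofHom (algebraMap k F))) := by
  rw [IsIntegralHom.SpecMap_iff]
  exact algebraMap_isIntegral_iff.2 inferInstance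

theorem universallyInjective_spec (K : Type u) [Field K] [Algebra k K] [IsPurelyInseparable k K] :
    UniversallyInjective (Spec.map (CommRingCat.ofHom (algebraMap k K))) := by
  refine ((tfae_universallyInjective _).out 0 1 rfl rfl).2 fun L _ g₁ g₂ h => ?_
  obtain ⟨a, rfl⟩ := Spec.map_surjective g₁
  obtain ⟨b, rfl⟩ := Spec.map_surjective g₂
  dsimp only at h
  rw [← Spec.map_comp, ← Spec.map_comp] at h
  have h1 := Spec.map_injective h
  congr 1
  refine CommRingCat.hom_ext ?_
  refine IsPurelyInseparable.injective_comp_algebraMap k K L ?_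
  exact congrArg CommRingCat.Hom.hom h1

theorem isUH_field (K : Type u) [Field K] [Algebra k K] [IsPurelyInseparable k K] :
    IsUH (Spec.map (CommRingCat.ofHom (algebraMap k K))) :=
  ⟨isIntegralHom_spec k K, universallyInjective_spec k K, surjective_spec k K⟩

/-- local artinian algebras with purely inseparable residue field -/
theorem isUH_of_surjective (K : Type u) [Field K] [Algebra k K] [IsPurelyInseparable k K] (A : Type u) [CommRing A]
    [Algebra k A] [Module.Finite k A] (φ : A →ₐ[k] K)
    (hφ : Function.Surjective (PrimeSpectrum.comap φ.toRingHom)) :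
    IsUH (Spec.map (CommRingCat.ofHom (algebraMap k A))) := by
  have hnt : Nontrivial A := φ.toRingHom.domain_nontrivial
  have hs : Surjective (Spec.map (CommRingCat.ofHom φ.toRingHom)) := ⟨hφ⟩
  have hc : Spec.map (CommRingCat.ofHom φ.toRingHom) ≫ Spec.map (CommRingCat.ofHom (algebraMap k A)) =
      Spec.map (CommRingCat.ofHom (algebraMap k K)) := by
    rw [← Spec.map_comp, ← CommRingCat.ofHom_comp]
    congr 2
    exact φ.comp_algebraMap
  have hu : UniversallyInjective (Spec.map (CommRingCat.ofHom φ.toRingHom) ≫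
      Spec.map (CommRingCat.ofHom (algebraMap k A))) := by
    rw [hc]
    exact universallyInjective_spec k K
  exact ⟨isIntegralHom_spec k A, universallyInjective_of_comp (Spec.map (CommRingCat.ofHom φ.toRingHom)) _,
    surjective_spec k A⟩

variable (K : Type u) [CommRing K] [Algebra k K] (C : Type u) [CommRing C] [Algebra k C]

theorem isUH_tensor (F : Type u) [CommRing F] [Algebra k F]
    (hK : IsUH (Spec.map (CommRingCat.ofHom (algebraMap k K))))
    (hF : IsUH (Spec.map (CommRingCat.ofHom (algebraMap k F)))) :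
    IsUH (Spec.map (CommRingCat.ofHom (algebraMap k (K ⊗[k] F)))) := by
  have h1 : IsPullback (Spec.map (CommRingCat.ofHom (Algebra.TensorProduct.includeRight : F →ₐ[k] K ⊗[k] F).toRingHom))
      (Spec.map (CommRingCat.ofHom (Algebra.TensorProduct.includeLeftRingHom : K →+* K ⊗[k] F)))
      (Spec.map (CommRingCat.ofHom (algebraMap k F))) (Spec.map (CommRingCat.ofHom (algebraMap k K))) :=
    isPullback_SpecMap_of_isPushout _ _ _ _ (CommRingCat.isPushout_tensorProduct k K F).flip
  have h2 := (IsUH.of_isPullback h1 hK).comp hF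
  rw [← Spec.map_comp, ← CommRingCat.ofHom_comp] at h2
  have h3 : ((Algebra.TensorProduct.includeRight : F →ₐ[k] K ⊗[k] F).toRingHom).comp (algebraMap k F) =
      algebraMap k (K ⊗[k] F) := (Algebra.TensorProduct.includeRight : F →ₐ[k] K ⊗[k] F).comp_algebraMap
  rw [h3] at h2
  exact h2

theorem isUH_E (hK : IsUH (Spec.map (CommRingCat.ofHom (algebraMap k K))))
    (hC : IsUH (Spec.map (CommRingCat.ofHom (algebraMap k C)))) :
    ∀ n : ℕ, IsUH (Spec.map (CommRingCat.ofHom (algebraMap k (E k K C n))))
  | 0 => hC
  | n + 1 => isUH_tensor k K (E k K C n) hK (isUH_E hK hC n)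

variable {X : Scheme.{u}} (f : X ⟶ Spec (CommRingCat.of k))

theorem isUH_Zn (hK : IsUH (Spec.map (CommRingCat.ofHom (algebraMap k K))))
    (hC : IsUH (Spec.map (CommRingCat.ofHom (algebraMap k C)))) (n : ℕ) : IsUH (Zn f K C n).hom :=
  IsUH.of_isPullback (IsPullback.of_hasPullback f (sO k (E k K C n)).hom) (isUH_E k K C hK hC n)

theorem isUH_self : IsUH (Spec.map (CommRingCat.ofHom (algebraMap k k))) := by
  have h : Spec.map (CommRingCat.ofHom (algebraMap k k)) = 𝟙 _ := Spec.map_id _
  rw [h]
  exact isUH_id _

end Spec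

/-- dimension -/
theorem IsUH.topologicalKrullDim_eq {Y X : Scheme.{u}} {g : Y ⟶ X} (hg : IsUH g) :
    topologicalKrullDim Y = topologicalKrullDim X := by
  obtain ⟨_, _, _⟩ := hg
  have h1 : IsHomeomorph g := by
    rw [isHomeomorph_iff_continuous_isClosedMap_bijective]
    exact ⟨g.continuous, g.isClosedMap, g.injective, g.surjective⟩
  exact IsHomeomorph.topologicalKrullDim_eq _ h1

end K349.UH
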