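import Groth.Agent.Dix.K349.GmZ
import Groth.Agent.Dix.K349.UH
import Groth.Agent.Dix.K280.DimOneBr

/-!
# Brauer classes on `X_B` for `B` artinian, relative dimension one

A class of `H²(X, 𝔾ₘ)` dying on `X_K` dies on `X_B` for every finite local algebra `B` with residue field `K`.
-/

set_option autoImplicit false
universe u

open CategoryTheory CategoryTheory.Limits AlgebraicGeometry Opposite

namespace K349.Thick

open K349.GGFun K349.Tow K349.UH K349.GmZ

variable {k : Type u} [Field k] {X : Scheme.{u}} (f : X ⟶ Spec (CommRingCat.of k))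

theorem exists_lift {P : Scheme.{u}} {p : P ⟶ X} {B : Type u} [CommRing B] [Algebra k B] {q : P ⟶ Spec (CommRingCat.of B)}
    (w : p ≫ f = q ≫ Spec.map (CommRingCat.ofHom (algebraMap k B))) {K : Type u} [Field K] [Algebra k K]
    (φ : B →ₐ[k] K) (hφ : Function.Surjective φ) (hnil : ∀ b : B, φ b = 0 → IsNilpotent b)
    (F : Type u) [Field F] (a : Spec (CommRingCat.of F) ⟶ P) :
    ∃ l : Spec (CommRingCat.of F) ⟶ (ZZ f (sO k K)).left, l ≫ (ZZ f (sO k K)).hom = a ≫ p := by
  let b : B →+* F := (Spec.preimage (a ≫ q)).hom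
  have hb : Spec.map (CommRingCat.ofHom b) = a ≫ q := Spec.map_preimage (a ≫ q)
  have hle : RingHom.ker φ.toRingHom ≤ RingHom.ker b := by
    intro x hx
    exact ((hnil x hx).map b).eq_zero
  let ψ : K →+* F := RingHom.liftOfSurjective φ.toRingHom hφ ⟨b, hle⟩
  have hψ : ψ.comp φ.toRingHom = b := RingHom.liftOfRightInverse_comp _ _ _ ⟨b, hle⟩
  have h2 : Spec.map (CommRingCat.ofHom ψ) ≫ Spec.map (CommRingCat.ofHom (algebraMap k K)) = a ≫ p ≫ f := by
    rw [w, ← Category.assoc, ← hb, ← Spec.map_comp, ← Spec.map_comp, ← CommRingCat.ofHom_comp, ← CommRingCat.ofHom_comp,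
      ← hψ, RingHom.comp_assoc]
    congr 3
    exact φ.comp_algebraMap.symm
  refine ⟨pullback.lift (a ≫ p) (Spec.map (CommRingCat.ofHom ψ)) (by rw [Category.assoc]; exact h2.symm), ?_⟩
  exact pullback.lift_fst _ _ _

variable [IsSepClosed k] [LocallyOfFiniteType f] [QuasiCompact f]

/-- A class dying on `X_K` dies on `X_B`. -/
theorem map_gp_eq_zero (hdim : topologicalKrullDim X ≤ 1) {B : Type u} [CommRing B] [Algebra k B] [Module.Finite k B]
    (hB : IsUH (Spec.map (CommRingCat.ofHom (algebraMap k B)))) {K : Type u} [Field K] [Algebra k K]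
    [IsPurelyInseparable k K] (φ : B →ₐ[k] K) (hφ : Function.Surjective φ) (hnil : ∀ b : B, φ b = 0 → IsNilpotent b)
    (α : EtCoh.H X (EtCoh.Gm X) 2) (h : Sheaf.H.map (gp (ZZ f (sO k K))) 2 α = 0) :
    Sheaf.H.map (gp (ZZ f (sO k B))) 2 α = 0 := by
  have hZB : IsUH (ZZ f (sO k B)).hom := IsUH.of_isPullback (IsPullback.of_hasPullback f (sO k B).hom) hB
  have hZK : IsUH (ZZ f (sO k K)).hom := IsUH.of_isPullback (IsPullback.of_hasPullback f (sO k K).hom) (isUH_field k K)
  have i1 := hZB.int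
  have i2 := hZK.int
  have i3 : PreservesFiniteLimits (EtCoh.pull (ZZ f (sO k B)).hom) := Groth.Agent.S0101.result _
  have i4 : PreservesFiniteLimits (EtCoh.pull (ZZ f (sO k K)).hom) := Groth.Agent.S0101.result _
  rw [map_gp_eq_zero_iff] at h ⊢
  let W : Scheme.{u} := (ZZ f (sO k B)).left
  let p : W ⟶ X := (ZZ f (sO k B)).hom
  let q : W ⟶ Spec (CommRingCat.of B) := PicF.XTproj f (sO k B)
  have hfB : IsFinite (sO k B).hom := (IsFinite.SpecMap_iff _).2 (RingHom.finite_algebraMap.2 inferInstance)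
  have hp : IsFinite p := inferInstanceAs (IsFinite (pullback.fst f (sO k B).hom))
  let g : W ⟶ Spec (CommRingCat.of k) := p ≫ f
  have hln : IsLocallyNoetherian W := LocallyOfFiniteType.isLocallyNoetherian g
  have hcs : CompactSpace W := QuasiCompact.compactSpace_of_compactSpace g
  have hN : IsNoetherian W := { }
  have hdW : topologicalKrullDim W ≤ 1 := by
    rw [hZB.topologicalKrullDim_eq]
    exact hdim
  have hps : ∀ x : W, PreservesFiniteLimits (EtCoh.pull (W.fromSpecStalk x)) := fun x => Groth.Agent.S0101.result _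
  refine K280.DimOneBr.eq_zero_of_forall (X := W) hdW
    (fun x hx => Groth.Agent.CurvesA.ClosedPtSep.isSepClosed_residueField g x hx) _ (fun x hx => ?_)
  have hens : HenselianLocalRing (W.presheaf.stalk x) :=
    Groth.Agent.Pi1.H421.CurveStep.henselianLocalRing_of_isNilpotent _ (K280.DimOneBr.isNilpotent_maximalIdeal x hx)
  let j : Spec (CommRingCat.of (W.presheaf.stalk x ⧸ IsLocalRing.maximalIdeal (W.presheaf.stalk x))) ⟶
      Spec (CommRingCat.of (W.presheaf.stalk x)) :=
    Spec.map (CommRingCat.ofHom (Ideal.Quotient.mk (IsLocalRing.maximalIdeal (W.presheaf.stalk x))))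
  have i5 : PreservesFiniteLimits (EtCoh.pull j) := Groth.Agent.S0101.result _
  have hinj := (Groth.Agent.S5715.result (W.presheaf.stalk x)
    (IsLocalRing.maximalIdeal (W.presheaf.stalk x)) (Ideal.IsPrime.ne_top inferInstance) 2 (by norm_num)).1
  apply hinj
  rw [map_zero]
  let _ : Field (W.presheaf.stalk x ⧸ IsLocalRing.maximalIdeal (W.presheaf.stalk x)) := Ideal.Quotient.field _
  obtain ⟨l, hl⟩ := exists_lift f (p := p) (q := q) pullback.condition φ hφ hnil
    (W.presheaf.stalk x ⧸ IsLocalRing.maximalIdeal (W.presheaf.stalk x)) (j ≫ W.fromSpecStalk x)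
  have i6 : PreservesFiniteLimits (EtCoh.pull (j ≫ W.fromSpecStalk x)) := Groth.Agent.S0101.result _
  have i7 : PreservesFiniteLimits (EtCoh.pull ((j ≫ W.fromSpecStalk x) ≫ p)) := Groth.Agent.S0101.result _
  refine (K280.GmPullComp.HGmPull_comp j (W.fromSpecStalk x) (j ≫ W.fromSpecStalk x) rfl 2 _).trans ?_
  refine (K280.GmPullComp.HGmPull_comp (j ≫ W.fromSpecStalk x) p ((j ≫ W.fromSpecStalk x) ≫ p) rfl 2 _).trans ?_
  exact HGmPull_eq_zero (ZZ f (sO k K)).hom l _ hl 2 α h

end K349.Thick
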