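import Groth.Agent.Dix.K349.Algz
import Groth.Agent.Dix.K349.Thick
import Groth.Agent.Dix.K349.Nil

/-!
# Brauer classes killed by a finite purely inseparable extension of a separably closed field

`X` proper over `k` separably closed, `dim X ≤ 1`, `Γ(X, O) = k`, `K/k` finite purely inseparable:
`H²(X, 𝔾ₘ) → H²(X_K, 𝔾ₘ)` is injective.
-/

set_option autoImplicit false
set_option backward.isDefEq.respectTransparency false
set_option backward.isDefEq.respectTransparency.types false
universe u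

open CategoryTheory CategoryTheory.Limits AlgebraicGeometry Opposite TensorProduct

namespace K349.Insep

open K349.Amit K349.GGFun K349.Tow K349.UH K349.GmZ K998.UnitCx

section

variable {k : Type u} [Field k] {X : Scheme.{u}} (f : X ⟶ Spec (CommRingCat.of k)) (K : Type u) [CommRing K]
  [Algebra k K]

theorem isIso_Zn_zero : IsIso (Zn f K k 0).hom := by
  have h : IsIso (Spec.map (CommRingCat.ofHom (algebraMap k k))) := by
    have h1 : Spec.map (CommRingCat.ofHom (algebraMap k k)) = 𝟙 _ := Spec.map_id _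
    rw [h1]
    infer_instance
  exact (IsPullback.of_hasPullback f (Spec.map (CommRingCat.ofHom (algebraMap k k)))).isIso_fst_of_isIso

theorem DG_zero : DG f K k 0 = gmap (zd f K k 0 0) := by
  rw [DG, D, Fin.sum_univ_one]
  simp

/-- from `X × Spec (K ⊗ k)` to `X_K` -/
noncomputable def zK : Zn f K k 1 ⟶ ZZ f (sO k K) :=
  ZM f (sM (Algebra.TensorProduct.includeLeft : K →ₐ[k] K ⊗[k] k))

end

/-- **Injectivity for finite purely inseparable extensions.** -/
theorem eq_zero {k : Type u} [Field k] [IsSepClosed k] {X : Scheme.{u}} (f : X ⟶ Spec (CommRingCat.of k)) [IsProper f]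
    (hX : Function.Bijective (Groth.Agent.Sga3.H805.SecExt.str f ⊤)) (hdim : topologicalKrullDim X ≤ 1)
    (K : Type u) [Field K] [Algebra k K] [Module.Finite k K] [IsPurelyInseparable k K]
    (α : EtCoh.H X (EtCoh.Gm X) 2) (h : Sheaf.H.map (gp (ZZ f (sO k K))) 2 α = 0) : α = 0 := by
  obtain ⟨r, φ, hφ⟩ := Algebra.FiniteType.iff_quotient_mvPolynomial''.1 (inferInstance : Algebra.FiniteType k K)
  let R := MvPolynomial (Fin r) k
  let m : Ideal R := RingHom.ker φ.toRingHom
  have hm : m ≠ ⊤ := RingHom.ker_ne_top _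
  have hft : ∀ n : ℕ, Algebra.FiniteType k (R ⧸ m ^ (n + 1)) := fun n => inferInstance
  have hfin : ∀ n : ℕ, Module.Finite k (R ⧸ m ^ (n + 1)) := fun n =>
    Nil.finite (Nil.ql φ n) (Nil.ql_surjective φ hφ n) (Nil.ql_nil φ n)
  have hloc : ∀ n : ℕ, IsLocalRing (R ⧸ m ^ (n + 1)) := fun n =>
    Nil.isLocalRing (Nil.ql φ n).toRingHom (Nil.ql_surjective φ hφ n) (Nil.ql_nil φ n)
  have hUH : ∀ n : ℕ, IsUH (Spec.map (CommRingCat.ofHom (algebraMap k (R ⧸ m ^ (n + 1))))) := fun n =>
    Nil.isUH (Nil.ql φ n) (Nil.ql_surjective φ hφ n) (Nil.ql_nil φ n)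
  have hi := isIso_Zn_zero f K
  refine eq_zero_of_map_gp (Zn f K k 0) 2 α ?_
  refine Algz.eq_zero f hX hdim K (isUH_field k K) R m hm hfin hloc hUH _ ?_ fun n => ?_
  · rw [DG_zero, map_gmap_gp, ← map_gmap_gp (zK f K), h, map_zero]
  · rw [map_gmap_gp]
    exact Thick.map_gp_eq_zero f hdim (hUH n) (Nil.ql φ n) (Nil.ql_surjective φ hφ n) (Nil.ql_nil φ n) α h

end K349.Insep
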