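import Groth.Agent.Dix.K349.GeoInt

/-!
# `H²(X, 𝔾ₘ) = 0` for `X` integral and proper of dimension at most one over a separably closed field
-/

set_option autoImplicit false
set_option backward.isDefEq.respectTransparency false
set_option backward.isDefEq.respectTransparency.types false
universe u

open CategoryTheory CategoryTheory.Limits AlgebraicGeometry Opposite TensorProduct

namespace K349.IntCase

open Groth.Agent.Sga3.H805.SecExt

theorem str_toSpecΓ (X : Scheme.{u}) (x : Γ(X, ⊤)) :
    str (R := Γ(X, ⊤)) (X := X) X.toSpecΓ ⊤ x = x := by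
  rw [str_top, Scheme.toSpecΓ_appTop]
  exact congr($((Scheme.ΓSpecIso Γ(X, ⊤)).inv_hom_id) x)

/-- **Vanishing** for integral curves -/
theorem eq_zero {k : Type u} [Field k] [IsSepClosed k] {X : Scheme.{u}} [IsIntegral X]
    (f : X ⟶ Spec (CommRingCat.of k)) [IsProper f]
    (hdim : topologicalKrullDim X ≤ 1) (α : EtCoh.H X (EtCoh.Gm X) 2) : α = 0 := by
  have hF : IsField Γ(X, ⊤) := isField_of_universallyClosed k f
  let k₁ : Type u := Γ(X, ⊤)
  let _ : Field k₁ := hF.toField
  let F : k →+* k₁ := ((Scheme.ΓSpecIso (CommRingCat.of k)).inv ≫ f.appTop).hom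
  let _ : Algebra k k₁ := F.toAlgebra
  let f₁ : X ⟶ Spec (CommRingCat.of k₁) := X.toSpecΓ
  let g : Spec (CommRingCat.of k₁) ⟶ Spec (CommRingCat.of k) := Spec.map (CommRingCat.ofHom F)
  have hfg : f₁ ≫ g = f := by
    change X.toSpecΓ ≫ Spec.map ((Scheme.ΓSpecIso (CommRingCat.of k)).inv ≫ f.appTop) = f
    rw [Spec.map_comp, ← Category.assoc, ← Scheme.toSpecΓ_naturality, Category.assoc]
    simp
  have hp : IsProper (f₁ ≫ g) := by
    rw [hfg]
    infer_instance
  have hf₁ : IsProper f₁ := IsProper.of_comp f₁ g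
  have hfin : F.Finite := by
    have h1 := finite_appTop_of_universallyClosed k f
    have h2 : ((Scheme.ΓSpecIso (CommRingCat.of k)).inv.hom).Finite :=
      RingHom.Finite.of_surjective _ (ConcreteCategory.bijective_of_isIso _).surjective
    exact h1.comp h2
  have hmf : Module.Finite k k₁ := hfin
  have hsep : IsSepClosed k₁ := Algebra.IsAlgebraic.isSepClosed (F := k)
  refine GeoInt.eq_zero f₁ ?_ hdim α
  have h3 : ∀ x : k₁, str f₁ ⊤ x = x := fun x => str_toSpecΓ X x
  exact ⟨fun a b h => ((h3 a).symm.trans h).trans (h3 b), fun a => ⟨a, h3 a⟩⟩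

end K349.IntCase
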