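import Groth.Agent.Dix.K349.Sec
import Groth.Agent.Dix.K349.AmitSol
import Groth.Agent.Dix.K349.ExSite
import Groth.Agent.FlatA.EtaleSections
import Groth.Agent.Etbase.EtSite

/-!
# Exactness of the Amitsur complex of étale sheaves

`X` over a field `k`, `K` a nonzero finite `k`-algebra, `C` a finite `k`-algebra: the complex
`0 → GG (Z 0) → GG (Z 1) → …` is exact on the étale site of `X`.
-/

set_option autoImplicit false
set_option backward.isDefEq.respectTransparency false
set_option backward.isDefEq.respectTransparency.types false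

universe u

open CategoryTheory CategoryTheory.Limits AlgebraicGeometry Opposite TensorProduct

namespace K349.LocSol

open K349.Amit K349.GGFun K349.Tow K349.Sec K998.UnitCx

variable {k : Type u} [Field k] {X : Scheme.{u}} (f : X ⟶ Spec (CommRingCat.of k))

/-- étale local sections of smooth algebras -/
theorem exists_etale (U : X.Etale) [IsAffine U.left] (P : Type u) [CommRing P] [Algebra (GA (hU f U)) P]
    [Algebra.Smooth (GA (hU f U)) P] (hP : Function.Surjective (PrimeSpectrum.comap (algebraMap (GA (hU f U)) P)))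
    (x : U.left) : ∃ (V : X.Etale) (r : V ⟶ U) (v : V.left) (φ : P →+* GA (hU f V)), r.left v = x ∧
      ∀ a, φ (algebraMap (GA (hU f U)) P a) = rU f r a := by
  let A := GA (hU f U)
  let str' : Spec (CommRingCat.of P) ⟶ Spec (CommRingCat.of A) := Spec.map (CommRingCat.ofHom (algebraMap A P))
  have hsm : Smooth str' := by
    rw [HasRingHomProperty.Spec_iff (P := @Smooth)]
    exact RingHom.smooth_algebraMap.mpr inferInstance
  let e : U.left ≅ Spec (CommRingCat.of A) := U.left.isoSpec
  obtain ⟨S', g₀, s', hg, hgs, κ, hκ⟩ := Groth.Agent.FlatA.EtaleSections.exists_section str' (e.hom x) (by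
    obtain ⟨q, hq⟩ := hP (e.hom x)
    exact ⟨q, hq⟩)
  let g : S' ⟶ U.left := g₀ ≫ e.inv
  have hge : Etale g := inferInstance
  have hu : Etale (uh U) := U.prop
  let V : X.Etale := Scheme.Etale.mk (g ≫ uh U)
  let r : V ⟶ U := MorphismProperty.Over.homMk g rfl trivial
  let φ : CommRingCat.of P ⟶ Γ(S', ⊤) := (Scheme.ΓSpecIso (CommRingCat.of P)).inv ≫ κ.appTop
  refine ⟨V, r, s', φ.hom, ?_, ?_⟩
  · change (g₀ ≫ e.inv) s' = x
    rw [Scheme.Hom.comp_apply, hgs, ← Scheme.Hom.comp_apply, e.hom_inv_id]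
    rfl
  · intro a
    have h1 : CommRingCat.ofHom (algebraMap A P) ≫ φ = g.appTop := by
      have h2 : CommRingCat.ofHom (algebraMap A P) ≫ (Scheme.ΓSpecIso (CommRingCat.of P)).inv =
          (Scheme.ΓSpecIso (CommRingCat.of A)).inv ≫ str'.appTop :=
        Scheme.ΓSpecIso_inv_naturality _
      have h3 : κ ≫ str' = g₀ := hκ
      have h4 : str'.appTop ≫ κ.appTop = g₀.appTop := by rw [← Scheme.Hom.comp_appTop, h3]
      have h5 : e.inv.appTop = (Scheme.ΓSpecIso (CommRingCat.of A)).inv := by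
        rw [← cancel_mono (Scheme.ΓSpecIso (CommRingCat.of A)).hom, Iso.inv_hom_id]
        have h6 : e.hom.appTop = (Scheme.ΓSpecIso (CommRingCat.of A)).hom := Scheme.toSpecΓ_appTop _
        rw [← h6, ← Scheme.Hom.comp_appTop, e.hom_inv_id]
        exact Scheme.Hom.id_appTop
      change _ ≫ (_ ≫ _) = _
      rw [← Category.assoc, h2, Category.assoc, h4]
      change _ = (g₀ ≫ e.inv).appTop
      rw [Scheme.Hom.comp_appTop, h5]
    exact congr($h1 a)

variable (K C : Type u) [CommRing K] [Algebra k K] [Nontrivial K] [Module.Finite k K] [CommRing C] [Algebra k C]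
  [Module.Finite k C]

/-- local solutions over affine étale schemes -/
theorem exists_local (n : ℕ) (U : X.Etale) [IsAffine U.left]
    (z : Additive (GA (hU f U) ⊗[k] E k K C (n + 1))ˣ) (hz : Dm (GA (hU f U)) (d k K C (n + 1)) z = 0)
    (x : U.left) : ∃ (V : X.Etale) (r : V ⟶ U) (v : V.left), r.left v = x ∧
      ∃ y : Additive (GA (hU f V) ⊗[k] E k K C n)ˣ, Dm (GA (hU f V)) (d k K C n) y =
        cfu (E k K C (n + 1)) (rU f r) z := by
  obtain ⟨P, _, _, hP, hs, h⟩ := AmitSol.exists_solution (GA (hU f U)) n z hz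
  obtain ⟨V, r, v, φ, hv, hφ⟩ := exists_etale f U P hs x
  let _ : Algebra (GA (hU f U)) (GA (hU f V)) := (rU f r).toRingHom.toAlgebra
  have htow : IsScalarTower k (GA (hU f U)) (GA (hU f V)) :=
    IsScalarTower.of_algebraMap_eq fun a => ((rU f r).commutes a).symm
  obtain ⟨y, hy⟩ := h (GA (hU f V)) { φ with commutes' := hφ }
  refine ⟨V, r, v, hv, y, hy.trans ?_⟩
  rfl

/-- local coboundaries -/
theorem exists_sieve (n : ℕ) (U : X.Etale) (s : EtCoh.sect (GG (Zn f K C (n + 1))) U)
    (hs : (DG f K C (n + 1)).hom.app (op U) s = 0) : ∃ T ∈ X.smallEtaleTopology U,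
      ∀ {V : X.Etale} (r : V ⟶ U), T r → ∃ a : EtCoh.sect (GG (Zn f K C n)) V,
        (DG f K C n).hom.app (op V) a = (GG (Zn f K C (n + 1))).obj.map r.op s := by
  let T : Sieve U :=
    { arrows := fun V r => ∃ a : EtCoh.sect (GG (Zn f K C n)) V,
        (DG f K C n).hom.app (op V) a = (GG (Zn f K C (n + 1))).obj.map r.op s
      downward_closed := by
        rintro V W r ⟨a, ha⟩ g
        refine ⟨(GG (Zn f K C n)).obj.map g.op a, ?_⟩
        refine (ConcreteCategory.congr_hom ((DG f K C n).hom.naturality g.op) a).trans ?_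
        change (GG (Zn f K C (n + 1))).obj.map g.op ((DG f K C n).hom.app (op V) a) = _
        rw [ha, op_comp, Functor.map_comp]
        rfl }
  refine ⟨T, ?_, fun r hr => hr⟩
  rw [Groth.Agent.Etbase.EtSite.mem_iff]
  intro x
  obtain ⟨_, ⟨W, hW, rfl⟩, hxW, -⟩ := U.left.isBasis_affineOpens.exists_subset_of_mem_open (Set.mem_univ x)
    isOpen_univ
  have hu : Etale (uh U) := U.prop
  let W' : U.left.Opens := W
  let U' : X.Etale := Scheme.Etale.mk (W'.ι ≫ uh U)
  have hU' : IsAffine U'.left := hW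
  let j : U' ⟶ U := MorphismProperty.Over.homMk W'.ι rfl trivial
  let x' : U'.left := ⟨x, hxW⟩
  let s' : EtCoh.sect (GG (Zn f K C (n + 1))) U' := (GG (Zn f K C (n + 1))).obj.map j.op s
  obtain ⟨z, hz⟩ := (sU_bijective f (E k K C (n + 1)) U').2 (uA _ U' s')
  have hDs : (DG f K C (n + 1)).hom.app (op U') s' = 0 := by
    refine (ConcreteCategory.congr_hom ((DG f K C (n + 1)).hom.naturality j.op) s).trans ?_
    change (GG (Zn f K C (n + 1 + 1))).obj.map j.op ((DG f K C (n + 1)).hom.app (op U) s) = 0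
    rw [hs, map_zero]
  have hDz : Dm (GA (hU f U')) (d k K C (n + 1)) z = 0 := by
    apply (sU_bijective f (E k K C (n + 1 + 1)) U').1
    rw [map_zero, ← alt_sU, hz]
    have h1 := uA_D (zd f K C (n + 1)) U' s'
    rw [← h1]
    change uA _ U' ((DG f K C (n + 1)).hom.app (op U') s') = 0
    rw [hDs, map_zero]
  obtain ⟨V, r, v, hv, y, hy⟩ := exists_local f K C n U' z hDz x'
  refine ⟨V, r ≫ j, v, ⟨(uA _ V).symm (sU f (E k K C n) V y), ?_⟩, ?_⟩
  · apply (uA _ V).injective
    refine (uA_D (zd f K C n) V _).trans ?_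
    rw [AddEquiv.apply_symm_apply]
    refine (alt_sU f K C n V y).trans ?_
    rw [hy, ← ut_zr_sU, hz, ← uA_map]
    congr 1
    rw [op_comp, Functor.map_comp]
    rfl
  · rw [MorphismProperty.Comma.comp_left, Scheme.Hom.comp_apply, hv]
    rfl

omit [Module.Finite k C] in
/-- the first map is injective on affine étale schemes -/
theorem Dm_zero_injective (A : Type u) [CommRing A] [Algebra k A] (z : Additive (A ⊗[k] E k K C 0)ˣ)
    (hz : Dm A (d k K C 0) z = 0) : z = 0 := by
  obtain ⟨lam, h1⟩ := AmitSol.exists_lam k K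
  rw [alt_apply, Fin.sum_univ_one, Fin.val_zero, pow_zero, one_smul] at hz
  have h2 : bc A (d k K C 0 0) (z.toMul : A ⊗[k] E k K C 0) = 1 :=
    congrArg (fun t : Additive (A ⊗[k] E k K C 1)ˣ => (t.toMul : A ⊗[k] E k K C 1)) hz
  have h3 : ∀ x : A ⊗[k] E k K C 0, ((s lam 0 : E k K C 1 →ₗ[k] E k K C 0).baseChange A) (bc A (d k K C 0 0) x) = x := by
    intro x
    induction x using TensorProduct.induction_on with
    | zero => rw [map_zero, map_zero]
    | add x y hx hy => rw [map_add, map_add, hx, hy]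
    | tmul a e =>
      have h4 : bc A (d k K C 0 0) (a ⊗ₜ[k] e) = a ⊗ₜ[k] (d k K C 0 0 e) := rfl
      rw [h4, LinearMap.baseChange_tmul, s_d_zero lam h1]
  apply Additive.toMul.injective
  ext
  change (z.toMul : A ⊗[k] E k K C 0) = 1
  apply Function.LeftInverse.injective h3
  rw [h2, map_one]

theorem mono_DG : Mono (DG f K C 0) := by
  apply ExSite.mono_of_sections
  intro U s hs
  let T : Sieve U :=
    { arrows := fun V r => (GG (Zn f K C 0)).obj.map r.op s = 0
      downward_closed := by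
        intro V W r hr g
        rw [op_comp, Functor.map_comp]
        change (GG (Zn f K C 0)).obj.map g.op ((GG (Zn f K C 0)).obj.map r.op s) = 0
        rw [hr, map_zero] }
  have hT : T ∈ X.smallEtaleTopology U := by
    rw [Groth.Agent.Etbase.EtSite.mem_iff]
    intro x
    obtain ⟨_, ⟨W, hW, rfl⟩, hxW, -⟩ := U.left.isBasis_affineOpens.exists_subset_of_mem_open (Set.mem_univ x)
      isOpen_univ
    have hu : Etale (uh U) := U.prop
    let W' : U.left.Opens := W
    let U' : X.Etale := Scheme.Etale.mk (W'.ι ≫ uh U)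
    have hU' : IsAffine U'.left := hW
    let j : U' ⟶ U := MorphismProperty.Over.homMk W'.ι rfl trivial
    let x' : U'.left := ⟨x, hxW⟩
    refine ⟨U', j, x', ?_, rfl⟩
    change (GG (Zn f K C 0)).obj.map j.op s = 0
    let s' : EtCoh.sect (GG (Zn f K C 0)) U' := (GG (Zn f K C 0)).obj.map j.op s
    obtain ⟨z, hz⟩ := (sU_bijective f (E k K C 0) U').2 (uA _ U' s')
    have hDs : (DG f K C 0).hom.app (op U') s' = 0 := by
      refine (ConcreteCategory.congr_hom ((DG f K C 0).hom.naturality j.op) s).trans ?_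
      change (GG (Zn f K C 1)).obj.map j.op ((DG f K C 0).hom.app (op U) s) = 0
      rw [hs, map_zero]
    have hDz : Dm (GA (hU f U')) (d k K C 0) z = 0 := by
      apply (sU_bijective f (E k K C 1) U').1
      rw [map_zero]
      refine (alt_sU f K C 0 U' z).symm.trans ?_
      rw [hz]
      have h1 := uA_D (zd f K C 0) U' s'
      rw [← h1]
      change uA _ U' ((DG f K C 0).hom.app (op U') s') = 0
      rw [hDs, map_zero]
    have hz0 : z = 0 := Dm_zero_injective K C _ z hDz
    apply (uA _ U').injective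
    rw [map_zero, ← hz, hz0, map_zero]
  apply Groth.Agent.CurvesA.Torsor.eq_of_locally_eq (GG (Zn f K C 0)) T hT
  intro V r hr
  exact (show (GG (Zn f K C 0)).obj.map r.op s = 0 from hr).trans (map_zero _).symm

theorem exact_DG (n : ℕ) : (ShortComplex.mk (DG f K C n) (DG f K C (n + 1)) (DG_DG f K n)).Exact := by
  apply ExSite.exact_of_locally
  intro U b hb
  exact exists_sieve f K C n U b hb

/-- The exact complex. -/
noncomputable def cx : HomAlg.Cx (EtCoh.Ab X) where
  G0 := GG (Zn f K C 0)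
  G1 := GG (Zn f K C 1)
  G2 := GG (Zn f K C 2)
  G3 := GG (Zn f K C 3)
  G4 := GG (Zn f K C 4)
  D0 := DG f K C 0
  D1 := DG f K C 1
  D2 := DG f K C 2
  D3 := DG f K C 3
  z01 := DG_DG f K 0
  z12 := DG_DG f K 1
  z23 := DG_DG f K 2
  mono := mono_DG f K C
  ex1 := exact_DG f K C 0
  ex2 := exact_DG f K C 1

variable {C} {C' : Type u} [CommRing C'] [Algebra k C'] [Module.Finite k C']

/-- functoriality -/
noncomputable def mor (φ : C →ₐ[k] C') : HomAlg.Cx.Mor (cx f K C) (cx f K C') where
  φ0 := gmap (ze f K φ 0)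
  φ1 := gmap (ze f K φ 1)
  φ2 := gmap (ze f K φ 2)
  c0 := (gmap_DG f K φ 0).symm
  c1 := (gmap_DG f K φ 1).symm

end K349.LocSol
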