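import Groth.Agent.Dix.K349.PicTow
import Groth.Agent.S3501
import Groth.Agent.S0505

/-!
# Lifting Picard classes along infinitesimal thickenings, relative dimension one
-/

set_option autoImplicit false
set_option backward.isDefEq.respectTransparency false
set_option backward.isDefEq.respectTransparency.types false

universe u

open CategoryTheory CategoryTheory.Limits AlgebraicGeometry Opposite TensorProduct

namespace K349.PicLift

open K349.Amit K349.GGFun K349.Tow K349.Tow2 K349.UH K998.UnitCx Groth.Agent.Grpsch.PicGrp K349.HomAlg K349.PicTow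

variable {k : Type u} [Field k] {X : Scheme.{u}} (f : X ⟶ Spec (CommRingCat.of k)) (K : Type u) [CommRing K]
  [Algebra k K]

theorem subsingleton_of_isUH {B : Type u} [CommRing B] [Algebra k B]
    (hB : IsUH (Spec.map (CommRingCat.ofHom (algebraMap k B)))) : Subsingleton (PrimeSpectrum B) := by
  have := hB.inj
  refine ⟨fun x y => ?_⟩
  exact (Spec.map (CommRingCat.ofHom (algebraMap k B))).injective (a₁ := x) (a₂ := y)
    (Subsingleton.elim (α := PrimeSpectrum k) _ _)

/-- Picard classes lift along `X_B → X_B'` for `B' → B` onto, `B'` a finite local `k`-algebra. -/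
theorem pe_surjective [IsProper f] (hdim : topologicalKrullDim X ≤ 1) {B B' : Type u} [CommRing B] [Algebra k B]
    [CommRing B'] [Algebra k B'] [Module.Finite k B'] [IsLocalRing B'] [Nontrivial B]
    (hB' : IsUH (Spec.map (CommRingCat.ofHom (algebraMap k B')))) (φ : B' →ₐ[k] B) (hφ : Function.Surjective φ) :
    Function.Surjective (pe f K φ 0) := by
  have hN : IsNoetherianRing B' := Algebra.FiniteType.isNoetherianRing k B'
  have hH : HenselianLocalRing B' := Groth.Agent.S0505.result k B'
  have hss := subsingleton_of_isUH hB'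
  let g : (Zn f K B' 0).left ⟶ Spec (CommRingCat.of B') := PicF.XTproj f (sO k B')
  have hg : IsProper g := inferInstanceAs (IsProper (pullback.snd f _))
  have hu : IsUH (Zn f K B' 0).hom := IsUH.of_isPullback (IsPullback.of_hasPullback f (sO k B').hom) hB'
  have hrel : ∀ s : Spec (CommRingCat.of B'),
      topologicalKrullDim ↥(pullback g ((Spec (CommRingCat.of B')).fromSpecResidueField s)) ≤ 1 := by
    intro s
    refine ((g.fiberι s).isEmbedding.isInducing.topologicalKrullDim_le).trans ?_
    rw [hu.topologicalKrullDim_eq]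
    exact hdim
  have h1 : IsPullback (ze f K φ 0).left (PicF.XTproj f (sO k B)) g (Spec.map (CommRingCat.ofHom φ.toRingHom)) :=
    Groth.Agent.Picfga.HilbPull.isPullback_XTmap f (sM (em k K φ 0))
  have h2 : IsClosedImmersion (Spec.map (CommRingCat.ofHom φ.toRingHom)) :=
    IsClosedImmersion.spec_of_surjective _ hφ
  have h3 : Surjective (Spec.map (CommRingCat.ofHom φ.toRingHom)) := ⟨fun x => by
    obtain ⟨q⟩ : Nonempty (PrimeSpectrum B) := inferInstance
    exact ⟨q, Subsingleton.elim (α := PrimeSpectrum B') _ _⟩⟩
  have h4 : IsClosedImmersion (ze f K φ 0).left := MorphismProperty.of_isPullback h1.flip h2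
  have h5 : Surjective (ze f K φ 0).left := MorphismProperty.of_isPullback h1.flip h3
  have hi : Set.range (ze f K φ 0).left.base = g.base ⁻¹' {IsLocalRing.closedPoint B'} := by
    rw [Set.range_eq_univ.2 (ze f K φ 0).left.surjective, eq_comm, Set.eq_univ_iff_forall]
    intro x
    exact Subsingleton.elim (α := PrimeSpectrum B') _ _
  intro y
  obtain ⟨d, hd, hdy⟩ := Groth.Agent.S3501.result B' _ g hrel _ (ze f K φ 0).left hi
    (Groth.Agent.Fga.RigGrp.toCl y.toMul) (Groth.Agent.Fga.RigGrp.isInvertibleCl_toCl _)
  obtain ⟨d', rfl⟩ := Groth.Agent.Fga.RigGrp.exists_toCl hd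
  refine ⟨Additive.ofMul d', ?_⟩
  apply Additive.toMul.injective
  apply Groth.Agent.Fga.RigGrp.toCl_injective
  exact (Groth.Agent.Fga.RigGrp.toCl_pull _ _).trans hdy

end K349.PicLift
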