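import Groth.Agent.Dix.K349.PicZ
import Groth.Agent.Dix.K349.UH
import Groth.Agent.Dix.K349.GlobSol

/-!
# The cosimplicial Picard groups of `X × Spec (K ⊗ … ⊗ C)` and `H¹(X, GG Z)`

`PD` alternating sums of faces, `pe` functoriality in `C`, `pz : Pic Z ≃ H¹(X, GG Z)`, `pz_PD`, `pz_pe`.
-/

set_option autoImplicit false
set_option backward.isDefEq.respectTransparency false
set_option backward.isDefEq.respectTransparency.types false

universe u

open CategoryTheory CategoryTheory.Limits AlgebraicGeometry Opposite TensorProduct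

namespace K349.PicTow

open K349.Amit K349.GGFun K349.Tow K349.Tow2 K349.UH K998.UnitCx Groth.Agent.Grpsch.PicGrp K349.HomAlg

section Pic

variable {k : Type u} [CommRing k] {X : Scheme.{u}} (f : X ⟶ Spec (CommRingCat.of k)) (K : Type u) [CommRing K]
  [Algebra k K]

/-- pull back on additive Picard groups -/
noncomputable abbrev pl {Y Y' : Scheme.{u}} (g : Y' ⟶ Y) : Additive (Pic Y) →+ Additive (Pic Y') :=
  MonoidHom.toAdditive (pull g)

theorem pl_apply {Y Y' : Scheme.{u}} (g : Y' ⟶ Y) (c : Pic Y) : pl g (Additive.ofMul c) = Additive.ofMul (pull g c) := rfl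

theorem pl_pl {Y Y' Y'' : Scheme.{u}} (g : Y' ⟶ Y) (h : Y'' ⟶ Y') (x : Additive (Pic Y)) :
    pl h (pl g x) = pl (h ≫ g) x :=
  congrArg Additive.ofMul (pull_comp h g x.toMul).symm

/-- differentials -/
noncomputable def PD (C : Type u) [CommRing C] [Algebra k C] (n : ℕ) :
    Additive (Pic (Zn f K C n).left) →+ Additive (Pic (Zn f K C (n + 1)).left) :=
  alt (fun i => pl (zd f K C n i).left)

variable {C C' C'' : Type u} [CommRing C] [Algebra k C] [CommRing C'] [Algebra k C'] [CommRing C''] [Algebra k C'']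

/-- functoriality in `C` -/
noncomputable def pe (φ : C →ₐ[k] C') (n : ℕ) :
    Additive (Pic (Zn f K C n).left) →+ Additive (Pic (Zn f K C' n).left) := pl (ze f K φ n).left

theorem pe_pe (φ : C →ₐ[k] C') (ψ : C' →ₐ[k] C'') (n : ℕ) (x : Additive (Pic (Zn f K C n).left)) :
    pe f K ψ n (pe f K φ n x) = pe f K (ψ.comp φ) n x := by
  rw [pe, pe, pe, pl_pl, ← Over.comp_left, ze_ze]

theorem pe_id (n : ℕ) (x : Additive (Pic (Zn f K C n).left)) : pe f K (AlgHom.id k C) n x = x := by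
  rw [pe, ze_id]
  exact congrArg Additive.ofMul (pull_id x.toMul)

theorem pe_PD (φ : C →ₐ[k] C') (n : ℕ) (x : Additive (Pic (Zn f K C n).left)) :
    pe f K φ (n + 1) (PD f K C n x) = PD f K C' n (pe f K φ n x) := by
  rw [PD, PD, alt_apply, alt_apply, map_sum]
  refine Finset.sum_congr rfl fun i _ => ?_
  rw [map_zsmul, pe, pe, pl_pl, pl_pl, ← Over.comp_left, ← Over.comp_left, ze_zd]

end Pic

section Coh

variable {X : Scheme.{u}}

theorem pm_sum_left {F G : EtCoh.Ab X} {n q : ℕ} (a : Fin n → (F ⟶ G)) (x : EtCoh.H X F q) :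
    Sheaf.H.map (∑ i : Fin n, (-1 : ℤ) ^ (i : ℕ) • a i) q x =
      ∑ i : Fin n, (-1 : ℤ) ^ (i : ℕ) • Sheaf.H.map (a i) q x := by
  let φ : (F ⟶ G) →+ EtCoh.H X G q := AddMonoidHom.mk' (fun g => Sheaf.H.map g q x) (fun g h => by
    have h1 : (Abelian.Ext.mk₀ (g + h) : Abelian.Ext F G 0) = Abelian.Ext.mk₀ g + Abelian.Ext.mk₀ h :=
      Abelian.Ext.mk₀_add _ _
    exact (congrArg (fun t => Abelian.Ext.comp x t (add_zero q)) h1).trans (Abelian.Ext.comp_add _ _ _ _))
  change φ _ = ∑ i : Fin n, (-1 : ℤ) ^ (i : ℕ) • φ (a i)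
  rw [map_sum]
  exact Finset.sum_congr rfl fun i _ => map_zsmul φ _ _

/-- `Pic Z ≃ H¹(X, GG Z)` -/
noncomputable def pz (Z : Over X) (h : IsUH Z.hom) : Additive (Pic Z.left) ≃+ EtCoh.H X (GG Z) 1 :=
  have := h.int
  have := h.inj
  have := h.sur
  PicZ.picZ Z

theorem map_pz {Z Z' : Over X} (h : IsUH Z.hom) (h' : IsUH Z'.hom) (g : Z' ⟶ Z) (c : Additive (Pic Z.left)) :
    Sheaf.H.map (gmap g) 1 (pz Z h c) = pz Z' h' (pl g.left c) := by
  have := h.int
  have := h.inj
  have := h.sur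
  have := h'.int
  have := h'.inj
  have := h'.sur
  exact PicZ.map_picZ g c.toMul

variable {k : Type u} [CommRing k] (f : X ⟶ Spec (CommRingCat.of k)) (K : Type u) [CommRing K]
  [Algebra k K] {C C' : Type u} [CommRing C] [Algebra k C] [CommRing C'] [Algebra k C']

theorem pz_PD (h : ∀ n, IsUH (Zn f K C n).hom) (n : ℕ) (x : Additive (Pic (Zn f K C n).left)) :
    Sheaf.H.map (DG f K C n) 1 (pz _ (h n) x) = pz _ (h (n + 1)) (PD f K C n x) := by
  rw [DG, D, pm_sum_left, PD, alt_apply, map_sum]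
  refine Finset.sum_congr rfl fun i _ => ?_
  rw [map_zsmul, map_pz (h n) (h (n + 1))]

theorem pz_pe (φ : C →ₐ[k] C') (h : ∀ n, IsUH (Zn f K C n).hom) (h' : ∀ n, IsUH (Zn f K C' n).hom) (n : ℕ)
    (x : Additive (Pic (Zn f K C n).left)) :
    Sheaf.H.map (gmap (ze f K φ n)) 1 (pz _ (h n) x) = pz _ (h' n) (pe f K φ n x) :=
  map_pz (h n) (h' n) _ x

end Coh

end K349.PicTow
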