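import Groth.Agent.Dix.K349.TorsZ

/-!
# `H¹(X, GG Z) ≃ Pic Z`: naturality and bijectivity
-/

set_option autoImplicit false
set_option linter.unusedSectionVars false
universe u

open CategoryTheory CategoryTheory.Limits AlgebraicGeometry Opposite TopologicalSpace

namespace K349.PicZ

open Groth.Agent.Fdesc.LocGen Groth.Agent.CurvesA.GmSect Groth.Agent.CurvesA.PicOfH1
open Groth.Agent.CurvesA.H1OfPic Groth.Agent.CurvesA.TorsorCls Groth.Agent.CurvesA.TorsorOps
open Groth.Agent.CurvesA.H1GmPic Groth.Agent.CurvesA.LiftsTorsor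
open Groth.Agent.CurvesA.Torsor (DiffMap supp)
open Groth.Agent.Grpsch
open K349.GGFun K349.TorsZ

section Pull

variable {Y Y' W : Scheme.{u}} {L : Y.Modules}

/-- pull back of local generators -/
noncomputable def genPull (g : Y' ⟶ Y) (p : Gen L) : Gen ((Scheme.Modules.pullback g).obj L) :=
  ⟨g ⁻¹ᵁ p.U, pullSec g p.e, p.gen.pullSec g⟩

theorem ratio_pull {h : W ⟶ Y'} {g : Y' ⟶ Y} {p q : Gen L} {u : (Γ(W, ⊤))ˣ} (hu : Ratio (h ≫ g) p q u) :
    Ratio h (genPull g p) (genPull g q) u := by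
  obtain ⟨V, hp, hq, hV, a, ha, hau⟩ := hu
  refine ⟨g ⁻¹ᵁ V, g.preimage_mono hp, g.preimage_mono hq, hV, g.app V a, ?_, ?_⟩
  · have h1 := congrArg (pullSec g) ha
    rw [pullSec_smul, ← res_pullSec, ← res_pullSec] at h1
    exact h1
  · rw [← hau]
    have hV' : ⊤ ≤ h ⁻¹ᵁ (g ⁻¹ᵁ V) := hV
    have h2 : g.app V ≫ h.appLE (g ⁻¹ᵁ V) ⊤ hV' = (h ≫ g).appLE V ⊤ hV := by
      rw [Scheme.Hom.app_eq_appLE, Scheme.Hom.appLE_comp_appLE]
    exact congr($h2 a)

theorem ratio_congr {h h' : W ⟶ Y} (e : h = h') {p q : Gen L} {u : (Γ(W, ⊤))ˣ} (hu : Ratio h p q u) :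
    Ratio h' p q u := by
  subst e
  exact hu

end Pull

variable {X : Scheme.{u}}

section Nat

variable {Z Z' : Over X} [IsIntegralHom Z.hom] [UniversallyInjective Z.hom] [Surjective Z.hom]
  [IsIntegralHom Z'.hom] [UniversallyInjective Z'.hom] [Surjective Z'.hom]

/-- naturality of the class -/
theorem map_clsZ (g : Z' ⟶ Z) (L : Z.left.Modules) (hL : PicF.IsInvertible L)
    (hL' : PicF.IsInvertible ((Scheme.Modules.pullback g.left).obj L)) :
    Sheaf.H.map (gmap g) 1 (clsZ Z L hL) = clsZ Z' ((Scheme.Modules.pullback g.left).obj L) hL' := by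
  rw [clsZ, map_clsOf]
  have hα : ∀ (U : X.Etaleᵒᵖ) (p : (PZ Z L).obj U), ⊤ ≤ (sn Z' U.unop) ⁻¹ᵁ (genPull g.left p.down.1).U := by
    intro U p v _
    change g.left (sn Z' U.unop v) ∈ p.down.1.U
    rw [← Scheme.Hom.comp_apply, ← zm_sn g U.unop, Scheme.Hom.comp_apply]
    exact p.down.2 (x := zm g U.unop v) trivial
  refine clsOf_congr (hTop X) (DZ Z' _) (pushD (gmap g).hom (DZ Z L))
    (fun U p => ⟨⟨genPull g.left p.down.1, hα U p⟩⟩) (fun _ _ => rfl) ?_ _ _
  intro U p q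
  symm
  refine DZ_unique Z' _ U.unop ⟨⟨genPull g.left p.down.1, hα U p⟩⟩ ⟨⟨genPull g.left q.down.1, hα U q⟩⟩ _ ?_
  have h1 := (DZ_spec Z L U.unop p q).comp (zm g U.unop)
  exact ratio_pull (ratio_congr (zm_sn g U.unop) h1)

end Nat

section Bij

variable (Z : Over X) [IsIntegralHom Z.hom] [UniversallyInjective Z.hom] [Surjective Z.hom]

/-- an embedding of `𝔾ₘ` in an injective sheaf, pushed forward -/
noncomputable abbrev canZ : ShortComplex (EtCoh.Ab X) := (can (EtCoh.Gm Z.left)).map (EtCoh.push Z.hom)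

instance : PreservesFiniteColimits (EtCoh.push Z.hom) :=
  Groth.Agent.Sga4A.EtSplit.preservesFiniteColimits_push Z.hom

theorem hcanZ : (canZ Z).ShortExact := (can_shortExact (EtCoh.Gm Z.left)).map_of_exact (EtCoh.push Z.hom)

instance : Injective (canZ Z).X₂ := by
  have : PreservesFiniteLimits (EtCoh.pull Z.hom) := Groth.Agent.S0101.result _
  exact Injective.injective_of_adjoint (EtCoh.pullPushAdj Z.hom) (can (EtCoh.Gm Z.left)).X₂

/-- the chart on `X` of a chart on `Z` -/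
noncomputable def chartZ {L : Z.left.Modules} (c : Chart (can (EtCoh.Gm Z.left)) (D L)) : Chart (canZ Z) (DZ Z L) where
  φ U p := c.φ (op ((EtCoh.bc Z.hom).obj U.unop)) p
  nat g p := c.nat ((EtCoh.bc Z.hom).map g.unop).op p
  diff U p q := c.diff (op ((EtCoh.bc Z.hom).obj U.unop)) p q

theorem isSec_chartZ {L : Z.left.Modules} (c : Chart (can (EtCoh.Gm Z.left)) (D L))
    (q : (can (EtCoh.Gm Z.left)).X₃.obj.obj (op ((EtCoh.bc Z.hom).obj (EtCoh.top X))))
    (hq : IsSec (EtCore.bcTopIsTerminal Z.hom) c q) : IsSec (hTop X) (chartZ Z c) q := by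
  intro U p
  refine (hq ((EtCoh.bc Z.hom).obj U) p).trans ?_
  have h1 : (EtCore.bcTopIsTerminal Z.hom).from ((EtCoh.bc Z.hom).obj U) =
      (EtCoh.bc Z.hom).map ((hTop X).from U) := (EtCore.bcTopIsTerminal Z.hom).hom_ext _ _
  rw [h1]
  rfl

theorem clsZ_eq_dl (L : Z.left.Modules) (hL : PicF.IsInvertible L) (c : Chart (can (EtCoh.Gm Z.left)) (D L))
    (q : (can (EtCoh.Gm Z.left)).X₃.obj.obj (op ((EtCoh.bc Z.hom).obj (EtCoh.top X))))
    (hq : IsSec (EtCore.bcTopIsTerminal Z.hom) c q) : clsZ Z L hL = dl (hcanZ Z) (hTop X) q :=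
  (dl_eq_clsOf (hTop X) (hcanZ Z) (chartZ Z c) (isSec_chartZ Z c q hq) (supp_mem' Z hL (EtCoh.top X))).symm

theorem nonempty_iso_of_clsZ_eq_zero (L : Z.left.Modules) (hL : PicF.IsInvertible L) (h0 : clsZ Z L hL = 0) :
    Nonempty (L ≅ Coh.structureModule Z.left) := by
  let hT := EtCore.bcTopIsTerminal Z.hom
  have hP := supp_mem hL ((EtCoh.bc Z.hom).obj (EtCoh.top X))
  obtain ⟨c⟩ := exists_chart (S := can (EtCoh.Gm Z.left)) (D L)
  obtain ⟨q, hq⟩ := exists_isSec hT c hP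
  have h0 := (dl_eq_zero_iff (hcanZ Z) (hTop X) q).1 ((clsZ_eq_dl Z L hL c q hq).symm.trans h0)
  have h1 : clsOf hT (EtCoh.Gm Z.left) (D L) hP = 0 := by
    rw [← dl_eq_clsOf hT (can_shortExact (EtCoh.Gm Z.left)) c hq hP, dl_eq_zero_iff]
    exact h0
  rw [clsOf_eq_zero_iff] at h1
  apply nonempty_iso_of_clsL_eq_zero L hL
  rw [clsL, clsOf_eq_zero_iff]
  exact h1

/-- the section over another terminal object -/
theorem isSec_of_isSec {L : Z.left.Modules} (c : Chart (can (EtCoh.Gm Z.left)) (D L))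
    (q : (can (EtCoh.Gm Z.left)).X₃.obj.obj (op (EtCoh.top Z.left))) (hq : IsSec (hTop Z.left) c q) :
    IsSec (EtCore.bcTopIsTerminal Z.hom) c
      ((can (EtCoh.Gm Z.left)).X₃.obj.map ((hTop Z.left).from ((EtCoh.bc Z.hom).obj (EtCoh.top X))).op q) := by
  intro U p
  refine (hq U p).trans ?_
  rw [← ConcreteCategory.comp_apply, ← Functor.map_comp, ← op_comp]
  rw [(hTop Z.left).hom_ext ((EtCore.bcTopIsTerminal Z.hom).from U ≫ (hTop Z.left).from _) ((hTop Z.left).from U)]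

theorem exists_clsZ_eq (x : EtCoh.H X (GG Z) 1) : ∃ (L : Z.left.Modules) (hL : PicF.IsInvertible L),
    clsZ Z L hL = x := by
  obtain ⟨q, rfl⟩ := dl_surjective (hcanZ Z) (hTop X) x
  let T' := (EtCoh.bc Z.hom).obj (EtCoh.top X)
  let ι : T' ⟶ EtCoh.top Z.left := (hTop Z.left).from T'
  have hι : IsIso ι := isIso_of_isTerminal (EtCore.bcTopIsTerminal Z.hom) (hTop Z.left) ι
  obtain ⟨q₀, hq₀⟩ : ∃ q₀ : (can (EtCoh.Gm Z.left)).X₃.obj.obj (op (EtCoh.top Z.left)),
      (can (EtCoh.Gm Z.left)).X₃.obj.map ι.op q₀ = q :=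
    (ConcreteCategory.bijective_of_isIso ((can (EtCoh.Gm Z.left)).X₃.obj.map ι.op)).2 q
  obtain ⟨L, hL, hLq⟩ := exists_clsL_eq (dl (can_shortExact (EtCoh.Gm Z.left)) (hTop Z.left) q₀)
  obtain ⟨c⟩ := exists_chart (S := can (EtCoh.Gm Z.left)) (D L)
  obtain ⟨q₁, hq₁⟩ := exists_isSec (hTop Z.left) c (supp_mem hL (EtCoh.top Z.left))
  have h1 : dl (can_shortExact (EtCoh.Gm Z.left)) (hTop Z.left) q₁ =
      dl (can_shortExact (EtCoh.Gm Z.left)) (hTop Z.left) q₀ := by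
    rw [← hLq]
    exact dl_eq_clsOf (hTop Z.left) (can_shortExact (EtCoh.Gm Z.left)) c hq₁ _
  rw [dl_eq_iff] at h1
  obtain ⟨s, hs⟩ := h1
  refine ⟨L, hL, ?_⟩
  refine (clsZ_eq_dl Z L hL c _ (isSec_of_isSec Z c q₁ hq₁)).trans ?_
  refine (dl_eq_iff (hcanZ Z) (hTop X) _ _).2 ⟨(can (EtCoh.Gm Z.left)).X₂.obj.map ι.op s, ?_⟩
  refine (g_nat (can (EtCoh.Gm Z.left)) ι.op s).trans ?_
  rw [hs, map_sub, hq₀]
  rfl

/-- The class of an element of the Picard group. -/
noncomputable def clsPicZ (c : PicGrp.Pic Z.left) : EtCoh.H X (GG Z) 1 :=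
  Quotient.lift (s := PicGrp.isoSetoid Z.left) (fun L => clsZ Z L.1 L.2)
    (fun L M h => clsZ_congr Z L.2 M.2 h.some) c

theorem clsPicZ_mk (L : Z.left.Modules) (hL : PicF.IsInvertible L) :
    clsPicZ Z (PicGrp.mk L hL) = clsZ Z L hL := rfl

theorem clsPicZ_mul (a b : PicGrp.Pic Z.left) : clsPicZ Z (a * b) = clsPicZ Z a + clsPicZ Z b := by
  induction a using PicGrp.ind with | _ L hL => ?_
  induction b using PicGrp.ind with | _ M hM => ?_
  exact clsZ_tens Z hL hM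

/-- The homomorphism `Pic Z → H¹(X, GG Z)`. -/
noncomputable def homZ : Additive (PicGrp.Pic Z.left) →+ EtCoh.H X (GG Z) 1 :=
  AddMonoidHom.mk' (fun c => clsPicZ Z (Additive.toMul c)) (fun _ _ => clsPicZ_mul Z _ _)

theorem homZ_bijective : Function.Bijective (homZ Z) := by
  constructor
  · rw [injective_iff_map_eq_zero]
    intro c hc
    change Additive.toMul c = 1
    revert hc
    change clsPicZ Z (Additive.toMul c) = 0 → _
    generalize Additive.toMul c = c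
    intro hc
    induction c using PicGrp.ind with | _ L hL => ?_
    rw [PicGrp.mk_eq_one_iff]
    exact nonempty_iso_of_clsZ_eq_zero Z L hL hc
  · intro x
    obtain ⟨L, hL, rfl⟩ := exists_clsZ_eq Z x
    exact ⟨Additive.ofMul (PicGrp.mk L hL), rfl⟩

/-- `Pic Z ≃+ H¹(X, GG Z)` -/
noncomputable def picZ : Additive (PicGrp.Pic Z.left) ≃+ EtCoh.H X (GG Z) 1 :=
  AddEquiv.ofBijective (homZ Z) (homZ_bijective Z)

end Bij

section NatPic

variable {Z Z' : Over X} [IsIntegralHom Z.hom] [UniversallyInjective Z.hom] [Surjective Z.hom]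
  [IsIntegralHom Z'.hom] [UniversallyInjective Z'.hom] [Surjective Z'.hom]

/-- naturality -/
theorem map_picZ (g : Z' ⟶ Z) (c : PicGrp.Pic Z.left) :
    Sheaf.H.map (gmap g) 1 (picZ Z (Additive.ofMul c)) = picZ Z' (Additive.ofMul (PicGrp.pull g.left c)) := by
  induction c using PicGrp.ind with | _ L hL => ?_
  exact map_clsZ g L hL (isInvertible_pullback g.left hL)

end NatPic

end K349.PicZ
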