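import Groth.Agent.Dix.K349.GGFun
import Groth.Agent.CurvesA.H1GmPicSurj
import Groth.Agent.Sga4A.IntegralSection
import Groth.Agent.S0101
import Groth.Prelude.Def_EtCore
import Mathlib.AlgebraicGeometry.Morphisms.UniversallyInjective

/-!
# `H¹(X, GG Z) ≃ Pic Z` for `Z ⟶ X` integral and universally bijective, naturally in `Z`
-/

set_option autoImplicit false
universe u

open CategoryTheory CategoryTheory.Limits AlgebraicGeometry Opposite TopologicalSpace

namespace K349.TorsZ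

open Groth.Agent.Fdesc.LocGen Groth.Agent.CurvesA.GmSect Groth.Agent.CurvesA.PicOfH1
open Groth.Agent.CurvesA.H1OfPic Groth.Agent.CurvesA.TorsorCls Groth.Agent.CurvesA.TorsorOps
open Groth.Agent.CurvesA.H1GmPic Groth.Agent.CurvesA.LiftsTorsor
open Groth.Agent.CurvesA.Torsor (DiffMap supp)
open Groth.Agent.Grpsch
open K349.GGFun

variable {X : Scheme.{u}} (Z : Over X)

/-- local generators over étale schemes over `X` -/
noncomputable abbrev PZ (L : Z.left.Modules) : X.Etaleᵒᵖ ⥤ Type (u + 1) := (EtCoh.bc Z.hom).op ⋙ P L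

/-- the torsor of local generators -/
noncomputable def DZ (L : Z.left.Modules) : DiffMap (GG Z).obj (PZ Z L) where
  d U p q := (D L).d (op ((EtCoh.bc Z.hom).obj U.unop)) p q
  d_add _ p q r := (D L).d_add _ p q r
  d_map g p q := (D L).d_map ((EtCoh.bc Z.hom).map g.unop).op p q

theorem DZ_spec (L : Z.left.Modules) (U : X.Etale) (p q : (PZ Z L).obj (op U)) :
    Ratio (sn Z U) p.down.1 q.down.1 (uA Z U ((DZ Z L).d (op U) p q)).toMul :=
  D_spec (op ((EtCoh.bc Z.hom).obj U)) p q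

theorem DZ_unique (L : Z.left.Modules) (U : X.Etale) (p q : (PZ Z L).obj (op U)) (a : EtCoh.sect (GG Z) U)
    (h : Ratio (sn Z U) p.down.1 q.down.1 (uA Z U a).toMul) : (DZ Z L).d (op U) p q = a := by
  apply (uA Z U).injective
  apply Additive.toMul.injective
  exact (DZ_spec Z L U p q).unique h

section Top

variable [IsIntegralHom Z.hom] [UniversallyInjective Z.hom] [Surjective Z.hom]

theorem supp_mem' {L : Z.left.Modules} (hL : PicF.IsInvertible L) (T : X.Etale) :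
    supp (PZ Z L) T ∈ X.smallEtaleTopology T := by
  rw [Groth.Agent.Etbase.EtSite.mem_iff]
  intro x
  have hsq := isPullback_zu Z T
  have hint : IsIntegralHom (fs Z T) := MorphismProperty.of_isPullback (P := @IsIntegralHom) hsq.flip inferInstance
  have hinj : UniversallyInjective (fs Z T) :=
    MorphismProperty.of_isPullback (P := @UniversallyInjective) hsq.flip inferInstance
  have hsur : Surjective (fs Z T) := MorphismProperty.of_isPullback (P := @Surjective) hsq.flip inferInstance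
  obtain ⟨y, rfl⟩ := (fs Z T).surjective x
  obtain ⟨U, e, hx, he⟩ := (isInvertible_iff L).mp hL (sn Z T y)
  let O : (zu Z T).Opens := (sn Z T) ⁻¹ᵁ U
  have hcl : IsClosed ((fs Z T) '' ((O : Set (zu Z T))ᶜ)) :=
    (fs Z T).isClosedMap _ O.isOpen.isClosed_compl
  let W : T.left.Opens := ⟨((fs Z T) '' ((O : Set (zu Z T))ᶜ))ᶜ, hcl.isOpen_compl⟩
  have hyW : fs Z T y ∈ W := by
    rintro ⟨y', hy', hyy⟩
    have : y' = y := (fs Z T).injective hyy
    subst this
    exact hy' hx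
  let th : T.left ⟶ X := T.hom
  have hth : Etale th := T.prop
  let V : X.Etale := Scheme.Etale.mk (W.ι ≫ th)
  let r : V ⟶ T := MorphismProperty.Over.homMk W.ι rfl trivial
  refine ⟨V, r, ⟨fs Z T y, hyW⟩, ?_, rfl⟩
  refine ⟨⟨⟨⟨U, e, he⟩, ?_⟩⟩⟩
  intro v _
  change sn Z V v ∈ U
  have h1 : sn Z V v = sn Z T (zr Z r v) := by
    rw [← Scheme.Hom.comp_apply, zr_sn]
  rw [h1]
  by_contra hv
  have h2 : fs Z T (zr Z r v) ∈ W := by
    rw [← Scheme.Hom.comp_apply, zr_fs, Scheme.Hom.comp_apply]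
    exact (fs Z V v).2
  exact h2 ⟨_, hv, rfl⟩

/-- the class in `H¹(X, GG Z)` of an invertible module on `Z` -/
noncomputable def clsZ (L : Z.left.Modules) (hL : PicF.IsInvertible L) : EtCoh.H X (GG Z) 1 :=
  clsOf (hTop X) (GG Z) (DZ Z L) (supp_mem' Z hL (EtCoh.top X))

theorem clsZ_congr {L M : Z.left.Modules} (hL : PicF.IsInvertible L) (hM : PicF.IsInvertible M)
    (e : L ≅ M) : clsZ Z L hL = clsZ Z M hM := by
  refine clsOf_congr (hTop X) (DZ Z M) (DZ Z L) (fun V p => ⟨⟨Gen.map e p.down.1, p.down.2⟩⟩)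
    (fun f p => rfl) ?_ _ _
  intro V p q
  symm
  exact DZ_unique Z M V.unop ⟨⟨Gen.map e p.down.1, p.down.2⟩⟩ ⟨⟨Gen.map e q.down.1, q.down.2⟩⟩ _
    (Ratio.map e (DZ_spec Z L V.unop p q))

theorem clsZ_tens {L M : Z.left.Modules} (hL : PicF.IsInvertible L) (hM : PicF.IsInvertible M) :
    clsZ Z (CohB1.tensorMod L M) (isInvertible_tensorMod hL hM) = clsZ Z L hL + clsZ Z M hM := by
  refine Eq.trans (Eq.symm ?_) (clsOf_prodD (hTop X) (DZ Z L) (DZ Z M) (supp_mem' Z hL (EtCoh.top X))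
    (supp_mem' Z hM (EtCoh.top X)))
  refine clsOf_congr (hTop X) (DZ Z (CohB1.tensorMod L M)) (prodD (DZ Z L) (DZ Z M))
    (fun V p => ⟨⟨Gen.tens p.1.down.1 p.2.down.1, fun y hy => ⟨p.1.down.2 hy, p.2.down.2 hy⟩⟩⟩)
    (fun f p => rfl) ?_ _ _
  intro V p q
  symm
  refine DZ_unique Z (CohB1.tensorMod L M) V.unop
    ⟨⟨Gen.tens p.1.down.1 p.2.down.1, fun y hy => ⟨p.1.down.2 hy, p.2.down.2 hy⟩⟩⟩
    ⟨⟨Gen.tens q.1.down.1 q.2.down.1, fun y hy => ⟨q.1.down.2 hy, q.2.down.2 hy⟩⟩⟩ _ ?_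
  exact Ratio.tens (DZ_spec Z L V.unop p.1 q.1) (DZ_spec Z M V.unop p.2 q.2)

end Top

end K349.TorsZ
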