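import Groth.Agent.Dix.K349.Amit
import Groth.Agent.Dix.K349.GGFun
import Groth.Agent.Fga.RigGrp
import Groth.Agent.Picfga.HilbPull

/-!
# The schemes `X × Spec (K ⊗ … ⊗ K ⊗ C)`

`sO k C` is `Spec C` over `Spec k`; `ZZ f T` is `X_T` as a scheme over `X`; `Zn f K C n = X × Spec (E k K C n)` with faces
`zd` and functoriality `ze` in `C`.
-/

set_option autoImplicit false

universe u

open CategoryTheory CategoryTheory.Limits AlgebraicGeometry Opposite TensorProduct

namespace K349.Tow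

open K349.Amit K349.GGFun K998.UnitCx

section SO

variable {k : Type u} [CommRing k]

/-- `Spec C` over `Spec k`. -/
noncomputable abbrev sO (k : Type u) [CommRing k] (C : Type u) [CommRing C] [Algebra k C] :
    Over (Spec (CommRingCat.of k)) :=
  Over.mk (Spec.map (CommRingCat.ofHom (algebraMap k C)))

variable {C C' C'' : Type u} [CommRing C] [Algebra k C] [CommRing C'] [Algebra k C'] [CommRing C''] [Algebra k C'']

/-- morphisms -/
noncomputable def sM (φ : C →ₐ[k] C') : sO k C' ⟶ sO k C :=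
  Over.homMk (Spec.map (CommRingCat.ofHom φ.toRingHom)) (by
    change Spec.map _ ≫ Spec.map _ = Spec.map _
    rw [← Spec.map_comp, ← CommRingCat.ofHom_comp]
    congr 2
    exact φ.comp_algebraMap)

theorem sM_left (φ : C →ₐ[k] C') : (sM φ).left = Spec.map (CommRingCat.ofHom φ.toRingHom) := rfl

theorem sM_id : sM (AlgHom.id k C) = 𝟙 (sO k C) := by
  apply Over.OverMorphism.ext
  exact Spec.map_id _

theorem sM_comp (φ : C →ₐ[k] C') (ψ : C' →ₐ[k] C'') : sM ψ ≫ sM φ = sM (ψ.comp φ) := by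
  apply Over.OverMorphism.ext
  change Spec.map _ ≫ Spec.map _ = Spec.map _
  rw [← Spec.map_comp]
  rfl

end SO

section ZZ

variable {X S : Scheme.{u}} (f : X ⟶ S)

/-- `X_T` over `X`. -/
noncomputable abbrev ZZ (T : Over S) : Over X := Over.mk (pullback.fst f T.hom)

variable {T T' T'' : Over S}

/-- functoriality -/
noncomputable def ZM (g : T' ⟶ T) : ZZ f T' ⟶ ZZ f T :=
  Over.homMk (PicF.XTmap f g) (Groth.Agent.Fga.RigGrp.XTmap_fst f g)

theorem ZM_left (g : T' ⟶ T) : (ZM f g).left = PicF.XTmap f g := rfl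

theorem ZM_id : ZM f (𝟙 T) = 𝟙 _ := by
  apply Over.OverMorphism.ext
  exact Groth.Agent.Picfga.HilbPull.XTmap_id f T

theorem ZM_comp (g : T' ⟶ T) (h : T'' ⟶ T') : ZM f h ≫ ZM f g = ZM f (h ≫ g) := by
  apply Over.OverMorphism.ext
  exact (Groth.Agent.Picfga.HilbPull.XTmap_comp f h g).symm

end ZZ

section Tower

variable {k : Type u} [CommRing k] {X : Scheme.{u}} (f : X ⟶ Spec (CommRingCat.of k)) (K : Type u) [CommRing K]
  [Algebra k K]

/-- `X × Spec (K ⊗ … ⊗ C)` -/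
noncomputable abbrev Zn (C : Type u) [CommRing C] [Algebra k C] (n : ℕ) : Over X := ZZ f (sO k (E k K C n))

/-- faces -/
noncomputable def zd (C : Type u) [CommRing C] [Algebra k C] (n : ℕ) (i : Fin (n + 1)) :
    Zn f K C (n + 1) ⟶ Zn f K C n := ZM f (sM (d k K C n i))

variable {C C' C'' : Type u} [CommRing C] [Algebra k C] [CommRing C'] [Algebra k C'] [CommRing C''] [Algebra k C'']

/-- functoriality in `C` -/
noncomputable def ze (φ : C →ₐ[k] C') (n : ℕ) : Zn f K C' n ⟶ Zn f K C n := ZM f (sM (em k K φ n))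

theorem zd_zd (n : ℕ) (j : Fin (n + 2)) (i : Fin (n + 1)) :
    zd f K C (n + 1) j ≫ zd f K C n i = zd f K C (n + 1) (j.succAbove i) ≫ zd f K C n (i.predAbove j) := by
  rw [zd, zd, zd, zd, ZM_comp, ZM_comp, sM_comp, sM_comp, simpl k K C n j i]

theorem ze_zd (φ : C →ₐ[k] C') (n : ℕ) (i : Fin (n + 1)) :
    ze f K φ (n + 1) ≫ zd f K C n i = zd f K C' n i ≫ ze f K φ n := by
  rw [ze, ze, zd, zd, ZM_comp, ZM_comp, sM_comp, sM_comp, em_d]

theorem ze_id (n : ℕ) : ze f K (AlgHom.id k C) n = 𝟙 _ := by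
  rw [ze, em_id, sM_id, ZM_id]

theorem ze_ze (φ : C →ₐ[k] C') (ψ : C' →ₐ[k] C'') (n : ℕ) : ze f K ψ n ≫ ze f K φ n = ze f K (ψ.comp φ) n := by
  rw [ze, ze, ze, ZM_comp, sM_comp, em_comp]

/-- the differentials of sheaves on `X` -/
noncomputable def DG (C : Type u) [CommRing C] [Algebra k C] (n : ℕ) : GG (Zn f K C n) ⟶ GG (Zn f K C (n + 1)) :=
  D (zd f K C n)

theorem DG_DG (n : ℕ) : DG f K C n ≫ DG f K C (n + 1) = 0 := D_D _ _ (zd_zd f K n)

theorem gmap_DG (φ : C →ₐ[k] C') (n : ℕ) :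
    gmap (ze f K φ n) ≫ DG f K C' n = DG f K C n ≫ gmap (ze f K φ (n + 1)) :=
  gmap_D _ _ _ _ (fun i => ze_zd f K φ n i)

end Tower

end K349.Tow
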