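import Groth.Agent.Dix.K349.Tow

/-!
# Base change squares for `X × Spec (K ⊗ … ⊗ C)` in `C`

`inn n : C → E k K C n` the last inclusion; for `φ : C → C'` the square `E C → E C'`, `C → C'` is cocartesian
(`isPushout_em`), hence `Zn C' n → Zn C n` is the base change of `Spec C' → Spec C` (`isPullback_ze`).
-/

set_option autoImplicit false
set_option backward.isDefEq.respectTransparency false
set_option backward.isDefEq.respectTransparency.types false

universe u

open CategoryTheory CategoryTheory.Limits AlgebraicGeometry Opposite TensorProduct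

namespace K349.Tow2

open K349.Amit K349.GGFun K349.Tow K998.UnitCx

section Alg

variable (k K C : Type u) [CommRing k] [CommRing K] [CommRing C] [Algebra k K] [Algebra k C]

/-- the last inclusion -/
noncomputable def inn : (n : ℕ) → (C →ₐ[k] E k K C n)
  | 0 => AlgHom.id k C
  | n + 1 => (Algebra.TensorProduct.includeRight : E k K C n →ₐ[k] K ⊗[k] E k K C n).comp (inn n)

theorem inn_zero : inn k K C 0 = AlgHom.id k C := rfl

theorem inn_succ_apply (n : ℕ) (c : C) : inn k K C (n + 1) c = (1 : K) ⊗ₜ[k] inn k K C n c := rfl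

theorem d_inn_apply : ∀ (n : ℕ) (i : Fin (n + 1)) (c : C), d k K C n i (inn k K C n c) = inn k K C (n + 1) c
  | n, i, c => by
    induction i using Fin.cases with
    | zero => rw [d_zero_apply, inn_succ_apply]
    | succ i' =>
      match n, i' with
      | n' + 1, i' =>
        rw [inn_succ_apply, d_succ_tmul, d_inn_apply n' i' c]
        rfl

theorem d_inn (n : ℕ) (i : Fin (n + 1)) : (d k K C n i).comp (inn k K C n) = inn k K C (n + 1) :=
  AlgHom.ext fun c => d_inn_apply k K C n i c

variable {k K C} {C' : Type u} [CommRing C'] [Algebra k C']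

theorem em_inn_apply (φ : C →ₐ[k] C') : ∀ (n : ℕ) (c : C), em k K φ n (inn k K C n c) = inn k K C' n (φ c)
  | 0, c => rfl
  | n + 1, c => by
    rw [inn_succ_apply, em_succ_tmul, em_inn_apply φ n c]
    rfl

theorem em_inn (φ : C →ₐ[k] C') (n : ℕ) : (em k K φ n).comp (inn k K C n) = (inn k K C' n).comp φ :=
  AlgHom.ext fun c => em_inn_apply φ n c

variable (K) in
theorem isPushout_map {F F' : Type u} [CommRing F] [Algebra k F] [CommRing F'] [Algebra k F'] (ψ : F →ₐ[k] F') :
    IsPushout (CommRingCat.ofHom ψ.toRingHom)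
      (CommRingCat.ofHom (Algebra.TensorProduct.includeRight : F →ₐ[k] K ⊗[k] F).toRingHom)
      (CommRingCat.ofHom (Algebra.TensorProduct.includeRight : F' →ₐ[k] K ⊗[k] F').toRingHom)
      (CommRingCat.ofHom (Algebra.TensorProduct.map (AlgHom.id k K) ψ : K ⊗[k] F →ₐ[k] K ⊗[k] F').toRingHom) := by
  have h3 : IsPushout (CommRingCat.ofHom (algebraMap k F)) (CommRingCat.ofHom (algebraMap k K))
      (CommRingCat.ofHom (Algebra.TensorProduct.includeRight : F →ₐ[k] K ⊗[k] F).toRingHom)
      (CommRingCat.ofHom (Algebra.TensorProduct.includeLeftRingHom : K →+* K ⊗[k] F)) :=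
    (CommRingCat.isPushout_tensorProduct k K F).flip
  have h4 : IsPushout (CommRingCat.ofHom (algebraMap k F')) (CommRingCat.ofHom (algebraMap k K))
      (CommRingCat.ofHom (Algebra.TensorProduct.includeRight : F' →ₐ[k] K ⊗[k] F').toRingHom)
      (CommRingCat.ofHom (Algebra.TensorProduct.includeLeftRingHom : K →+* K ⊗[k] F')) :=
    (CommRingCat.isPushout_tensorProduct k K F').flip
  have h5 : CommRingCat.ofHom (algebraMap k F) ≫ CommRingCat.ofHom ψ.toRingHom =
      CommRingCat.ofHom (algebraMap k F') := by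
    rw [← CommRingCat.ofHom_comp]
    congr 1
    exact ψ.comp_algebraMap
  have h6 : CommRingCat.ofHom (Algebra.TensorProduct.includeLeftRingHom : K →+* K ⊗[k] F) ≫
      CommRingCat.ofHom (Algebra.TensorProduct.map (AlgHom.id k K) ψ : K ⊗[k] F →ₐ[k] K ⊗[k] F').toRingHom =
      CommRingCat.ofHom (Algebra.TensorProduct.includeLeftRingHom : K →+* K ⊗[k] F') := by
    rw [← CommRingCat.ofHom_comp]
    congr 1
    ext a
    change Algebra.TensorProduct.map (AlgHom.id k K) ψ (a ⊗ₜ[k] 1) = a ⊗ₜ[k] 1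
    rw [Algebra.TensorProduct.map_tmul, map_one]
    rfl
  have h7 : CommRingCat.ofHom ψ.toRingHom ≫ CommRingCat.ofHom
      (Algebra.TensorProduct.includeRight : F' →ₐ[k] K ⊗[k] F').toRingHom =
      CommRingCat.ofHom (Algebra.TensorProduct.includeRight : F →ₐ[k] K ⊗[k] F).toRingHom ≫
      CommRingCat.ofHom (Algebra.TensorProduct.map (AlgHom.id k K) ψ : K ⊗[k] F →ₐ[k] K ⊗[k] F').toRingHom := by
    rw [← CommRingCat.ofHom_comp, ← CommRingCat.ofHom_comp]
    congr 1
  have h8 : IsPushout (CommRingCat.ofHom (algebraMap k F) ≫ CommRingCat.ofHom ψ.toRingHom)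
      (CommRingCat.ofHom (algebraMap k K))
      (CommRingCat.ofHom (Algebra.TensorProduct.includeRight : F' →ₐ[k] K ⊗[k] F').toRingHom)
      (CommRingCat.ofHom (Algebra.TensorProduct.includeLeftRingHom : K →+* K ⊗[k] F) ≫
      CommRingCat.ofHom (Algebra.TensorProduct.map (AlgHom.id k K) ψ : K ⊗[k] F →ₐ[k] K ⊗[k] F').toRingHom) := by
    rw [h5, h6]
    exact h4
  exact IsPushout.of_left h8 h7 h3

theorem isPushout_em (φ : C →ₐ[k] C') : ∀ n : ℕ, IsPushout (CommRingCat.ofHom φ.toRingHom)
    (CommRingCat.ofHom (inn k K C n).toRingHom) (CommRingCat.ofHom (inn k K C' n).toRingHom)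
    (CommRingCat.ofHom (em k K φ n).toRingHom)
  | 0 => by
    have h1 : IsIso (CommRingCat.ofHom (inn k K C 0).toRingHom) := inferInstanceAs (IsIso (𝟙 (CommRingCat.of C)))
    have h2 : IsIso (CommRingCat.ofHom (inn k K C' 0).toRingHom) := inferInstanceAs (IsIso (𝟙 (CommRingCat.of C')))
    exact IsPushout.of_vert_isIso ⟨rfl⟩
  | n + 1 => (isPushout_em φ n).paste_vert (isPushout_map K (em k K φ n))

end Alg

section Geom

variable {k : Type u} [CommRing k] {X : Scheme.{u}} (f : X ⟶ Spec (CommRingCat.of k)) (K : Type u) [CommRing K]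
  [Algebra k K]

/-- to `Spec C` -/
noncomputable def pC (C : Type u) [CommRing C] [Algebra k C] (n : ℕ) :
    (Zn f K C n).left ⟶ Spec (CommRingCat.of C) :=
  PicF.XTproj f (sO k (E k K C n)) ≫ Spec.map (CommRingCat.ofHom (inn k K C n).toRingHom)

variable {C C' : Type u} [CommRing C] [Algebra k C] [CommRing C'] [Algebra k C']

theorem isPullback_spec (φ : C →ₐ[k] C') (n : ℕ) :
    IsPullback (Spec.map (CommRingCat.ofHom (em k K φ n).toRingHom))
      (Spec.map (CommRingCat.ofHom (inn k K C' n).toRingHom))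
      (Spec.map (CommRingCat.ofHom (inn k K C n).toRingHom)) (Spec.map (CommRingCat.ofHom φ.toRingHom)) :=
  (isPullback_SpecMap_of_isPushout _ _ _ _ (isPushout_em φ n)).flip

theorem isPullback_ze (φ : C →ₐ[k] C') (n : ℕ) : IsPullback (ze f K φ n).left (pC f K C' n) (pC f K C n)
    (Spec.map (CommRingCat.ofHom φ.toRingHom)) := by
  have h1 : IsPullback (ze f K φ n).left (PicF.XTproj f (sO k (E k K C' n))) (PicF.XTproj f (sO k (E k K C n)))
      (Spec.map (CommRingCat.ofHom (em k K φ n).toRingHom)) :=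
    Groth.Agent.Picfga.HilbPull.isPullback_XTmap f (sM (em k K φ n))
  exact h1.paste_vert (isPullback_spec K φ n)

theorem zd_pC (n : ℕ) (i : Fin (n + 1)) : (zd f K C n i).left ≫ pC f K C n = pC f K C (n + 1) := by
  change PicF.XTmap f (sM (d k K C n i)) ≫ (PicF.XTproj f (sO k (E k K C n)) ≫ _) = _
  rw [← Category.assoc, Groth.Agent.Fga.RigGrp.XTmap_XTproj, Category.assoc]
  change _ ≫ Spec.map _ ≫ Spec.map _ = _ ≫ Spec.map _
  rw [← Spec.map_comp, ← CommRingCat.ofHom_comp]
  congr 3
  exact congrArg AlgHom.toRingHom (d_inn k K C n i)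

end Geom

end K349.Tow2
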